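import Cfsg.Agent.Lib.JTwoType.FiveNormalizer

/-!
# Groups of Hall–Janko type: Sylow 5-structure
-/

set_option autoImplicit false

namespace CfsgLib.JTwoType

open Subgroup CfsgLib.Invol
open scoped Pointwise

universe u

variable {G : Type u} [Group G] [Finite G]

namespace Data

variable (D : Data G) [Fact (Nat.Prime 5)]

include D in
/-- A Sylow 5-subgroup through an element of `B`. -/
theorem exists_sylow5_b : ∃ b ∈ D.B, orderOf b = 5 ∧ ∃ P : Sylow 5 G, b ∈ (P : Subgroup G) := by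
  obtain ⟨b, hb, hbo⟩ := D.exists_bElt (p := 5) (Or.inr rfl)
  obtain ⟨P, hP⟩ := (IsPGroup.of_card (n := 1) (by rw [Nat.card_zpowers, hbo, pow_one]) :
    IsPGroup 5 (zpowers b)).exists_le_sylow
  exact ⟨b, hb, hbo, P, hP (mem_zpowers b)⟩

include D in
theorem sylow5_data (P : Sylow 5 G) :
    centralizer ((P : Subgroup G) : Set G) = P ∧ Nat.card P = 25 ∧
      Nat.card (normalizer ((P : Subgroup G) : Set G)) = 300 := by
  obtain ⟨b, hb, hbo, P₀, hbP⟩ := D.exists_sylow5_b
  obtain ⟨g, rfl⟩ := MulAction.exists_smul_eq G P₀ P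
  refine ⟨?_, D.sylow5_card _, ?_⟩
  · ext a
    have h := D.cent_sylow5_le hb hbo P₀ hbP
    obtain ⟨a', rfl⟩ : ∃ a', g * a' * g⁻¹ = a := ⟨g⁻¹ * a * g, by group⟩
    have hmem : ∀ c, g * c * g⁻¹ ∈ ((g • P₀ : Sylow 5 G) : Subgroup G) ↔ c ∈ (P₀ : Subgroup G) :=
      fun c => ⟨fun ⟨d, hd, e⟩ => by
        have : d = c := mul_left_cancel (mul_right_cancel (e : g * d * g⁻¹ = g * c * g⁻¹))
        exact this ▸ hd, fun hc => ⟨c, hc, rfl⟩⟩
    rw [hmem]
    conv_rhs => rw [← h]
    rw [mem_centralizer_iff, mem_centralizer_iff]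
    constructor
    · intro ha c hc
      exact (Commute.conj_iff g).1 (ha _ ((hmem c).2 hc) : Commute (g * c * g⁻¹) (g * a' * g⁻¹))
    · rintro ha _ ⟨c, hc, rfl⟩
      exact (Commute.conj_iff g).2 (ha c hc : Commute c a')
  · rw [← D.card_normalizer5 hb hbo P₀ hbP]
    refine (Nat.card_congr ((MulAut.conj g).toEquiv.subtypeEquiv fun a => ?_)).symm
    exact mem_normalizer_smul.symm

include D in
theorem sylow5_classes :
    ∃ X Y : Subgroup G, Nat.card X = 5 ∧ Nat.card Y = 5 ∧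
      (∀ g : G, X.map (MulAut.conj g).toMonoidHom ≠ Y) ∧
      ∀ W : Subgroup G, Nat.card W = 5 →
        ∃ g : G, W.map (MulAut.conj g).toMonoidHom = X ∨ W.map (MulAut.conj g).toMonoidHom = Y := by
  classical
  obtain ⟨b, hb, hbo, P, hbP⟩ := D.exists_sylow5_b
  obtain ⟨y, hy, hyo⟩ := D.exists_zElt (p := 5) (Or.inr rfl)
  have hb1 : b ≠ 1 := fun e => by rw [e, orderOf_one] at hbo; omega
  have hy1 : y ≠ 1 := fun e => by rw [e, orderOf_one] at hyo; omega
  have hconjmem : ∀ x : G, orderOf x = 5 → ∃ g, g * x * g⁻¹ ∈ (P : Subgroup G) := by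
    intro x hx
    obtain ⟨T, hT⟩ := (IsPGroup.of_card (n := 1) (by rw [Nat.card_zpowers, hx, pow_one]) :
      IsPGroup 5 (zpowers x)).exists_le_sylow
    obtain ⟨g, rfl⟩ := MulAction.exists_smul_eq G T P
    exact ⟨g, ⟨x, hT (mem_zpowers x), rfl⟩⟩
  obtain ⟨k, hk⟩ := hconjmem y hyo
  -- every element of `P` is conjugate into one of the two subgroups
  have hcases : ∀ x ∈ (P : Subgroup G), x ≠ 1 →
      ∃ g, g * x * g⁻¹ ∈ zpowers y ∨ g * x * g⁻¹ ∈ zpowers b := by
    intro x hx hx1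
    set N := normalizer ((P : Subgroup G) : Set G) with hN
    have hPN : (P : Subgroup G) ≤ N := Subgroup.le_normalizer
    have h5 : ∀ a ∈ (P : Subgroup G), a ≠ 1 → orderOf a = 5 := fun a ha ha1 =>
      orderOf_eq_prime ((D.exists_inverting hb hbo P hbP).choose_spec.2.2.2 a ha) ha1
    have hxo := h5 x hx hx1
    by_contra hno
    have hodd : ∀ a ∈ (P : Subgroup G), a ≠ 1 → (¬ ∃ g, g * a * g⁻¹ ∈ zpowers y ∨ g * a * g⁻¹ ∈ zpowers b) →
        Nat.card (nOrbit N a) = 12 := by
      intro a ha ha1 hna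
      have h := card_orbit_mul N (hPN ha)
      rw [D.card_normalizer5 hb hbo P hbP] at h
      set K := N ⊓ centralizer ({a} : Set G) with hK
      have hPK : (P : Subgroup G) ≤ K :=
        le_inf hPN fun c hc => mem_cent.2 (D.sylow5_comm P c hc a ha)
      have h25 : 25 ∣ Nat.card K := D.sylow5_card P ▸ card_dvd_of_le hPK
      have h2 : ¬ 2 ∣ Nat.card K := fun h2 => by
        haveI : Fact (Nat.Prime 2) := ⟨Nat.prime_two⟩
        obtain ⟨w, hw⟩ := exists_prime_orderOf_dvd_card' (G := K) 2 h2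
        exact hna (D.even_class (Or.inr rfl) hy hyo hb hbo (h5 a ha ha1)
          ((Subgroup.orderOf_coe w).trans hw) (mem_cent.1 w.2.2))
      have h3 : ¬ 3 ∣ Nat.card K := fun h3 => by
        haveI : Fact (Nat.Prime 3) := ⟨Nat.prime_three⟩
        obtain ⟨d, hd⟩ := exists_prime_orderOf_dvd_card' (G := K) 3 h3
        have hd3 : (d : G) ^ 3 = 1 := by
          have := pow_orderOf_eq_one d; rw [hd] at this; exact congrArg Subtype.val this
        have hfix := card_fixed_set (S := ((P : Subgroup G) : Set G)) hd3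
          fun s hs => (mem_normalizer_iff.1 d.2.1 s).1 hs
        have hP' : Nat.card ↥((P : Subgroup G) : Set G) = 25 := D.sylow5_card P
        rw [hP', show Nat.card {s : G // s ∈ ((P : Subgroup G) : Set G) ∧ Commute (d : G) s} =
          Nat.card ((P : Subgroup G) ⊓ centralizer ({(d : G)} : Set G) : Subgroup G) from
            Nat.card_congr (Equiv.subtypeEquivRight fun q =>
              ⟨fun h => ⟨h.1, mem_cent.2 h.2.symm⟩, fun h => ⟨h.1, (mem_cent.1 h.2).symm⟩⟩)] at hfix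
        set F := (P : Subgroup G) ⊓ centralizer ({(d : G)} : Set G) with hF
        have haF : a ∈ F := ⟨ha, mem_cent.2 (mem_cent.1 d.2.2).symm⟩
        have hd5 : 5 ∣ Nat.card F := h5 a ha ha1 ▸ Subgroup.orderOf_dvd_natCard F haF
        have hdvd : Nat.card F ∣ 25 := D.sylow5_card P ▸ card_dvd_of_le inf_le_left
        have h25F : Nat.card F = 25 := by
          have hq := Nat.mem_divisors.2 ⟨hdvd, by norm_num⟩
          rw [show Nat.divisors 25 = {1, 5, 25} from by decide] at hq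
          simp only [Finset.mem_insert, Finset.mem_singleton] at hq
          rw [Nat.ModEq] at hfix
          omega
        have heq := Subgroup.eq_of_le_of_card_ge (inf_le_left : F ≤ P)
          (by rw [h25F, D.sylow5_card P])
        have hdc : (d : G) ∈ centralizer ((P : Subgroup G) : Set G) := by
          refine mem_centralizer_iff.2 fun c hc => ?_
          rw [← heq] at hc
          exact (mem_cent.1 hc.2).eq
        rw [D.cent_sylow5_le hb hbo P hbP] at hdc
        have := Subgroup.orderOf_dvd_natCard (P : Subgroup G) hdc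
        rw [D.sylow5_card P, Subgroup.orderOf_coe, hd] at this
        norm_num at this
      obtain ⟨l, hl⟩ := h25
      have hl12 : Nat.card (nOrbit N a) * l = 12 := by rw [hl] at h; nlinarith
      have hd : l ∈ Nat.divisors 12 := Nat.mem_divisors.2 ⟨Dvd.intro_left _ hl12, by norm_num⟩
      rw [show Nat.divisors 12 = {1, 2, 3, 4, 6, 12} from by decide] at hd
      simp only [Finset.mem_insert, Finset.mem_singleton] at hd
      rw [hl] at h2 h3
      rcases hd with rfl | rfl | rfl | rfl | rfl | rfl <;> omega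
    have hx12 := hodd x hx hx1 hno
    -- orbits of `b`, `b²` and of a conjugate of `y`
    have hstab : ∀ a ∈ (P : Subgroup G), a ≠ 1 → (∃ g, g * a * g⁻¹ ∈ zpowers b) →
        Nat.card (nOrbit N a) = 6 := by
      rintro a ha ha1 ⟨g, hg⟩
      have h := card_orbit_mul N (hPN ha)
      rw [D.card_normalizer5 hb hbo P hbP, D.card_stab hb hbo P ha hg ha1] at h
      omega
    set y' := k * y * k⁻¹ with hy'
    have hy'1 : y' ≠ 1 := conj_ne_one hy1
    have hbsq : b ^ 2 ≠ 1 := fun e => by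
      have := orderOf_dvd_of_pow_eq_one e; rw [hbo] at this; norm_num at this
    have hbsqP : b ^ 2 ∈ (P : Subgroup G) := pow_mem hbP 2
    have o1 := hstab b hbP hb1 ⟨1, by simp [mem_zpowers]⟩
    have o2 := hstab (b ^ 2) hbsqP hbsq ⟨1, by simp [pow_mem (mem_zpowers b) 2]⟩
    have d12 : Disjoint (nOrbit N b) (nOrbit N (b ^ 2)) := nOrbit_disjoint fun ⟨n, _, he⟩ => by
      rcases D.conj_in_zpowers5 hb hbo (g := n) (by rw [he]; exact pow_mem (mem_zpowers b) 2) with e | e
      · exact hb1 (mul_left_cancel (a := b) ((pow_two b).symm.trans (he.symm.trans e) |>.trans (mul_one b).symm))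
      · have h3 : b ^ 3 = 1 := by rw [pow_succ', he.symm.trans e, mul_inv_cancel]
        have := orderOf_dvd_of_pow_eq_one h3; rw [hbo] at this; norm_num at this
    have dx : ∀ a, (∃ g, g * a * g⁻¹ ∈ zpowers y ∨ g * a * g⁻¹ ∈ zpowers b) → x ∉ nOrbit N a := by
      rintro a ⟨g, hg⟩ ⟨n, -, he⟩
      refine hno ⟨g * n⁻¹, ?_⟩
      rwa [← he, show g * n⁻¹ * (n * a * n⁻¹) * (g * n⁻¹)⁻¹ = g * a * g⁻¹ by group]
    have dy : ∀ a, (∃ g, g * a * g⁻¹ ∈ zpowers b) → y' ∉ nOrbit N a := by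
      rintro a ⟨g, hg⟩ ⟨n, -, he⟩
      have h2 : (g * n⁻¹ * k) * y * (g * n⁻¹ * k)⁻¹ ∈ zpowers b := by
        rwa [show (g * n⁻¹ * k) * y * (g * n⁻¹ * k)⁻¹ = g * (n⁻¹ * (k * y * k⁻¹) * n) * g⁻¹ by group,
          show k * y * k⁻¹ = n * a * n⁻¹ from he.symm, show n⁻¹ * (n * a * n⁻¹) * n = a by group]
      have h3 := mem_zpowers_symm h2 hbo (conj_ne_one hy1)
      refine D.not_conj_zb (g := (g * n⁻¹ * k)⁻¹) (Or.inr rfl) hy hyo hb hbo ?_
      obtain ⟨i, hi⟩ := mem_zpowers_iff.1 h3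
      refine mem_zpowers_iff.2 ⟨i, ?_⟩
      rw [conj_zpow] at hi
      rw [← hi]; group
    have dxy : x ∉ nOrbit N y' := dx y' ⟨k⁻¹, Or.inl (by
      rw [hy']; simp [mul_assoc, mem_zpowers])⟩
    have hsub : nOrbit N b ∪ nOrbit N (b ^ 2) ∪ nOrbit N x ∪ {y'} ⊆
        ((P : Subgroup G) : Set G) \ {1} :=
      Set.union_subset (Set.union_subset (Set.union_subset (nOrbit_subset P hbP hb1)
        (nOrbit_subset P hbsqP hbsq)) (nOrbit_subset P hx hx1))
        (Set.singleton_subset_iff.2 ⟨hk, hy'1⟩)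
    have hle := Set.ncard_le_ncard hsub (Set.toFinite _)
    rw [Set.ncard_union_eq ?_ (Set.toFinite _) (Set.toFinite _),
      Set.ncard_union_eq ?_ (Set.toFinite _) (Set.toFinite _),
      Set.ncard_union_eq d12 (Set.toFinite _) (Set.toFinite _), Set.ncard_singleton,
      Set.ncard_sdiff_singleton_of_mem (one_mem (P : Subgroup G) : (1 : G) ∈ ((P : Subgroup G) : Set G)),
      ← Nat.card_coe_set_eq, ← Nat.card_coe_set_eq, ← Nat.card_coe_set_eq, ← Nat.card_coe_set_eq,
      o1, o2, hx12, show Nat.card ↥((P : Subgroup G) : Set G) = 25 from D.sylow5_card P] at hle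
    · omega
    · rw [Set.disjoint_union_left]
      exact ⟨nOrbit_disjoint (dx b ⟨1, Or.inr (by simp [mem_zpowers])⟩),
        nOrbit_disjoint (dx _ ⟨1, Or.inr (by simp [pow_mem (mem_zpowers b) 2])⟩)⟩
    · rw [Set.disjoint_singleton_right]
      rintro ((h | h) | h)
      · exact dy b ⟨1, by simp [mem_zpowers]⟩ h
      · exact dy _ ⟨1, by simp [pow_mem (mem_zpowers b) 2]⟩ h
      · obtain ⟨n, hn, he⟩ := h
        exact dxy ⟨n⁻¹, inv_mem hn, by rw [← he]; group⟩
  have hXcard : Nat.card (zpowers b) = 5 := (Nat.card_zpowers b).trans hbo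
  have hYcard : Nat.card (zpowers y) = 5 := (Nat.card_zpowers y).trans hyo
  refine ⟨zpowers b, zpowers y, hXcard, hYcard, fun g hg => ?_, fun W hW => ?_⟩
  · refine D.not_conj_zb (g := g) (Or.inr rfl) hy hyo hb hbo ?_
    rw [← hg]; exact ⟨b, mem_zpowers b, rfl⟩
  obtain ⟨w, hw⟩ := exists_prime_orderOf_dvd_card' (G := W) 5 (by rw [hW])
  have hwo : orderOf (w : G) = 5 := (Subgroup.orderOf_coe w).trans hw
  have hw1 : (w : G) ≠ 1 := fun e => by rw [e, orderOf_one] at hwo; omega
  obtain ⟨h, hh⟩ := hconjmem w hwo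
  obtain ⟨g, hg⟩ := hcases _ hh (conj_ne_one hw1)
  have hmap : ∀ c : G, orderOf c = 5 → (g * h) * (w : G) * (g * h)⁻¹ ∈ zpowers c →
      W.map (MulAut.conj (g * h)).toMonoidHom = zpowers c := by
    intro c hc hmem
    have hWz : W = zpowers (w : G) := (Subgroup.eq_of_le_of_card_ge (zpowers_le.2 w.2)
      (by rw [Nat.card_zpowers, hwo, hW])).symm
    refine Subgroup.eq_of_le_of_card_ge ?_ ?_
    · rw [hWz, MonoidHom.map_zpowers, zpowers_le]; exact hmem
    · rw [Nat.card_zpowers, hc, Subgroup.card_map_of_injective (MulAut.conj (g * h)).injective, hW]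
  refine ⟨g * h, ?_⟩
  have e : (g * h) * (w : G) * (g * h)⁻¹ = g * (h * w * h⁻¹) * g⁻¹ := by group
  rcases hg with hg | hg
  · exact Or.inr (hmap y hyo (e ▸ hg))
  · exact Or.inl (hmap b hbo (e ▸ hg))

end Data

end CfsgLib.JTwoType
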