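import Cfsg.Agent.Lib.Invol.Counting
import Mathlib.GroupTheory.Sylow
import Mathlib.Algebra.Group.Subgroup.Pointwise
import Mathlib.Tactic

/-!
# A four-group which is the centralizer of each of its involutions

If in addition all involutions are conjugate, the group has order 12 or 60. The proof counts pairs
of involutions by their product.
-/

set_option autoImplicit false

namespace CfsgLib.JTwoType

open CfsgLib.Invol Subgroup
open scoped Pointwise

variable {X : Type*} [Group X] [Finite X]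

/-- A fixed-point-free automorphism of order two given by conjugation is inversion. -/
theorem inverts_of_fpf (A : Subgroup X) {u : X} (hu : u * u = 1)
    (hn : ∀ a ∈ A, u * a * u⁻¹ ∈ A) (hfix : ∀ a ∈ A, u * a * u⁻¹ = a → a = 1) :
    ∀ a ∈ A, u * a * u⁻¹ = a⁻¹ := by
  have hui : u⁻¹ = u := inv_eq_of_mul_eq_one_right hu
  let f : A → A := fun a => ⟨(a : X)⁻¹ * (u * a * u⁻¹), mul_mem (inv_mem a.2) (hn a a.2)⟩
  have hinj : Function.Injective f := by
    intro a b hab
    have h : (a : X)⁻¹ * (u * a * u⁻¹) = (b : X)⁻¹ * (u * b * u⁻¹) := congrArg Subtype.val hab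
    have h2 : u * (b * (a : X)⁻¹) * u⁻¹ = b * (a : X)⁻¹ := by
      calc u * (b * (a : X)⁻¹) * u⁻¹
          = b * ((b : X)⁻¹ * (u * b * u⁻¹)) * (u * a * u⁻¹)⁻¹ := by group
        _ = b * ((a : X)⁻¹ * (u * a * u⁻¹)) * (u * a * u⁻¹)⁻¹ := by rw [h]
        _ = b * (a : X)⁻¹ := by group
    exact Subtype.ext (mul_inv_eq_one.1 (hfix _ (mul_mem b.2 (inv_mem a.2)) h2)).symm
  intro a ha
  obtain ⟨c, hc⟩ := Finite.surjective_of_injective hinj ⟨a, ha⟩
  have hc' : (c : X)⁻¹ * (u * c * u⁻¹) = a := congrArg Subtype.val hc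
  rw [← hc', hui]
  calc u * ((c : X)⁻¹ * (u * c * u)) * u = u * (c : X)⁻¹ * u * c * (u * u) := by group
    _ = u * (c : X)⁻¹ * u⁻¹ * c := by rw [hu, mul_one, hui]
    _ = u⁻¹ * (c : X)⁻¹ * u⁻¹ * c := by rw [hui]
    _ = ((c : X)⁻¹ * (u * c * u))⁻¹ := by group

/-- The hypotheses on the four-group. -/
structure FourHyp (V : Subgroup X) : Prop where
  card : Nat.card V = 4
  sq : ∀ v ∈ V, v * v = 1
  cent : ∀ v ∈ V, v ≠ 1 → centralizer ({v} : Set X) = V
  conj : ∀ x : X, orderOf x = 2 → ∃ g : X, g * x * g⁻¹ ∈ V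
  one : ∀ x y : X, orderOf x = 2 → orderOf y = 2 → IsConj x y

namespace FourHyp

variable {V : Subgroup X} (h : FourHyp V)
include h

theorem exists_invol : ∃ u : X, orderOf u = 2 := by
  haveI : Nontrivial V :=
    Finite.one_lt_card_iff_nontrivial.1 (show 1 < Nat.card V by rw [h.card]; norm_num)
  obtain ⟨v, hv⟩ := exists_ne (1 : V)
  exact ⟨v, orderOf_eq_two (fun e => hv (Subtype.ext e)) (h.sq v v.2)⟩

theorem cent_invol {x : X} (hx : orderOf x = 2) :
    Nat.card (centralizer ({x} : Set X)) = 4 ∧ ∀ g ∈ centralizer ({x} : Set X), g * g = 1 := by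
  obtain ⟨k, hk⟩ := h.conj x hx
  have hne : k * x * k⁻¹ ≠ 1 := ne_one_of_invol ((orderOf_conj k x).trans hx)
  have hC := h.cent _ hk hne
  have hmem : ∀ g, g ∈ centralizer ({x} : Set X) ↔ k * g * k⁻¹ ∈ V := by
    intro g
    rw [← hC, mem_centralizer_singleton_iff, mem_centralizer_singleton_iff]
    constructor
    · intro hg
      calc k * g * k⁻¹ * (k * x * k⁻¹) = k * (g * x) * k⁻¹ := by group
        _ = k * (x * g) * k⁻¹ := by rw [hg]
        _ = k * x * k⁻¹ * (k * g * k⁻¹) := by group
    · intro hg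
      calc g * x = k⁻¹ * (k * g * k⁻¹ * (k * x * k⁻¹)) * k := by group
        _ = k⁻¹ * (k * x * k⁻¹ * (k * g * k⁻¹)) * k := by rw [hg]
        _ = x * g := by group
  refine ⟨?_, fun g hg => ?_⟩
  · rw [← h.card]
    exact Nat.card_congr ((MulAut.conj k).toEquiv.subtypeEquiv fun g => by simpa using hmem g)
  · have := h.sq _ ((hmem g).1 hg)
    rw [conj_mul] at this
    have h2 := congrArg (fun y => k⁻¹ * y * k) this
    simpa [mul_assoc] using h2

theorem card_invol : 4 * Nat.card {u : X // orderOf u = 2} = Nat.card X := by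
  obtain ⟨u, hu⟩ := h.exists_invol
  have e : Nat.card {x : X // orderOf x = 2} = Nat.card {x : X // IsConj u x} :=
    Nat.card_congr (Equiv.subtypeEquivRight fun x =>
      ⟨fun hx => h.one u x hu hx, fun hc => orderOf_eq_two_of_isConj hu hc⟩)
  rw [e, card_isConj_eq_index, ← (centralizer ({u} : Set X)).card_mul_index, (h.cent_invol hu).1]

omit h in
/-- Elements other than involutions inverted by an involution. -/
def Real' (g : X) : Prop := g * g ≠ 1 ∧ ∃ u : X, orderOf u = 2 ∧ u * g * u⁻¹ = g⁻¹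

omit [Finite X] h in
theorem real_ne_one {g : X} (hg : Real' g) : g ≠ 1 := fun e => hg.1 (by rw [e, one_mul])

theorem odd_cent {g : X} (hg : Real' g) : Odd (Nat.card (centralizer ({g} : Set X))) := by
  by_contra hodd
  haveI : Fact (Nat.Prime 2) := ⟨Nat.prime_two⟩
  obtain ⟨w, hw⟩ := exists_prime_orderOf_dvd_card' 2
    (even_iff_two_dvd.1 (Nat.not_odd_iff_even.1 hodd))
  have hw2 : orderOf (w : X) = 2 := (Subgroup.orderOf_coe w).trans hw
  exact hg.1 ((h.cent_invol hw2).2 g
    (mem_centralizer_singleton_iff.2 (mem_centralizer_singleton_iff.1 w.2).symm))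

theorem eq_one_of_sq {g a : X} (hg : Real' g) (ha : a ∈ centralizer ({g} : Set X))
    (h2 : a * a = 1) : a = 1 := by
  by_contra hne
  have hd : orderOf a ∣ Nat.card (centralizer ({g} : Set X)) := by
    rw [← Subgroup.orderOf_mk a ha]; exact orderOf_dvd_natCard _
  rw [orderOf_eq_two hne h2] at hd
  exact Nat.not_even_iff_odd.2 (h.odd_cent hg) (even_iff_two_dvd.2 hd)

theorem inverts {g u : X} (hg : Real' g) (hu : orderOf u = 2) (hug : u * g * u⁻¹ = g⁻¹) :
    ∀ a ∈ centralizer ({g} : Set X), u * a * u⁻¹ = a⁻¹ := by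
  refine inverts_of_fpf _ (mul_self_eq_one hu) (fun a ha => ?_) fun a ha hfix => ?_
  · rw [mem_centralizer_singleton_iff'] at ha ⊢
    have h2 : u * g⁻¹ * u⁻¹ = g := by
      rw [show u * g⁻¹ * u⁻¹ = (u * g * u⁻¹)⁻¹ by group, hug, inv_inv]
    have h3 : u⁻¹ * g * u = g⁻¹ := by
      calc u⁻¹ * g * u = u⁻¹ * (u * g⁻¹ * u⁻¹) * u := by rw [h2]
        _ = g⁻¹ := by group
    calc u * a * u⁻¹ * g * (u * a * u⁻¹)⁻¹ = u * (a * (u⁻¹ * g * u) * a⁻¹) * u⁻¹ := by group
      _ = u * (a * g⁻¹ * a⁻¹) * u⁻¹ := by rw [h3]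
      _ = u * (a * g * a⁻¹)⁻¹ * u⁻¹ := by group
      _ = g := by rw [ha, h2]
  · refine h.eq_one_of_sq hg ha ((h.cent_invol hu).2 a (mem_centralizer_singleton_iff.2 ?_))
    exact (mul_inv_eq_iff_eq_mul.1 hfix).symm

theorem cent_comm {g : X} (hg : Real' g) : ∀ a ∈ centralizer ({g} : Set X),
    ∀ b ∈ centralizer ({g} : Set X), a * b = b * a := by
  obtain ⟨u, hu, hug⟩ := hg.2
  intro a ha b hb
  have h1 : u * (a * b) * u⁻¹ = a⁻¹ * b⁻¹ := by
    rw [← conj_mul, h.inverts hg hu hug a ha, h.inverts hg hu hug b hb]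
  rw [h.inverts hg hu hug _ (mul_mem ha hb)] at h1
  rw [← inv_inv (a * b), h1]; group

theorem of_mem_cent {g a : X} (hg : Real' g) (ha : a ∈ centralizer ({g} : Set X)) (h1 : a ≠ 1) :
    Real' a ∧ centralizer ({a} : Set X) = centralizer ({g} : Set X) := by
  obtain ⟨u, hu, hug⟩ := hg.2
  have hra : Real' a :=
    ⟨fun e => h1 (h.eq_one_of_sq hg ha e), u, hu, h.inverts hg hu hug a ha⟩
  refine ⟨hra, le_antisymm (fun b hb => ?_) fun b hb => ?_⟩
  · exact mem_centralizer_singleton_iff.2 (h.cent_comm hra b hb g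
      (mem_centralizer_singleton_iff.2 (mem_centralizer_singleton_iff.1 ha).symm))
  · exact mem_centralizer_singleton_iff.2 (h.cent_comm hg b hb a ha)

theorem card_inverters {g : X} (hg : Real' g) :
    Nat.card {t : X // orderOf t = 2 ∧ t * g * t⁻¹ = g⁻¹} =
      Nat.card (centralizer ({g} : Set X)) := by
  obtain ⟨u, hu, hug⟩ := hg.2
  rw [← card_inverting_of_isConj (isConj_iff.2 ⟨u, hug⟩)]
  refine Nat.card_congr (Equiv.subtypeEquivRight fun t => ⟨And.right, fun ht => ⟨?_, ht⟩⟩)
  have hc : u⁻¹ * t ∈ centralizer ({g} : Set X) := by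
    rw [mem_centralizer_singleton_iff']
    calc u⁻¹ * t * g * (u⁻¹ * t)⁻¹ = u⁻¹ * (t * g * t⁻¹) * u := by group
      _ = u⁻¹ * (u * g * u⁻¹) * u := by rw [ht, hug]
      _ = g := by group
  have hi := h.inverts hg hu hug _ hc
  refine orderOf_eq_two ?_ ?_
  · rintro rfl
    rw [one_mul, inv_one, mul_one] at ht
    exact hg.1 (by nth_rw 1 [ht]; exact inv_mul_cancel g)
  · calc t * t = u * (u⁻¹ * t) * u⁻¹ * (u * u) * (u⁻¹ * t) := by group
      _ = 1 := by rw [hi, mul_self_eq_one hu, mul_one, inv_mul_cancel]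

theorem fusion {g a b n : X} (hg : Real' g) (ha : a ∈ centralizer ({g} : Set X))
    (hb : b ∈ centralizer ({g} : Set X)) (ha1 : a ≠ 1) (hn : n * a * n⁻¹ = b) :
    b = a ∨ b = a⁻¹ := by
  set A := centralizer ({g} : Set X) with hA
  have hb1 : b ≠ 1 := by
    rintro rfl
    exact ha1 (conj_eq_one_iff.1 hn)
  have hCa := (h.of_mem_cent hg ha ha1).2
  have hCb := (h.of_mem_cent hg hb hb1).2
  obtain ⟨u, hu, hug⟩ := hg.2
  have hnA : ∀ c ∈ A, n * c * n⁻¹ ∈ A := by
    intro c hc
    show n * c * n⁻¹ ∈ A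
    rw [← show centralizer ({b} : Set X) = A from hCb, mem_centralizer_singleton_iff, ← hn, conj_mul, conj_mul]
    rw [← show centralizer ({a} : Set X) = A from hCa, mem_centralizer_singleton_iff] at hc
    rw [hc]
  set m := u⁻¹ * (n * u * n⁻¹) with hm
  have hmA : m ∈ A := by
    rw [← show centralizer ({b} : Set X) = A from hCb, mem_centralizer_singleton_iff']
    have h1 : u * b * u⁻¹ = b⁻¹ := h.inverts hg hu hug b hb
    have h2 : n * u * n⁻¹ * b * (n * u * n⁻¹)⁻¹ = b⁻¹ := by
      rw [← hn, show n * u * n⁻¹ * (n * a * n⁻¹) * (n * u * n⁻¹)⁻¹ = n * (u * a * u⁻¹) * n⁻¹ by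
        group, h.inverts hg hu hug a ha, conj_inv]
    calc m * b * m⁻¹ = u⁻¹ * (n * u * n⁻¹ * b * (n * u * n⁻¹)⁻¹) * u := by rw [hm]; group
      _ = u⁻¹ * (u * b * u⁻¹) * u := by rw [h2, h1]
      _ = b := by group
  obtain ⟨j, hj⟩ := h.odd_cent hg
  set k := m ^ (j + 1) with hk
  have hkk : k * k = m := by
    have h1 : m ^ (Nat.card A) = 1 := by
      have := pow_card_eq_one' (x := (⟨m, hmA⟩ : A))
      exact congrArg Subtype.val this
    rw [hk, ← pow_add, show j + 1 + (j + 1) = Nat.card A + 1 by rw [hA, hj]; omega, pow_succ, h1,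
      one_mul]
  have hkA : k ∈ A := pow_mem hmA _
  set w := k * n with hw
  have hwu : w * u = u * w := by
    have h1 : u * k⁻¹ = k * u := by
      have h0 := h.inverts hg hu hug k hkA
      have h0' : u * k⁻¹ * u⁻¹ = k := by
        rw [show u * k⁻¹ * u⁻¹ = (u * k * u⁻¹)⁻¹ by group, h0, inv_inv]
      calc u * k⁻¹ = u * k⁻¹ * u⁻¹ * u := by group
        _ = k * u := by rw [h0']
    calc w * u = k * u * (u⁻¹ * (n * u * n⁻¹)) * n := by rw [hw]; group
      _ = k * u * m * n := by rw [hm]
      _ = u * k⁻¹ * (k * k) * n := by rw [h1, hkk]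
      _ = u * w := by rw [hw]; group
  have hconj : w * a * w⁻¹ = b := by
    rw [hw, show k * n * a * (k * n)⁻¹ = k * (n * a * n⁻¹) * k⁻¹ by group, hn,
      mul_inv_eq_iff_eq_mul]
    exact h.cent_comm hg k hkA b hb
  have hw2 : w * w = 1 := (h.cent_invol hu).2 w (mem_centralizer_singleton_iff.2 hwu)
  by_cases hw1 : w = 1
  · left; rw [← hconj, hw1]; group
  have hwA : ∀ c ∈ A, w * c * w⁻¹ ∈ A := fun c hc => by
    rw [hw, show k * n * c * (k * n)⁻¹ = k * (n * c * n⁻¹) * k⁻¹ by group]
    exact mul_mem (mul_mem hkA (hnA c hc)) (inv_mem hkA)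
  have hwinv := inverts_of_fpf A hw2 hwA fun c hc hfix => h.eq_one_of_sq hg hc
    ((h.cent_invol (orderOf_eq_two hw1 hw2)).2 c
      (mem_centralizer_singleton_iff.2 (mul_inv_eq_iff_eq_mul.1 hfix).symm))
  right
  rw [← hconj, hwinv a ha]

/-- The group has order 12 or 60; in the second case elements of order 3 and 5 generate their
centralizers. -/
theorem card_cases : Nat.card X = 12 ∨ (Nat.card X = 60 ∧
    ∀ g : X, orderOf g = 3 ∨ orderOf g = 5 →
      Nat.card (centralizer ({g} : Set X)) = orderOf g) := by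
  classical
  haveI := Fintype.ofFinite X
  let R : Finset X := Finset.univ.filter fun g => Real' g
  let I : Finset X := Finset.univ.filter fun g => orderOf g = 2
  let c : X → ℕ := fun g => Nat.card (centralizer ({g} : Set X))
  have hX : 4 * I.card = Fintype.card X := by
    rw [← Nat.card_eq_fintype_card, ← h.card_invol, Nat.card_eq_fintype_card, Fintype.card_subtype]
  have hcls : ∀ g : X, (Finset.univ.filter fun y => IsConj g y).card * c g = Fintype.card X := by
    intro g
    rw [← Nat.card_eq_fintype_card (α := X), ← (centralizer ({g} : Set X)).card_mul_index,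
      ← card_isConj_eq_index, Nat.card_eq_fintype_card (α := {u : X // IsConj g u}),
      Fintype.card_subtype, mul_comm]
  have hRconj : ∀ g y : X, g ∈ R → IsConj g y → y ∈ R := by
    intro g y hg hc'
    obtain ⟨k, rfl⟩ := isConj_iff.1 hc'
    obtain ⟨h2, u, hu, hug⟩ := (Finset.mem_filter.1 hg).2
    refine Finset.mem_filter.2 ⟨Finset.mem_univ _, ?_, k * u * k⁻¹, (orderOf_conj k u).trans hu, ?_⟩
    · rw [conj_mul]; exact fun e => h2 (conj_eq_one_iff.1 e)
    · rw [show k * u * k⁻¹ * (k * g * k⁻¹) * (k * u * k⁻¹)⁻¹ = k * (u * g * u⁻¹) * k⁻¹ by group,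
        hug, conj_inv]
  have hcconj : ∀ g y : X, IsConj g y → c g = c y := by
    intro g y hgy
    have h1 := hcls g
    have h2 := hcls y
    have e : (Finset.univ.filter fun z => IsConj g z) = Finset.univ.filter fun z => IsConj y z :=
      Finset.filter_congr fun z _ => ⟨hgy.symm.trans, hgy.trans⟩
    rw [← e] at h2
    exact Nat.eq_of_mul_eq_mul_left (Finset.card_pos.2 ⟨g, Finset.mem_filter.2 ⟨Finset.mem_univ _, IsConj.refl g⟩⟩)
      (h1.trans h2.symm)
  -- pairs of involutions by product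
  have hpairs : I.card * I.card = 3 * I.card + ∑ g ∈ R, c g := by
    let F : X → ℕ := fun g => ((I ×ˢ I).filter fun p => p.1 * p.2 = g).card
    have hF : ∀ g, F g = Nat.card {p : X × X // orderOf p.1 = 2 ∧ orderOf p.2 = 2 ∧ p.1 * p.2 = g} := by
      intro g
      rw [Nat.card_eq_fintype_card, Fintype.card_subtype]
      refine congrArg Finset.card (Finset.ext fun p => ?_)
      simp only [Finset.mem_filter, Finset.mem_product, Finset.mem_univ, true_and, I]
      tauto
    have htot : I.card * I.card = ∑ g, F g := by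
      rw [← Finset.card_product]
      exact Finset.card_eq_sum_card_fiberwise fun p _ => Finset.mem_univ _
    have h1 : F 1 = I.card := by
      rw [hF, ← Fintype.card_subtype, ← Nat.card_eq_fintype_card]
      refine Nat.card_congr
        { toFun := fun p => ⟨p.1.1, p.2.1⟩
          invFun := fun t => ⟨(t.1, t.1), t.2, t.2, mul_self_eq_one t.2⟩
          left_inv := ?_
          right_inv := fun t => rfl }
      rintro ⟨⟨a, b⟩, ha, hb, hab⟩
      refine Subtype.ext (Prod.ext rfl ?_)
      dsimp only at ha hb hab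
      show a = b
      rw [← inv_eq_self ha]; exact inv_eq_of_mul_eq_one_right hab
    have hI : ∀ g ∈ I, F g = 2 := by
      intro g hg
      have hg2 := (Finset.mem_filter.1 hg).2
      have h3 := card_pairs_involution hg2
      rw [← hF] at h3
      have h4 : Nat.card {t : X // orderOf t = 2 ∧ Commute t g} + 1 =
          Nat.card (centralizer ({g} : Set X)) := by
        have e : {t : X | orderOf t = 2 ∧ Commute t g} =
            (centralizer ({g} : Set X) : Set X) \ {1} := by
          ext t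
          constructor
          · exact fun ⟨a, b⟩ => ⟨mem_centralizer_singleton_iff.2 b, ne_one_of_invol a⟩
          · exact fun ⟨a, b⟩ => ⟨orderOf_eq_two b ((h.cent_invol hg2).2 t a),
              mem_centralizer_singleton_iff.1 a⟩
        have h5 := Set.ncard_sdiff_singleton_add_one
          (one_mem (centralizer ({g} : Set X)) : (1 : X) ∈ (centralizer ({g} : Set X) : Set X))
          (Set.toFinite _)
        rw [← e, ← Nat.card_coe_set_eq, ← Nat.card_coe_set_eq] at h5
        exact h5
      rw [(h.cent_invol hg2).1] at h4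
      omega
    have hR : ∀ g ∈ R, F g = c g := by
      intro g hg
      have hg' := (Finset.mem_filter.1 hg).2
      rw [hF, card_pairs_eq (by rw [pow_two]; exact hg'.1), h.card_inverters hg']
    have hrest : ∀ g, g ∉ ({1} ∪ I ∪ R) → F g = 0 := by
      intro g hg
      simp only [Finset.mem_union, Finset.mem_singleton, not_or] at hg
      rw [Finset.card_eq_zero, Finset.filter_eq_empty_iff]
      rintro ⟨a, b⟩ hp hab
      simp only [Finset.mem_product, I, Finset.mem_filter, Finset.mem_univ, true_and] at hp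
      exact hg.2 (Finset.mem_filter.2 ⟨Finset.mem_univ _, fun e => hg.1.2 (Finset.mem_filter.2
        ⟨Finset.mem_univ _, orderOf_eq_two hg.1.1 e⟩), a, hp.1, inverts_of_pair hp.1 hp.2 hab⟩)
    have hd1 : Disjoint ({1} : Finset X) I := by
      rw [Finset.disjoint_singleton_left]
      exact fun e => ne_one_of_invol (Finset.mem_filter.1 e).2 rfl
    have hd2 : Disjoint ({1} ∪ I) R := by
      rw [Finset.disjoint_left]
      intro g hg hgR
      have hR' := (Finset.mem_filter.1 hgR).2
      rcases Finset.mem_union.1 hg with e | e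
      · exact real_ne_one hR' (Finset.mem_singleton.1 e)
      · exact hR'.1 (mul_self_eq_one (Finset.mem_filter.1 e).2)
    rw [htot, ← Finset.sum_subset (Finset.subset_univ ({1} ∪ I ∪ R)) (fun g _ hg => hrest g hg),
      Finset.sum_union hd2, Finset.sum_union hd1, Finset.sum_singleton, h1, Finset.sum_congr rfl hI,
      Finset.sum_congr rfl hR, Finset.sum_const, smul_eq_mul]
    ring
  -- the classes of inverted elements
  let S := R.image ConjClasses.mk
  have hfib : ∀ g : X, g ∈ R → R.filter (fun y => ConjClasses.mk y = ConjClasses.mk g) =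
      Finset.univ.filter fun y => IsConj g y := by
    intro g hg
    ext y
    simp only [Finset.mem_filter, Finset.mem_univ, true_and, ConjClasses.mk_eq_mk_iff_isConj]
    exact ⟨fun e => e.2.symm, fun e => ⟨hRconj g y hg e, e.symm⟩⟩
  have hsum : ∑ g ∈ R, c g = S.card * Fintype.card X := by
    rw [← Finset.sum_fiberwise_of_maps_to (fun g hg => Finset.mem_image_of_mem ConjClasses.mk hg),
      ← smul_eq_mul, ← Finset.sum_const]
    refine Finset.sum_congr rfl fun K hK => ?_
    obtain ⟨g, hg, rfl⟩ := Finset.mem_image.1 hK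
    rw [hfib g hg, Finset.sum_congr rfl (fun y hy => (hcconj g y (Finset.mem_filter.1 hy).2).symm),
      Finset.sum_const, smul_eq_mul, hcls]
  have hM : I.card = 3 + 4 * S.card := by
    have hpos : 0 < I.card := by
      obtain ⟨u, hu⟩ := h.exists_invol
      exact Finset.card_pos.2 ⟨u, Finset.mem_filter.2 ⟨Finset.mem_univ _, hu⟩⟩
    rw [hsum, ← hX] at hpairs
    nlinarith [hpairs]
  have hbound : 1 + I.card + R.card ≤ 4 * I.card := by
    rw [hX, ← Finset.card_singleton (1 : X), ← Finset.card_union_of_disjoint, ←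
      Finset.card_union_of_disjoint]
    · exact Finset.card_le_univ _
    · rw [Finset.disjoint_left]
      intro g hg hgR
      have hR' := (Finset.mem_filter.1 hgR).2
      rcases Finset.mem_union.1 hg with e | e
      · exact real_ne_one hR' (Finset.mem_singleton.1 e)
      · exact hR'.1 (mul_self_eq_one (Finset.mem_filter.1 e).2)
    · rw [Finset.disjoint_singleton_left]
      exact fun e => ne_one_of_invol (Finset.mem_filter.1 e).2 rfl
  -- the classes meeting the centralizer of one element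
  let SA : X → Finset (ConjClasses X) := fun g =>
    (Finset.univ.filter fun a => a ∈ centralizer ({g} : Set X) ∧ a ≠ 1).image ConjClasses.mk
  let RA : X → Finset X := fun g => R.filter fun y => ConjClasses.mk y ∈ SA g
  have hA : ∀ g ∈ R, 2 * (SA g).card + 1 = c g ∧ 3 ≤ c g ∧
      c g * (RA g).card = (SA g).card * Fintype.card X ∧ g ∈ RA g ∧
      SA g ⊆ S := by
    intro g hg
    have hg' := (Finset.mem_filter.1 hg).2
    set T := Finset.univ.filter fun a => a ∈ centralizer ({g} : Set X) ∧ a ≠ 1 with hT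
    have hTc : T.card + 1 = c g := by
      have e : T = (Finset.univ.filter fun a => a ∈ centralizer ({g} : Set X)).erase 1 := by
        ext a; simp [hT, and_comm]
      rw [e, Finset.card_erase_add_one (by simp [one_mem]), ← Fintype.card_subtype,
        ← Nat.card_eq_fintype_card]
    have h2 : ∀ K ∈ SA g, (T.filter fun a => ConjClasses.mk a = K).card = 2 := by
      intro K hK
      obtain ⟨a, ha, rfl⟩ := Finset.mem_image.1 hK
      obtain ⟨-, haC, ha1⟩ := Finset.mem_filter.1 ha
      obtain ⟨⟨ha2, u, -, hu⟩, -⟩ := h.of_mem_cent hg' haC ha1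
      refine Finset.card_eq_two.2 ⟨a, a⁻¹, fun e => ha2 (by nth_rw 1 [e]; exact inv_mul_cancel a), ?_⟩
      ext b
      simp only [Finset.mem_filter, Finset.mem_insert, Finset.mem_singleton, hT, Finset.mem_univ,
        true_and, ConjClasses.mk_eq_mk_iff_isConj]
      constructor
      · rintro ⟨⟨hbC, -⟩, hba⟩
        obtain ⟨n, hn⟩ := isConj_iff.1 hba.symm
        exact h.fusion hg' haC hbC ha1 hn
      · rintro (rfl | rfl)
        · exact ⟨⟨haC, ha1⟩, IsConj.refl _⟩
        · exact ⟨⟨inv_mem haC, inv_ne_one.2 ha1⟩, (isConj_iff.2 ⟨u, hu⟩).symm⟩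
    have hT2 : T.card = 2 * (SA g).card := by
      rw [Finset.card_eq_sum_card_fiberwise (f := ConjClasses.mk) (t := SA g)
        (fun a ha => Finset.mem_image_of_mem _ ha), Finset.sum_congr rfl h2, Finset.sum_const,
        smul_eq_mul, mul_comm]
    have hgT : g ∈ T := Finset.mem_filter.2 ⟨Finset.mem_univ _,
      mem_centralizer_singleton_iff.2 rfl, real_ne_one hg'⟩
    have hsub : SA g ⊆ S := fun K hK => by
      obtain ⟨a, ha, rfl⟩ := Finset.mem_image.1 hK
      obtain ⟨-, haC, ha1⟩ := Finset.mem_filter.1 ha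
      exact Finset.mem_image_of_mem _
        (Finset.mem_filter.2 ⟨Finset.mem_univ _, (h.of_mem_cent hg' haC ha1).1⟩)
    refine ⟨by omega, ?_, ?_, Finset.mem_filter.2 ⟨hg, Finset.mem_image_of_mem _ hgT⟩, hsub⟩
    · have : 0 < (SA g).card := Finset.card_pos.2 ⟨_, Finset.mem_image_of_mem _ hgT⟩
      omega
    · rw [Finset.card_eq_sum_card_fiberwise (f := ConjClasses.mk) (s := RA g) (t := SA g)
        (fun y hy => (Finset.mem_filter.1 hy).2), Finset.mul_sum, ← smul_eq_mul (a := (SA g).card),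
        ← Finset.sum_const]
      refine Finset.sum_congr rfl fun K hK => ?_
      obtain ⟨a, ha, rfl⟩ := Finset.mem_image.1 hK
      obtain ⟨-, haC, ha1⟩ := Finset.mem_filter.1 ha
      have haR : a ∈ R :=
        Finset.mem_filter.2 ⟨Finset.mem_univ _, (h.of_mem_cent hg' haC ha1).1⟩
      have e : (RA g).filter (fun y => ConjClasses.mk y = ConjClasses.mk a) =
          Finset.univ.filter fun y => IsConj a y := by
        rw [← hfib a haR, Finset.filter_filter]
        refine Finset.filter_congr fun y _ => ⟨And.right, fun e => ⟨by rw [e]; exact hK, e⟩⟩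
      rw [e, mul_comm, show c g = c a by
        show Nat.card _ = Nat.card _
        rw [(h.of_mem_cent hg' haC ha1).2], hcls]
  have hdisj : ∀ g ∈ R, ∀ k ∈ R, k ∉ RA g → Disjoint (SA g) (SA k) := by
    intro g hg k hk hkg
    rw [Finset.disjoint_left]
    intro K hK hK'
    obtain ⟨a, ha, rfl⟩ := Finset.mem_image.1 hK
    obtain ⟨b, hb, hab⟩ := Finset.mem_image.1 hK'
    obtain ⟨-, haC, ha1⟩ := Finset.mem_filter.1 ha
    obtain ⟨-, hbC, hb1⟩ := Finset.mem_filter.1 hb
    obtain ⟨n, hn⟩ := isConj_iff.1 (ConjClasses.mk_eq_mk_iff_isConj.1 hab)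
    have hgC := (h.of_mem_cent (Finset.mem_filter.1 hg).2 haC ha1).2
    have hkC := (h.of_mem_cent (Finset.mem_filter.1 hk).2 hbC hb1).2
    have hkb : k * b = b * k := (mem_centralizer_singleton_iff.1 hbC).symm
    have hk' : n * k * n⁻¹ ∈ centralizer ({g} : Set X) := by
      rw [← hgC, mem_centralizer_singleton_iff, ← hn, conj_mul, conj_mul, hkb]
    refine hkg (Finset.mem_filter.2 ⟨hk, ?_⟩)
    rw [show ConjClasses.mk k = ConjClasses.mk (n * k * n⁻¹) from
      ConjClasses.mk_eq_mk_iff_isConj.2 (isConj_iff.2 ⟨n, rfl⟩)]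
    exact Finset.mem_image_of_mem _ (Finset.mem_filter.2 ⟨Finset.mem_univ _, hk',
      fun e => real_ne_one (Finset.mem_filter.1 hk).2 (conj_eq_one_iff.1 e)⟩)
  have hdiv : ∀ g ∈ R, c g ∣ I.card := by
    intro g hg
    have h1 : c g ∣ 4 * I.card := by
      rw [hX, ← Nat.card_eq_fintype_card]; exact card_subgroup_dvd_card _
    have h2 : Nat.Coprime (c g) 4 :=
      (Nat.coprime_two_right.2 (h.odd_cent (Finset.mem_filter.1 hg).2)).pow_right 2
    exact h2.dvd_of_dvd_mul_left h1
  rcases R.eq_empty_or_nonempty with hR0 | ⟨g₁, hg₁⟩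
  · left
    have : S.card = 0 := by simp [S, hR0]
    rw [Nat.card_eq_fintype_card, ← hX]; omega
  right
  obtain ⟨a1, a3, aR, amem, asub⟩ := hA g₁ hg₁
  by_cases hall : ∀ y ∈ R, y ∈ RA g₁
  · exfalso
    have e : S = SA g₁ := by
      refine Finset.Subset.antisymm (fun K hK => ?_) asub
      obtain ⟨y, hy, rfl⟩ := Finset.mem_image.1 hK
      exact (Finset.mem_filter.1 (hall y hy)).2
    rw [e] at hM
    have h1 := hdiv g₁ hg₁
    rw [show I.card = 1 + c g₁ * 2 by omega] at h1
    have : c g₁ ∣ 1 := (Nat.dvd_add_left (dvd_mul_right _ 2)).1 h1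
    have := Nat.le_of_dvd one_pos this
    omega
  push Not at hall
  obtain ⟨g₂, hg₂, hn2⟩ := hall
  obtain ⟨b1, b3, bR, bmem, bsub⟩ := hA g₂ hg₂
  have hd12 := hdisj g₁ hg₁ g₂ hg₂ hn2
  have hdR : ∀ g k, Disjoint (SA g) (SA k) → Disjoint (RA g) (RA k) := by
    intro g k hgk
    rw [Finset.disjoint_left] at hgk ⊢
    exact fun y hy hy' => hgk (Finset.mem_filter.1 hy).2 (Finset.mem_filter.1 hy').2
  have key : ∀ g ∈ R, 4 * I.card ≤ 3 * (RA g).card := by
    intro g hg
    obtain ⟨e1, e3, eR, -, -⟩ := hA g hg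
    have hcpos : 0 < c g := by linarith
    have h6 : c g ≤ 3 * (SA g).card := by linarith
    refine le_of_mul_le_mul_left (a := c g) ?_ hcpos
    calc c g * (4 * I.card) ≤ 3 * (SA g).card * (4 * I.card) := Nat.mul_le_mul_right _ h6
      _ = c g * (3 * (RA g).card) := by rw [mul_assoc, hX, ← eR]; ring
  have hS : S = SA g₁ ∪ SA g₂ := by
    refine Finset.Subset.antisymm (fun K hK => ?_) (Finset.union_subset asub bsub)
    obtain ⟨y, hy, rfl⟩ := Finset.mem_image.1 hK
    by_contra hne
    simp only [Finset.mem_union, not_or] at hne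
    have hy1 : y ∉ RA g₁ := fun e => hne.1 (Finset.mem_filter.1 e).2
    have hy2 : y ∉ RA g₂ := fun e => hne.2 (Finset.mem_filter.1 e).2
    have h3 : (RA g₁).card + (RA g₂).card + (RA y).card ≤ R.card := by
      rw [← Finset.card_union_of_disjoint (hdR _ _ hd12), ← Finset.card_union_of_disjoint]
      · exact Finset.card_le_card (Finset.union_subset
          (Finset.union_subset (Finset.filter_subset _ _) (Finset.filter_subset _ _))
          (Finset.filter_subset _ _))
      · rw [Finset.disjoint_union_left]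
        exact ⟨hdR _ _ (hdisj g₁ hg₁ y hy hy1), hdR _ _ (hdisj g₂ hg₂ y hy hy2)⟩
    have := key g₁ hg₁; have := key g₂ hg₂; have := key y hy
    omega
  rw [hS, Finset.card_union_of_disjoint hd12] at hM
  have hM' : I.card + 1 = 2 * c g₁ + 2 * c g₂ := by omega
  have arith : ∀ a b : ℕ, 3 ≤ a → 3 ≤ b → a % 2 = 1 → b % 2 = 1 → a ≤ b → a ∣ I.card → b ∣ I.card →
      I.card + 1 = 2 * a + 2 * b → a = 3 ∧ b = 5 := by
    intro a b ha hb ha2 hb2 hab hda hdb he
    obtain ⟨k, hk⟩ := hdb
    have hk2 : k = 3 := by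
      have h1 : b * 2 < b * k := by omega
      have h2 : b * k < b * 4 := by omega
      have := Nat.lt_of_mul_lt_mul_left h1
      have := Nat.lt_of_mul_lt_mul_left h2
      omega
    subst hk2
    have hb' : b + 1 = 2 * a := by omega
    obtain ⟨l, hl⟩ := hda
    have h1 : a * l + 3 = a * 6 := by omega
    have h2 : a ∣ 3 := ⟨6 - l, by rw [Nat.mul_sub]; omega⟩
    have := Nat.le_of_dvd (by norm_num) h2
    omega
  have hodd : ∀ g ∈ R, c g % 2 = 1 := fun g hg =>
    Nat.odd_iff.1 (h.odd_cent (Finset.mem_filter.1 hg).2)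
  have hab : (c g₁ = 3 ∧ c g₂ = 5) ∨ (c g₁ = 5 ∧ c g₂ = 3) := by
    rcases le_total (c g₁) (c g₂) with hl | hl
    · exact Or.inl (arith _ _ a3 b3 (hodd _ hg₁) (hodd _ hg₂) hl (hdiv _ hg₁) (hdiv _ hg₂) hM')
    · exact Or.inr (arith _ _ b3 a3 (hodd _ hg₂) (hodd _ hg₁) hl (hdiv _ hg₂) (hdiv _ hg₁)
        (by omega)).symm
  have hI15 : I.card = 15 := by omega
  have h60 : Nat.card X = 60 := by rw [Nat.card_eq_fintype_card, ← hX, hI15]
  refine ⟨h60, fun g hg => ?_⟩
  have hp : ∀ k ∈ R, c k = orderOf g → c g = orderOf g := by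
    intro k hk hck
    set p := orderOf g with hpdef
    haveI : Fact p.Prime := ⟨by rcases hg with e | e <;> rw [e] <;> norm_num⟩
    have hpow : p = p ^ (Nat.card X).factorization p := by
      conv_lhs => rw [← pow_one p]
      congr 1
      rw [h60]
      rcases hg with e | e <;> rw [e]
      · rw [show 60 = 3 * 20 by norm_num, Nat.factorization_mul (by norm_num) (by norm_num),
          Finsupp.add_apply, (Nat.prime_three).factorization_self,
          Nat.factorization_eq_zero_of_not_dvd (by norm_num)]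
      · rw [show 60 = 5 * 12 by norm_num, Nat.factorization_mul (by norm_num) (by norm_num),
          Finsupp.add_apply, (show Nat.Prime 5 by norm_num).factorization_self,
          Nat.factorization_eq_zero_of_not_dvd (by norm_num)]
    let P : Sylow p X := Sylow.ofCard (zpowers g) (by rw [Nat.card_zpowers, ← hpdef]; exact hpow)
    let Q : Sylow p X := Sylow.ofCard (centralizer ({k} : Set X))
      (by rw [show Nat.card (centralizer ({k} : Set X)) = p from hck]; exact hpow)
    obtain ⟨n, hn⟩ := MulAction.exists_smul_eq X P Q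
    have hmem : n * g * n⁻¹ ∈ centralizer ({k} : Set X) := by
      have e : (n • P : Sylow p X).toSubgroup = Q.toSubgroup := congrArg Sylow.toSubgroup hn
      rw [Sylow.coe_subgroup_smul] at e
      have h1 : n * g * n⁻¹ ∈ MulAut.conj n • (P : Subgroup X) :=
        Subgroup.smul_mem_pointwise_smul g (MulAut.conj n) _ (mem_zpowers g)
      rw [e] at h1
      exact h1
    have hne : n * g * n⁻¹ ≠ 1 := fun e => by
      have := (Fact.out : p.Prime).ne_one
      exact this (by rw [hpdef, conj_eq_one_iff.1 e, orderOf_one])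
    rw [hcconj g _ (isConj_iff.2 ⟨n, rfl⟩)]
    show Nat.card _ = p
    rw [(h.of_mem_cent (Finset.mem_filter.1 hk).2 hmem hne).2]
    exact hck
  rcases hab with ⟨e1, e2⟩ | ⟨e1, e2⟩ <;> rcases hg with e | e
  · exact hp g₁ hg₁ (e1.trans e.symm)
  · exact hp g₂ hg₂ (e2.trans e.symm)
  · exact hp g₂ hg₂ (e2.trans e.symm)
  · exact hp g₁ hg₁ (e1.trans e.symm)

end FourHyp

end CfsgLib.JTwoType
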