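import Cfsg.Agent.Lib.JTwoType.Classes

/-!
# Groups of Hall–Janko type: the Sylow 5-subgroup
-/

set_option autoImplicit false

namespace CfsgLib.JTwoType

open Subgroup CfsgLib.Invol
open scoped Pointwise

universe u

variable {G : Type u} [Group G] [Finite G]

/-- The orbit of `x ∈ N` under conjugation by `N`. -/
def nOrbit (N : Subgroup G) (x : G) : Set G := {y | ∃ n ∈ N, n * x * n⁻¹ = y}

theorem card_orbit_mul (N : Subgroup G) {x : G} (hx : x ∈ N) :
    Nat.card (nOrbit N x) * Nat.card (N ⊓ centralizer ({x} : Set G) : Subgroup G) = Nat.card N := by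
  rw [← (centralizer ({(⟨x, hx⟩ : N)} : Set N)).card_mul_index, ← card_isConj_eq_index, mul_comm]
  congr 1
  · refine Nat.card_congr
      { toFun := fun g => ⟨⟨g.1, g.2.1⟩, mem_cent.2 (Subtype.ext (mem_centralizer_singleton_iff.1 g.2.2))⟩
        invFun := fun g => ⟨g.1.1, g.1.2, mem_centralizer_singleton_iff.2
          (congrArg Subtype.val (mem_centralizer_singleton_iff.1 g.2))⟩
        left_inv := fun _ => rfl
        right_inv := fun _ => rfl }
  · refine Nat.card_congr
      { toFun := fun y => ⟨⟨y.1, by obtain ⟨n, hn, e⟩ := y.2; rw [← e];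
                                    exact mul_mem (mul_mem hn hx) (inv_mem hn)⟩, ?_⟩
        invFun := fun y => ⟨y.1.1, ?_⟩
        left_inv := fun _ => rfl
        right_inv := fun _ => rfl }
    · obtain ⟨n, hn, e⟩ := y.2
      exact isConj_iff.2 ⟨⟨n, hn⟩, Subtype.ext e⟩
    · obtain ⟨n, e⟩ := isConj_iff.1 y.2
      exact ⟨n, n.2, congrArg Subtype.val e⟩
where mem_cent {H : Type u} [Group H] {a b : H} :
    a ∈ centralizer ({b} : Set H) ↔ a * b = b * a := mem_centralizer_singleton_iff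

theorem mem_nOrbit_self (N : Subgroup G) (x : G) : x ∈ nOrbit N x := ⟨1, one_mem N, by group⟩

theorem nOrbit_disjoint {N : Subgroup G} {x y : G} (h : y ∉ nOrbit N x) :
    Disjoint (nOrbit N x) (nOrbit N y) := by
  rw [Set.disjoint_left]
  rintro w ⟨n, hn, rfl⟩ ⟨m, hm, e⟩
  refine h ⟨m⁻¹ * n, mul_mem (inv_mem hm) hn, ?_⟩
  calc m⁻¹ * n * x * (m⁻¹ * n)⁻¹ = m⁻¹ * (n * x * n⁻¹) * m := by group
    _ = y := by rw [← e]; group

/-- Conjugating a Sylow subgroup back inside the centralizer of one of its elements. -/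
theorem exists_fix_normalizer {p : ℕ} [Fact p.Prime] (P : Sylow p G)
    (habel : ∀ a ∈ (P : Subgroup G), ∀ b ∈ (P : Subgroup G), a * b = b * a) {x g : G}
    (hx : x ∈ (P : Subgroup G)) (hgx : g * x * g⁻¹ ∈ (P : Subgroup G)) :
    ∃ n ∈ normalizer ((P : Subgroup G) : Set G), n * x * n⁻¹ = g * x * g⁻¹ := by
  set H := centralizer ({g * x * g⁻¹} : Set G) with hH
  have h1 : (P : Subgroup G) ≤ H := fun a ha => mem_centralizer_singleton_iff.2 (habel a ha _ hgx)
  have h2 : ((g • P : Sylow p G) : Subgroup G) ≤ H := by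
    rintro _ ⟨a, ha, rfl⟩
    refine mem_centralizer_singleton_iff.2 ?_
    show g * a * g⁻¹ * (g * x * g⁻¹) = g * x * g⁻¹ * (g * a * g⁻¹)
    rw [conj_mul, conj_mul, habel a ha x hx]
  obtain ⟨h, hh⟩ := MulAction.exists_smul_eq H ((g • P : Sylow p G).subtype h2) (P.subtype h1)
  refine ⟨h * g, Subgroup.mem_normalizer_fintype fun a ha => ?_, ?_⟩
  · have hga : g * a * g⁻¹ ∈ ((g • P : Sylow p G) : Subgroup G) := ⟨a, ha, rfl⟩
    have h3 : h * ⟨g * a * g⁻¹, h2 hga⟩ * h⁻¹ ∈ (h • (g • P : Sylow p G).subtype h2 : Sylow p H) :=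
      ⟨⟨g * a * g⁻¹, h2 hga⟩, hga, rfl⟩
    rw [hh] at h3
    have h4 : (h : G) * (g * a * g⁻¹) * (h : G)⁻¹ ∈ (P : Subgroup G) := h3
    show (h : G) * g * a * ((h : G) * g)⁻¹ ∈ (P : Subgroup G)
    rwa [show (h : G) * g * a * ((h : G) * g)⁻¹ = (h : G) * (g * a * g⁻¹) * (h : G)⁻¹ by group]
  calc (h : G) * g * x * ((h : G) * g)⁻¹ = (h : G) * (g * x * g⁻¹) * (h : G)⁻¹ := by group
    _ = g * x * g⁻¹ := mul_inv_eq_iff_eq_mul.2 (mem_centralizer_singleton_iff.1 h.2)

namespace Data

variable (D : Data G)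

include D in
theorem sylow5_card (P : Sylow 5 G) [Fact (Nat.Prime 5)] : Nat.card P = 25 := by
  rw [P.card_eq_multiplicity, D.hG, show (604800 : ℕ) = 5 ^ 2 * 24192 by norm_num,
    Nat.factorization_mul (by norm_num) (by norm_num), Finsupp.add_apply,
    Nat.factorization_pow, Finsupp.smul_apply, (show Nat.Prime 5 by norm_num).factorization_self,
    Nat.factorization_eq_zero_of_not_dvd (by norm_num)]
  norm_num

include D in
theorem sylow5_comm (P : Sylow 5 G) [Fact (Nat.Prime 5)] :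
    ∀ a ∈ (P : Subgroup G), ∀ b ∈ (P : Subgroup G), a * b = b * a := fun a ha b hb =>
  congrArg Subtype.val (IsPGroup.commutative_of_card_eq_prime_sq (p := 5)
    (G := (P : Subgroup G)) ((D.sylow5_card P).trans (by norm_num)) ⟨a, ha⟩ ⟨b, hb⟩)

theorem card_cent_five {b : G} (hb : b ∈ D.B) (hbo : orderOf b = 5) :
    Nat.card (centralizer ({b} : Set G)) = 300 ∧
      ∀ q : ℕ, q = 3 ∨ q = 5 → ∀ u : G, u ^ q = 1 → u ∉ zpowers b → Commute u b →
        Nat.card (centralizer ({b} : Set G) ⊓ centralizer ({u} : Set G) : Subgroup G) ∣ 5 * q := by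
  haveI : Fact (Nat.Prime 5) := ⟨by norm_num⟩
  rcases D.card_cent_B hb (Or.inr rfl) hbo with h | h
  · exfalso
    obtain ⟨P, hP⟩ := (IsPGroup.of_card (n := 1) (by rw [Nat.card_zpowers, hbo, pow_one]) :
      IsPGroup 5 (zpowers b)).exists_le_sylow
    have hle : (P : Subgroup G) ≤ centralizer ({b} : Set G) := fun a ha =>
      mem_centralizer_singleton_iff.2 (D.sylow5_comm P a ha b (hP (mem_zpowers b)))
    have := card_dvd_of_le hle
    rw [h, D.sylow5_card P] at this
    norm_num at this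
  · exact h

include D in
theorem sylow5_index_card {b : G} (hbo : orderOf b = 5) (P : Sylow 5 G) [Fact (Nat.Prime 5)]
    (hbP : b ∈ (P : Subgroup G)) : ((zpowers b).subgroupOf (P : Subgroup G)).index = 5 := by
  have h := ((zpowers b).subgroupOf (P : Subgroup G)).card_mul_index
  rw [Nat.card_congr (subgroupOfEquivOfLe (zpowers_le.2 hbP)).toEquiv, Nat.card_zpowers, hbo,
    D.sylow5_card P] at h
  omega

/-- An involution commuting with `b` has only the powers of `b` as commuting elements of `P`. -/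
theorem fixed_mem_zpowers {b : G} (hb : b ∈ D.B) (hbo : orderOf b = 5) {i : G} (hi : orderOf i = 2)
    (hib : Commute i b) {a : G} (hab : Commute a b) (hai : Commute a i) {n : ℕ} (hn : Odd n)
    (han : a ^ n = 1) : a ∈ zpowers b := by
  obtain ⟨g, hgb, hg⟩ := D.invol_conj_t hb (Or.inr rfl) hbo hi hib
  have h1 : g * a * g⁻¹ ∈ centralizer ({b} : Set G) ⊓ centralizer ({D.t} : Set G) := by
    refine ⟨mem_cent.2 ?_, mem_cent.2 ?_⟩
    · have h := (Commute.conj_iff g).2 hab
      rwa [show g * b * g⁻¹ = b from mul_inv_eq_iff_eq_mul.2 hgb.eq] at h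
    · rw [← hg]; exact (Commute.conj_iff g).2 hai
  obtain ⟨v, hv, c, hc, hvc⟩ := (D.card_cent_inf_of_mem_B hb (Or.inr rfl) hbo).2 _ h1
  have hcB : c ∈ D.B := zpowers_le.2 hb hc
  have hB : g * a * g⁻¹ ∈ D.B := D.mem_B_of_odd h1.2 hn (by rw [conj_pow, han]; simp)
  have hvB : v ∈ D.B := by
    have := mul_mem hB (inv_mem hcB)
    rwa [← hvc, mul_inv_cancel_right] at this
  rw [D.eq_one_of_mem_both hv hvB, one_mul] at hvc
  obtain ⟨j, hj⟩ := mem_zpowers_iff.1 hc
  refine mem_zpowers_iff.2 ⟨j, ?_⟩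
  calc b ^ j = g⁻¹ * (b ^ j) * g := by
        rw [mul_assoc, ← (hgb.zpow_right j).eq, inv_mul_cancel_left]
    _ = a := by rw [hj, hvc]; group

/-- An involution of `C(b)` normalizes `P`, inverts it modulo `zpowers b`, so `P` is elementary. -/
theorem exists_inverting {b : G} (hb : b ∈ D.B) (hbo : orderOf b = 5) (P : Sylow 5 G)
    [Fact (Nat.Prime 5)] (hbP : b ∈ (P : Subgroup G)) :
    ∃ i : G, orderOf i = 2 ∧ Commute i b ∧ i ∈ normalizer ((P : Subgroup G) : Set G) ∧
      ∀ a ∈ (P : Subgroup G), a ^ 5 = 1 := by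
  haveI : Fact (Nat.Prime 2) := ⟨Nat.prime_two⟩
  set H := centralizer ({b} : Set G) with hH
  have hPH : (P : Subgroup G) ≤ H := fun a ha => mem_cent.2 (D.sylow5_comm P a ha b hbP)
  set S := P.subtype hPH with hS
  have hS25 : Nat.card S = 25 :=
    (Nat.card_congr (subgroupOfEquivOfLe hPH).toEquiv).trans (D.sylow5_card P)
  have hn5 : Nat.card (Sylow 5 H) ∣ 12 := by
    have h := S.card_mul_index
    rw [(D.card_cent_five hb hbo).1, show Nat.card (S : Subgroup H) = 25 from hS25] at h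
    have := S.card_dvd_index
    rwa [show (S : Subgroup H).index = 12 by omega] at this
  have hmod := card_sylow_modEq_one 5 H
  have h2 : 2 ∣ Nat.card (normalizer (S : Set H)) := by
    have h := (normalizer (S : Set H)).card_mul_index
    rw [← Sylow.card_eq_index_normalizer S, (D.card_cent_five hb hbo).1] at h
    have hm : Nat.card (Sylow 5 H) ∈ Nat.divisors 12 := Nat.mem_divisors.2 ⟨hn5, by norm_num⟩
    rw [show Nat.divisors 12 = {1, 2, 3, 4, 6, 12} from by decide] at hm
    simp only [Finset.mem_insert, Finset.mem_singleton] at hm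
    rw [Nat.ModEq] at hmod
    rcases hm with e | e | e | e | e | e <;> rw [e] at h hmod <;> omega
  obtain ⟨j, hj⟩ := exists_prime_orderOf_dvd_card' (G := normalizer (S : Set H)) 2 h2
  set i : G := ((j : H) : G) with hidef
  have hi : orderOf i = 2 := by rw [hidef, Subgroup.orderOf_coe, Subgroup.orderOf_coe, hj]
  have hib : Commute i b := mem_cent.1 (j : H).2
  have hiN : ∀ a ∈ (P : Subgroup G), i * a * i⁻¹ ∈ (P : Subgroup G) := by
    intro a ha
    have h := (mem_normalizer_iff.1 j.2 ⟨a, hPH ha⟩).1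
      (show (⟨a, hPH ha⟩ : H) ∈ (S : Subgroup H) from ha)
    exact h
  refine ⟨i, hi, hib, Subgroup.mem_normalizer_fintype fun a ha => hiN a ha, fun a ha => ?_⟩
  have ha25 : a ^ 25 = 1 := by
    have := pow_card_eq_one' (x := (⟨a, ha⟩ : (P : Subgroup G)))
    rw [D.sylow5_card P] at this
    exact congrArg Subtype.val this
  set d := a * (i * a * i⁻¹) with hd
  have hdP : d ∈ (P : Subgroup G) := mul_mem ha (hiN a ha)
  have hii := mul_self_eq_one hi
  have hdi : Commute d i := by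
    show d * i = i * d
    have hc := D.sylow5_comm P a ha _ (hiN a ha)
    calc d * i = a * i * a := by rw [hd]; group
      _ = (i * i) * a * i * a := by rw [hii, one_mul]
      _ = i * (i * a * i * a) := by group
      _ = i * (i * a * i⁻¹ * a) := by rw [inv_eq_self hi]
      _ = i * d := by rw [hd, hc]
  have hdb : d ∈ zpowers b := D.fixed_mem_zpowers hb hbo hi hib (D.sylow5_comm P d hdP b hbP) hdi
    (n := 25) (by decide) (by
      rw [hd, Commute.mul_pow (D.sylow5_comm P a ha _ (hiN a ha)), conj_pow, ha25]; simp)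
  have hd5 : d ^ 5 = 1 := by
    obtain ⟨k, hk⟩ := mem_zpowers_iff.1 hdb
    rw [← hk, ← zpow_natCast, ← zpow_mul, mul_comm, zpow_mul, zpow_natCast,
      show b ^ 5 = 1 from hbo ▸ pow_orderOf_eq_one b, one_zpow]
  have ha5 : a ^ 5 ∈ zpowers b := by
    haveI : ((zpowers b).subgroupOf (P : Subgroup G)).Normal :=
      ⟨fun n hn g => by
        have e : g * n * g⁻¹ = n := mul_inv_eq_iff_eq_mul.2
          (Subtype.ext (D.sylow5_comm P g g.2 n n.2))
        rwa [e]⟩
    have h := Subgroup.pow_index_mem ((zpowers b).subgroupOf (P : Subgroup G)) ⟨a, ha⟩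
    rw [D.sylow5_index_card hbo P hbP] at h
    exact h
  have hfix : i * a ^ 5 * i⁻¹ = a ^ 5 :=
    mul_inv_eq_iff_eq_mul.2 (commute_of_mem_zpowers ha5 hib).eq
  have h10 : a ^ 10 = 1 := by
    rw [hd, Commute.mul_pow (D.sylow5_comm P a ha _ (hiN a ha)), conj_pow, hfix, ← pow_add] at hd5
    exact hd5
  calc a ^ 5 = a ^ 25 * ((a ^ 10) ^ 2)⁻¹ := by rw [← pow_mul]; group
    _ = 1 := by rw [ha25, h10]; simp

theorem cent_sylow5_le {b : G} (hb : b ∈ D.B) (hbo : orderOf b = 5) (P : Sylow 5 G)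
    [Fact (Nat.Prime 5)] (hbP : b ∈ (P : Subgroup G)) :
    centralizer ((P : Subgroup G) : Set G) = P := by
  have hlt : Nat.card (zpowers b) < Nat.card P := by
    rw [Nat.card_zpowers, hbo, D.sylow5_card P]; norm_num
  obtain ⟨c, hcP, hcb⟩ : ∃ c ∈ (P : Subgroup G), c ∉ zpowers b := by
    by_contra! hall
    exact absurd (Subgroup.card_le_of_le (H := (P : Subgroup G)) hall) (not_le.2 hlt)
  have hc5 : c ^ 5 = 1 := (D.exists_inverting hb hbo P hbP).choose_spec.2.2.2 c hcP
  refine le_antisymm (fun g hg => ?_) fun a ha =>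
    mem_centralizer_iff.2 fun b' hb' => D.sylow5_comm P b' hb' a ha
  have hle : (P : Subgroup G) ≤ centralizer ({b} : Set G) ⊓ centralizer ({c} : Set G) :=
    fun a ha => ⟨mem_centralizer_singleton_iff.2 (D.sylow5_comm P a ha b hbP),
      mem_centralizer_singleton_iff.2 (D.sylow5_comm P a ha c hcP)⟩
  have hdvd := (D.card_cent_five hb hbo).2 5 (Or.inr rfl) c hc5 hcb
    (D.sylow5_comm P c hcP b hbP)
  have heq := Subgroup.eq_of_le_of_card_ge hle (by
    rw [D.sylow5_card P]; exact Nat.le_of_dvd (by norm_num) hdvd)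
  rw [heq]
  exact ⟨mem_centralizer_singleton_iff.2 (mem_centralizer_iff.1 hg b hbP).symm,
    mem_centralizer_singleton_iff.2 (mem_centralizer_iff.1 hg c hcP).symm⟩

end Data

end CfsgLib.JTwoType
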