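import Cfsg.Agent.Lib.InvChar.J2Order.AltFive
import Mathlib.GroupTheory.Sylow
import Mathlib.GroupTheory.Perm.Cycle.Type
import Mathlib.Algebra.Group.Subgroup.Pointwise
import Mathlib.GroupTheory.SpecificGroups.Alternating
import Mathlib.Tactic

/-!
# Small general facts for groups of Hall–Janko type
-/

set_option autoImplicit false
set_option maxRecDepth 4000

namespace CfsgLib.JTwoType

open Subgroup
open scoped Pointwise

variable {G : Type*} [Group G]

theorem end_pow {α : Type*} (f : Function.End α) (k : ℕ) : f ^ k = f^[k] :=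
  hom_coe_pow (fun g : Function.End α => g) rfl (fun _ _ => rfl) f k

/-- An element of order `p` permuting a finite set by conjugation fixes congruently many of its
points. -/
theorem card_fixed_set [Finite G] {p : ℕ} [Fact p.Prime] {S : Set G} {x : G} (hx : x ^ p = 1)
    (hS : ∀ s ∈ S, x * s * x⁻¹ ∈ S) :
    Nat.card {s : G // s ∈ S ∧ Commute x s} ≡ Nat.card S [MOD p] := by
  classical
  letI := Fintype.ofFinite S
  let f : S → S := fun n => ⟨x * (n : G) * x⁻¹, hS n n.2⟩
  have hit : ∀ (k : ℕ) (n : S), ((f^[k] n : S) : G) = x ^ k * (n : G) * (x ^ k)⁻¹ := by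
    intro k
    induction k with
    | zero => intro n; simp
    | succ k ih =>
      intro n
      rw [Function.iterate_succ_apply', show ((f (f^[k] n) : S) : G) = x * (f^[k] n : G) * x⁻¹ from rfl,
        ih, pow_succ']
      group
  have h := Equiv.Perm.card_fixedPoints_modEq (f := f) (p := p) (n := 1) (funext fun n => Subtype.ext (by
    rw [pow_one]; erw [congrFun (end_pow f p) n]; rw [hit, hx]; simp; rfl))
  rw [Nat.card_congr (Equiv.subtypeSubtypeEquivSubtypeInter (fun s => s ∈ S) (Commute x)).symm,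
    Nat.card_eq_fintype_card, Nat.card_eq_fintype_card]
  refine Eq.trans ?_ h.symm
  congr 1
  refine Fintype.card_congr (Equiv.subtypeEquivRight fun n => ?_)
  simp only [Function.mem_fixedPoints, Function.IsFixedPt, f, Subtype.ext_iff]
  exact mul_inv_eq_iff_eq_mul.symm

theorem exists_conj_zpowers [Finite G] {p : ℕ} [Fact p.Prime] (hp : p ∣ Nat.card G)
    (hp2 : ¬ p ^ 2 ∣ Nat.card G) {a b : G} (ha : orderOf a = p) (hb : orderOf b = p) :
    ∃ c : G, c * a * c⁻¹ ∈ zpowers b := by
  have hpp := (Fact.out : p.Prime)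
  have hf : (Nat.card G).factorization p = 1 := by
    have h0 : Nat.card G ≠ 0 := Nat.card_pos.ne'
    have h1 := (hpp.pow_dvd_iff_le_factorization (k := 1) h0).1 (by rwa [pow_one])
    have h2 := mt (hpp.pow_dvd_iff_le_factorization (k := 2) h0).2 hp2
    omega
  have hc : ∀ a : G, orderOf a = p → Nat.card (zpowers a) = p ^ (Nat.card G).factorization p :=
    fun a ha => by rw [Nat.card_zpowers, ha, hf, pow_one]
  obtain ⟨c, hcc⟩ := MulAction.exists_smul_eq G (Sylow.ofCard _ (hc a ha)) (Sylow.ofCard _ (hc b hb))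
  refine ⟨c, ?_⟩
  have h1 : c * a * c⁻¹ ∈ (c • Sylow.ofCard _ (hc a ha) : Sylow p G) := ⟨a, mem_zpowers a, rfl⟩
  rw [hcc] at h1
  exact h1

/-- A member of a cyclic subgroup of order two or three is a power with small exponent. -/
theorem eq_or_inv_of_mem_zpowers_three {a b : G} (hb : orderOf b = 3) (ha : a ∈ zpowers b)
    (h1 : a ≠ 1) : a = b ∨ a = b⁻¹ := by
  obtain ⟨i, rfl⟩ := mem_zpowers_iff.1 ha
  have hcases : b ^ i = b ^ (i % 3).toNat := by
    rw [← zpow_natCast, Int.toNat_of_nonneg (Int.emod_nonneg _ (by norm_num))]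
    conv_lhs => rw [← zpow_mod_orderOf, hb]
    rfl
  have hlt : (i % 3).toNat < 3 := by omega
  have h3 : b ^ 3 = 1 := hb ▸ pow_orderOf_eq_one b
  rcases (show (i % 3).toNat = 0 ∨ (i % 3).toNat = 1 ∨ (i % 3).toNat = 2 by omega) with e | e | e <;>
    rw [e] at hcases
  · exact absurd (hcases.trans (pow_zero b)) h1
  · exact Or.inl (hcases.trans (pow_one b))
  · exact Or.inr (hcases.trans (eq_inv_of_mul_eq_one_left (by rw [← pow_succ, h3])))

theorem orderOf_eq_of_pow {p : ℕ} [Fact p.Prime] {a : G} (h1 : a ≠ 1) (h : a ^ p = 1) :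
    orderOf a = p := orderOf_eq_prime h h1

theorem alt_three : ∀ a : alternatingGroup (Fin 5), a ^ 3 = 1 → a ≠ 1 →
    (Finset.univ.filter fun b : alternatingGroup (Fin 5) => a * b = b * a).card = 3 ∧
    ∃ c : alternatingGroup (Fin 5), c * c = 1 ∧ c ≠ 1 ∧ c * a * c = a⁻¹ := by
  decide +kernel

theorem alt_five : ∀ a : alternatingGroup (Fin 5), a ^ 5 = 1 → a ≠ 1 →
    (Finset.univ.filter fun b : alternatingGroup (Fin 5) => a * b = b * a).card = 5 ∧
    ∃ c : alternatingGroup (Fin 5), c * c = 1 ∧ c ≠ 1 ∧ c * a * c = a⁻¹ := by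
  decide +kernel

theorem alt_gen_odd : ∀ a : alternatingGroup (Fin 5), a * a = 1 →
    ∃ c d : alternatingGroup (Fin 5), c ^ 3 = 1 ∧ d ^ 3 = 1 ∧ c * d = a := by
  decide +kernel

theorem alt_orders : ∀ a : alternatingGroup (Fin 5),
    a * a = 1 ∨ a ^ 3 = 1 ∨ a ^ 5 = 1 := by
  decide +kernel

end CfsgLib.JTwoType
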