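import Cfsg.Agent.Lib.InvChar.J2Order.CountZ
import Cfsg.Agent.Lib.JTwoType.Tools
import Cfsg.Agent.Lib.Invol.BrauerFowler

/-!
# Groups of Hall–Janko type: the two involution centralizers
-/

set_option autoImplicit false

namespace CfsgLib.JTwoType

open Subgroup CfsgLib.InvChar.J2Order

universe u

/-- What is known about a group of Hall–Janko type once the centralizers and the order are found. -/
structure Data (G : Type u) [Group G] [Finite G] where
  z : G
  t : G
  Q : Subgroup G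
  f : ↥(Subgroup.centralizer ({z} : Set G)) →* alternatingGroup (Fin 5)
  V : Subgroup G
  B : Subgroup G
  hc : CzHyp z t Q f
  ht : CtHyp z t V B
  hcl : ∀ x : G, orderOf x = 2 → IsConj x z ∨ IsConj x t
  hG : Nat.card G = 604800

variable {G : Type u} [Group G] [Finite G] (D : Data G)

namespace Data

omit [Finite G] in
theorem mem_cent {x y : G} : y ∈ centralizer ({x} : Set G) ↔ Commute y x :=
  mem_centralizer_singleton_iff

theorem zCard : Nat.card (centralizer ({D.z} : Set G)) = 1920 := by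
  have h1 : Nat.card D.f.ker = 32 := by
    rw [← D.hc.hQ]
    exact Nat.card_congr
      { toFun := fun c => ⟨(c.1 : G), (D.hc.hker _).1 c.2⟩
        invFun := fun q => ⟨⟨q.1, D.hc.hQle q.2⟩, (D.hc.hker _).2 q.2⟩
        left_inv := fun _ => rfl
        right_inv := fun _ => rfl }
  have h2 : D.f.ker.index = 60 := by
    rw [Subgroup.index_eq_card, Nat.card_congr
      (QuotientGroup.quotientKerEquivOfSurjective D.f D.hc.hsurj).toEquiv,
      Nat.card_eq_fintype_card, alt_card]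
  rw [← D.f.ker.card_mul_index, h1, h2]

theorem bCard : Nat.card D.B = 60 := by
  obtain ⟨e⟩ := D.ht.hB
  rw [Nat.card_congr e.toEquiv, Nat.card_eq_fintype_card, alt_card]

theorem tCard : Nat.card (centralizer ({D.t} : Set G)) = 240 := by
  have : Nat.card (D.V × D.B) = 240 := by rw [Nat.card_prod, D.ht.hV, D.bCard]
  rw [← this]
  refine (Nat.card_eq_of_bijective (fun p => (⟨(p.1 : G) * (p.2 : G),
    D.ht.mem_cent_iff.2 ⟨_, p.1.2, _, p.2.2, rfl⟩⟩ : ↥(centralizer ({D.t} : Set G)))) ⟨?_, ?_⟩).symm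
  · intro p q hpq
    obtain ⟨h1, h2⟩ := D.ht.decomp_unique p.1.2 q.1.2 p.2.2 q.2.2 (congrArg Subtype.val hpq)
    exact Prod.ext (Subtype.ext h1) (Subtype.ext h2)
  · rintro ⟨c, hc⟩
    obtain ⟨v, hv, b, hb, rfl⟩ := D.ht.mem_cent_iff.1 hc
    exact ⟨(⟨v, hv⟩, ⟨b, hb⟩), rfl⟩

theorem vb_comm {v b : G} (hv : v ∈ D.V) (hb : b ∈ D.B) : v * b = b * v :=
  D.ht.hVB.2.2.1 v hv b hb

theorem b_le : D.B ≤ centralizer ({D.t} : Set G) := D.ht.hVB.2.1

theorem v_le : D.V ≤ centralizer ({D.t} : Set G) := D.ht.hVB.1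

theorem v_sq {v : G} (hv : v ∈ D.V) : v * v = 1 := by
  rw [← pow_two]; exact D.ht.hV2 v hv

theorem v_comm {v w : G} (hv : v ∈ D.V) (hw : w ∈ D.V) : v * w = w * v := by
  have h := D.v_sq (mul_mem hv hw)
  calc v * w = (v * w)⁻¹ := (inv_eq_of_mul_eq_one_right h).symm
    _ = w * v := by
      rw [mul_inv_rev, inv_eq_of_mul_eq_one_right (D.v_sq hv),
        inv_eq_of_mul_eq_one_right (D.v_sq hw)]

theorem v_central {v g : G} (hv : v ∈ D.V) (hg : g ∈ centralizer ({D.t} : Set G)) :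
    Commute g v := by
  obtain ⟨w, hw, b, hb, rfl⟩ := D.ht.mem_cent_iff.1 hg
  exact Commute.mul_left (D.v_comm hw hv) (D.vb_comm hv hb).symm

theorem v_orderOf {v : G} (hv : v ∈ D.V) (h1 : v ≠ 1) : orderOf v = 2 :=
  CfsgLib.Invol.orderOf_eq_two h1 (D.v_sq hv)

theorem eq_one_of_mem_both {x : G} (hv : x ∈ D.V) (hb : x ∈ D.B) : x = 1 := by
  have h : x ∈ D.V ⊓ D.B := ⟨hv, hb⟩
  rw [D.ht.hVB.2.2.2.1] at h
  exact (Subgroup.mem_bot).1 h

theorem v_conj_t {v : G} (hv : v ∈ D.V) (h1 : v ≠ 1) : IsConj v D.t :=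
  D.ht.hCt v (D.v_le hv) (D.v_orderOf hv h1) fun hB => h1 (D.eq_one_of_mem_both hv hB)

theorem cent_conj_card {x y : G} (h : IsConj x y) :
    Nat.card (centralizer ({x} : Set G)) = Nat.card (centralizer ({y} : Set G)) := by
  obtain ⟨k, rfl⟩ := isConj_iff.1 h
  refine Nat.card_congr ((MulAut.conj k).toEquiv.subtypeEquiv fun g => ?_)
  show g ∈ _ ↔ MulAut.conj k g ∈ _
  rw [mem_cent, mem_cent, MulAut.conj_apply]
  exact (Commute.conj_iff k).symm

theorem v_cent {v : G} (hv : v ∈ D.V) (h1 : v ≠ 1) :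
    centralizer ({v} : Set G) = centralizer ({D.t} : Set G) := by
  refine (Subgroup.eq_of_le_of_card_ge (fun g hg => mem_cent.2 (D.v_central hv hg)) ?_).symm
  exact le_of_eq (cent_conj_card (D.v_conj_t hv h1))

theorem z_or_t {x : G} (hx : orderOf x = 2) :
    IsConj x D.z ∨ IsConj x D.t := D.hcl x hx

/-- Elements of odd order in `C(t)` lie in `B`. -/
theorem mem_B_of_odd {x : G} (hx : x ∈ centralizer ({D.t} : Set G)) {n : ℕ} (hn : Odd n)
    (hxn : x ^ n = 1) : x ∈ D.B := by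
  obtain ⟨v, hv, b, hb, rfl⟩ := D.ht.mem_cent_iff.1 hx
  obtain ⟨k, hk⟩ := hn
  rw [Commute.mul_pow (D.vb_comm hv hb), hk, pow_succ, pow_mul, pow_two, D.v_sq hv, one_pow,
    one_mul] at hxn
  have hvB : v ∈ D.B := by
    rw [← inv_inv v, inv_eq_of_mul_eq_one_right (D.v_sq hv)]
    have : v = (b ^ (2 * k + 1))⁻¹ := eq_inv_of_mul_eq_one_left hxn
    rw [this]
    exact inv_mem (inv_mem (pow_mem hb _))
  exact mul_mem hvB hb

/-- `C(t)` meets the centralizer of an element of `B` in `V × C_B(b)`. -/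
theorem card_cent_inf_of_mem_B {b : G} (hb : b ∈ D.B) {p : ℕ} (hp : p = 3 ∨ p = 5)
    (hbo : orderOf b = p) :
    Nat.card (centralizer ({b} : Set G) ⊓ centralizer ({D.t} : Set G) : Subgroup G) = 4 * p ∧
      ∀ x ∈ centralizer ({b} : Set G) ⊓ centralizer ({D.t} : Set G),
        ∃ v ∈ D.V, ∃ c ∈ zpowers b, v * c = x := by
  classical
  obtain ⟨e⟩ := D.ht.hB
  have hbpow : (⟨b, hb⟩ : D.B) ^ p = 1 := Subtype.ext (by simpa [hbo] using pow_orderOf_eq_one b)
  have hb1 : e ⟨b, hb⟩ ≠ 1 := by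
    rw [ne_eq, MulEquiv.map_eq_one_iff]
    intro h
    have h' : b = 1 := congrArg Subtype.val h
    rcases hp with rfl | rfl <;> simp [h'] at hbo
  have hce : (Finset.univ.filter fun c : alternatingGroup (Fin 5) =>
      e ⟨b, hb⟩ * c = c * e ⟨b, hb⟩).card = p := by
    rcases hp with rfl | rfl
    · exact (alt_three _ (by rw [← map_pow, hbpow, map_one]) hb1).1
    · exact (alt_five _ (by rw [← map_pow, hbpow, map_one]) hb1).1
  have hCB : Nat.card {c : G // c ∈ D.B ∧ Commute c b} = p := by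
    rw [← hce, ← Fintype.card_subtype, ← Nat.card_eq_fintype_card]
    refine Nat.card_congr
      { toFun := fun c => ⟨e ⟨c.1, c.2.1⟩, ?_⟩
        invFun := fun c => ⟨(e.symm c.1 : D.B), (e.symm c.1).2, ?_⟩
        left_inv := fun c => by simp
        right_inv := fun c => by simp }
    · rw [← map_mul, ← map_mul]
      exact congrArg e (Subtype.ext c.2.2.eq.symm)
    · have h := congrArg e.symm c.2
      rw [map_mul, map_mul, e.symm_apply_apply] at h
      exact (congrArg Subtype.val h).symm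
  have hzp : ∀ c, c ∈ D.B → Commute c b → c ∈ zpowers b := by
    have hsub : ((zpowers b : Subgroup G) : Set G) ⊆ {c : G | c ∈ D.B ∧ Commute c b} := fun c hc =>
      ⟨zpowers_le.2 hb hc, by obtain ⟨i, rfl⟩ := mem_zpowers_iff.1 hc; exact Commute.zpow_self b i⟩
    have hfin := Set.toFinite {c : G | c ∈ D.B ∧ Commute c b}
    have heq := Set.eq_of_subset_of_ncard_le hsub (le_of_eq (by
      rw [← Nat.card_coe_set_eq, ← Nat.card_coe_set_eq]
      exact hCB.trans (hbo.symm.trans (Nat.card_zpowers b).symm))) hfin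
    intro c h1 h2
    have : c ∈ {c : G | c ∈ D.B ∧ Commute c b} := ⟨h1, h2⟩
    rw [← heq] at this
    exact this
  have hdec : ∀ x ∈ centralizer ({b} : Set G) ⊓ centralizer ({D.t} : Set G),
      ∃ v ∈ D.V, ∃ c ∈ zpowers b, v * c = x := by
    rintro x ⟨hxb, hxt⟩
    obtain ⟨v, hv, c, hc, rfl⟩ := D.ht.mem_cent_iff.1 hxt
    refine ⟨v, hv, c, hzp c hc ?_, rfl⟩
    have h1 : Commute (v * c) b := mem_cent.1 hxb
    have h2 : Commute v⁻¹ b := (show Commute v b from D.vb_comm hv hb).inv_left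
    simpa using h2.mul_left h1
  refine ⟨?_, hdec⟩
  rw [← D.ht.hV, ← hbo, ← Nat.card_zpowers, ← Nat.card_prod]
  refine (Nat.card_eq_of_bijective (fun q : D.V × zpowers b =>
    (⟨(q.1 : G) * (q.2 : G), mem_cent.2 ((show Commute (q.1 : G) b from D.vb_comm q.1.2 hb).mul_left
      (by obtain ⟨i, hi⟩ := mem_zpowers_iff.1 q.2.2; rw [← hi]; exact Commute.zpow_self b i)),
      mul_mem (D.v_le q.1.2) (D.b_le (zpowers_le.2 hb q.2.2))⟩ :
      ↥(centralizer ({b} : Set G) ⊓ centralizer ({D.t} : Set G) : Subgroup G))) ⟨?_, ?_⟩).symm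
  · intro x y hxy
    obtain ⟨h1, h2⟩ := D.ht.decomp_unique x.1.2 y.1.2 (zpowers_le.2 hb x.2.2)
      (zpowers_le.2 hb y.2.2) (congrArg Subtype.val hxy)
    exact Prod.ext (Subtype.ext h1) (Subtype.ext h2)
  · rintro ⟨x, hx⟩
    obtain ⟨v, hv, c, hc, rfl⟩ := hdec x hx
    exact ⟨(⟨v, hv⟩, ⟨c, hc⟩), rfl⟩

/-- Conjugation by an element taking `t` into `V` normalizes `V` and `B`. -/
theorem normalizes {g : G} (hg : g * D.t * g⁻¹ ∈ D.V) :
    (∀ c, c ∈ centralizer ({D.t} : Set G) → g * c * g⁻¹ ∈ centralizer ({D.t} : Set G)) ∧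
    (∀ v ∈ D.V, g * v * g⁻¹ ∈ D.V) ∧ (∀ b ∈ D.B, g * b * g⁻¹ ∈ D.B) := by
  classical
  obtain ⟨e⟩ := D.ht.hB
  have hne : g * D.t * g⁻¹ ≠ 1 := fun h =>
    CfsgLib.Invol.ne_one_of_invol D.ht.ht (conj_eq_one_iff.1 h)
  have hC : ∀ c, c ∈ centralizer ({D.t} : Set G) → g * c * g⁻¹ ∈ centralizer ({D.t} : Set G) :=
    fun c hc => by
      rw [← D.v_cent hg hne, mem_cent]
      exact (Commute.conj_iff g).2 (mem_cent.1 hc)
  have hCback : ∀ c, c ∈ centralizer ({D.t} : Set G) →
      ∃ d ∈ centralizer ({D.t} : Set G), g * d * g⁻¹ = c := fun c hc => by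
    refine ⟨g⁻¹ * c * g, ?_, by group⟩
    rw [mem_cent, ← Commute.conj_iff g, show g * (g⁻¹ * c * g) * g⁻¹ = c by group, ← mem_cent,
      D.v_cent hg hne]
    exact hc
  have hodd : ∀ b ∈ D.B, b ^ 3 = 1 → g * b * g⁻¹ ∈ D.B := fun b hb h3 =>
    D.mem_B_of_odd (hC b (D.b_le hb)) (n := 3) (by decide) (by rw [conj_pow, h3]; simp)
  have hB : ∀ b ∈ D.B, g * b * g⁻¹ ∈ D.B := by
    intro b hb
    rcases alt_orders (e ⟨b, hb⟩) with h | h | h
    · obtain ⟨c, d, hc, hd, hcd⟩ := alt_gen_odd _ h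
      have hb' : b = (e.symm c : G) * (e.symm d : G) := by
        rw [← Subgroup.coe_mul, ← map_mul, hcd, e.symm_apply_apply]
      rw [hb', ← conj_mul]
      exact mul_mem
        (hodd _ (e.symm c).2 (by rw [← SubgroupClass.coe_pow, ← map_pow, hc, map_one]; rfl))
        (hodd _ (e.symm d).2 (by rw [← SubgroupClass.coe_pow, ← map_pow, hd, map_one]; rfl))
    · rw [← map_pow, MulEquiv.map_eq_one_iff] at h
      exact hodd b hb (congrArg Subtype.val h)
    · rw [← map_pow, MulEquiv.map_eq_one_iff] at h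
      exact D.mem_B_of_odd (hC b (D.b_le hb)) (n := 5) (by decide)
        (by rw [conj_pow, show b ^ 5 = 1 from congrArg Subtype.val h]; simp)
  refine ⟨hC, fun v hv => ?_, hB⟩
  -- an element commuting with all of `C(t)` lies in `V`
  obtain ⟨w, hw, b, hb, hwb⟩ := D.ht.mem_cent_iff.1 (hC v (D.v_le hv))
  by_cases hb1 : b = 1
  · rw [← hwb, hb1, mul_one]; exact hw
  exfalso
  have hcentral : ∀ y ∈ D.B, Commute y b := by
    intro y hy
    obtain ⟨d, hd, hdy⟩ := hCback y (D.b_le hy)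
    have h1 : Commute y (w * b) := by
      rw [hwb, ← hdy]; exact (Commute.conj_iff g).2 (D.v_central hv hd)
    have h2 : Commute y w⁻¹ := (show Commute y w from (D.vb_comm hw hy).symm).inv_right
    simpa using h2.mul_right h1
  have h0 : e ⟨b, hb⟩ ≠ 1 := by
    rw [ne_eq, MulEquiv.map_eq_one_iff]
    exact fun h => hb1 (congrArg Subtype.val h)
  have hall : ∀ c : alternatingGroup (Fin 5), e ⟨b, hb⟩ * c = c * e ⟨b, hb⟩ := fun c => by
    rw [← e.apply_symm_apply c, ← map_mul, ← map_mul]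
    exact congrArg e (Subtype.ext (hcentral _ (e.symm c).2).eq.symm)
  have h60 : (Finset.univ.filter fun c : alternatingGroup (Fin 5) =>
      e ⟨b, hb⟩ * c = c * e ⟨b, hb⟩).card = 60 := by
    rw [Finset.filter_true_of_mem (fun c _ => hall c), Finset.card_univ, alt_card]
  rcases alt_orders (e ⟨b, hb⟩) with h | h | h
  · rw [(alt_cent _ h h0).1] at h60; omega
  · rw [(alt_three _ h h0).1] at h60; omega
  · rw [(alt_five _ h h0).1] at h60; omega

/-- Elements of order 3 or 5 in `C(z)` lie outside `Q`, with small centralizer there. -/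
theorem card_cent_inf_z {y : G} (hy : y ∈ centralizer ({D.z} : Set G)) {p : ℕ}
    (hp : p = 3 ∨ p = 5) (hyo : orderOf y = p) :
    Nat.card (centralizer ({y} : Set G) ⊓ centralizer ({D.z} : Set G) : Subgroup G) =
        p * (if p = 3 then 8 else 2) ∧
      (∀ g ∈ centralizer ({y} : Set G) ⊓ centralizer ({D.z} : Set G), ∀ j : ℕ,
        g ^ 2 ^ j = 1 → g ∈ D.Q) := by
  classical
  haveI : Fact p.Prime := ⟨by rcases hp with rfl | rfl <;> norm_num⟩
  have hypow : y ^ p = 1 := hyo ▸ pow_orderOf_eq_one y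
  set E := centralizer ({y} : Set G) ⊓ centralizer ({D.z} : Set G) with hE
  have hyE : y ∈ E := ⟨mem_cent.2 (Commute.refl y), hy⟩
  have hyQ : y ∉ D.Q := fun h => by
    have h1 : orderOf y ∣ 32 := by
      rw [← D.hc.hQ, ← Subgroup.orderOf_mk y h]; exact orderOf_dvd_natCard _
    rw [hyo] at h1
    rcases hp with rfl | rfl <;> norm_num at h1
  let g : E →* alternatingGroup (Fin 5) :=
    D.f.comp (Subgroup.inclusion (inf_le_right : E ≤ centralizer ({D.z} : Set G)))
  set a := D.f ⟨y, hy⟩ with ha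
  have ha1 : a ≠ 1 := fun h => hyQ ((D.hc.hker _).1 h)
  have hap : a ^ p = 1 := by
    rw [ha, ← map_pow, show (⟨y, hy⟩ : ↥(centralizer ({D.z} : Set G))) ^ p = 1 from
      Subtype.ext (by simpa using hypow), map_one]
  have hcard : (Finset.univ.filter fun c : alternatingGroup (Fin 5) => a * c = c * a).card = p := by
    rcases hp with rfl | rfl
    · exact (alt_three a hap ha1).1
    · exact (alt_five a hap ha1).1
  have hrange : Nat.card g.range = p := by
    refine le_antisymm ?_ ?_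
    · refine le_trans (Nat.card_le_card_of_injective
        (fun c => (⟨c.1, Finset.mem_filter.2 ⟨Finset.mem_univ _, ?_⟩⟩ :
          ↥(Finset.univ.filter fun c : alternatingGroup (Fin 5) => a * c = c * a)))
        fun c d hcd => Subtype.ext (congrArg Subtype.val hcd :)) (le_of_eq ?_)
      · obtain ⟨c', hc'⟩ := c.2
        rw [← hc']
        show D.f ⟨y, hy⟩ * D.f _ = D.f _ * D.f ⟨y, hy⟩
        rw [← map_mul, ← map_mul]
        exact congrArg D.f (Subtype.ext (mem_cent.1 c'.2.1).eq.symm)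
      · rw [Nat.card_eq_finsetCard, hcard]
    · have hle : zpowers a ≤ g.range := zpowers_le.2 ⟨⟨y, hyE⟩, rfl⟩
      have := Subgroup.card_le_of_le hle
      rwa [Nat.card_zpowers, orderOf_eq_prime hap ha1] at this
  have hkerE : Nat.card g.ker = Nat.card {q : G // q ∈ (D.Q : Set G) ∧ Commute y q} :=
    Nat.card_congr
      { toFun := fun c => ⟨(c.1 : G), (D.hc.hker _).1 c.2, (mem_cent.1 c.1.2.1).symm⟩
        invFun := fun c => ⟨⟨c.1, mem_cent.2 c.2.2.symm, D.hc.hQle c.2.1⟩, (D.hc.hker _).2 c.2.1⟩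
        left_inv := fun c => rfl
        right_inv := fun c => rfl }
  have hnQ : ∀ q ∈ D.Q, y * q * y⁻¹ ∈ D.Q := fun q hq => D.hc.conj_mem hy hq
  have hfix := card_fixed_set (S := (D.Q : Set G)) hypow hnQ
  rw [show Nat.card (D.Q : Set G) = 32 from D.hc.hQ, ← hkerE] at hfix
  have hdvd : Nat.card g.ker ∣ 32 := by
    rw [hkerE, ← D.hc.hQ, show Nat.card {q : G // q ∈ (D.Q : Set G) ∧ Commute y q} =
      Nat.card (D.Q ⊓ centralizer ({y} : Set G) : Subgroup G) from Nat.card_congr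
        (Equiv.subtypeEquivRight fun q => ⟨fun h => ⟨h.1, mem_cent.2 h.2.symm⟩,
          fun h => ⟨h.1, (mem_cent.1 h.2).symm⟩⟩)]
    exact card_dvd_of_le inf_le_left
  have h32 : Nat.card g.ker ≠ 32 := by
    intro h
    rw [hkerE, ← D.hc.hQ] at h
    apply hyQ
    refine D.hc.hfaith ⟨y, hy⟩ fun q hq => ?_
    have hsub : {q : G | q ∈ (D.Q : Set G) ∧ Commute y q} ⊆ (D.Q : Set G) := fun _ h => h.1
    have heq := Set.eq_of_subset_of_ncard_le hsub (le_of_eq (by
      rw [← Nat.card_coe_set_eq, ← Nat.card_coe_set_eq]; exact h.symm)) (Set.toFinite _)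
    have : q ∈ {q : G | q ∈ (D.Q : Set G) ∧ Commute y q} := by rw [heq]; exact hq
    exact this.2
  have hker : Nat.card g.ker = if p = 3 then 8 else 2 := by
    rcases hp with rfl | rfl
    · -- a noncentral square root of the identity is fixed
      rw [if_pos rfl]
      have hI := (D.hc.involution_count D.ht).1
      have hS : ∀ s ∈ {q : G | q ∈ D.Q ∧ q * q = 1}, y * s * y⁻¹ ∈ {q : G | q ∈ D.Q ∧ q * q = 1} :=
        fun s hs => ⟨hnQ s hs.1, by rw [conj_mul, hs.2]; simp⟩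
      have h3 := card_fixed_set hypow hS
      rw [show Nat.card {q : G | q ∈ D.Q ∧ q * q = 1} = 12 from hI] at h3
      have h1 : 1 ≤ Nat.card {s : G // s ∈ {q : G | q ∈ D.Q ∧ q * q = 1} ∧ Commute y s} := by
        haveI : Nonempty {s : G // s ∈ {q : G | q ∈ D.Q ∧ q * q = 1} ∧ Commute y s} :=
          ⟨⟨1, ⟨one_mem _, one_mul 1⟩, Commute.one_right y⟩⟩
        exact Finite.card_pos
      have h2 : Nat.card {s : G // s ∈ {q : G | q ∈ D.Q ∧ q * q = 1} ∧ Commute y s} ≤
          Nat.card {q : G // q ∈ (D.Q : Set G) ∧ Commute y q} :=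
        Nat.card_le_card_of_injective (fun s => ⟨s.1, s.2.1.1, s.2.2⟩)
          fun a b h => Subtype.ext (congrArg Subtype.val h :)
      rw [← hkerE] at h2
      rw [Nat.ModEq] at h3 hfix
      have hm : Nat.card g.ker ∈ Nat.divisors 32 := Nat.mem_divisors.2 ⟨hdvd, by norm_num⟩
      rw [show Nat.divisors 32 = {1, 2, 4, 8, 16, 32} from by decide] at hm
      simp only [Finset.mem_insert, Finset.mem_singleton] at hm
      omega
    · rw [if_neg (by norm_num)]
      rw [Nat.ModEq] at hfix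
      have hm : Nat.card g.ker ∈ Nat.divisors 32 := Nat.mem_divisors.2 ⟨hdvd, by norm_num⟩
      rw [show Nat.divisors 32 = {1, 2, 4, 8, 16, 32} from by decide] at hm
      simp only [Finset.mem_insert, Finset.mem_singleton] at hm
      omega
  constructor
  · rw [← g.ker.card_mul_index, Subgroup.index_eq_card,
      Nat.card_congr (QuotientGroup.quotientKerEquivRange g).toEquiv, hrange, hker, mul_comm]
  · intro c hc j hj
    have h1 : g ⟨c, hc⟩ = 1 := by
      have h2 : orderOf (g ⟨c, hc⟩) ∣ p := by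
        have hm : g ⟨c, hc⟩ ∈ g.range := ⟨_, rfl⟩
        rw [← hrange, ← Subgroup.orderOf_mk _ hm]; exact orderOf_dvd_natCard _
      have h3 : orderOf (g ⟨c, hc⟩) ∣ 2 ^ j := orderOf_dvd_of_pow_eq_one (by
        rw [← map_pow, show (⟨c, hc⟩ : E) ^ 2 ^ j = 1 from Subtype.ext (by simpa using hj),
          map_one])
      have hcop : Nat.Coprime p (2 ^ j) :=
        Nat.Coprime.pow_right _ (by rcases hp with rfl | rfl <;> norm_num)
      exact orderOf_eq_one_iff.1 (Nat.eq_one_of_dvd_coprimes hcop h2 h3)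
    exact (D.hc.hker _).1 h1

end Data

end CfsgLib.JTwoType
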