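import Cfsg.Agent.Lib.JTwoType.TorusElements

/-!
# Groups of Hall–Janko type: elements of order 3 and 5 commuting with involutions
-/

set_option autoImplicit false

namespace CfsgLib.JTwoType

open Subgroup CfsgLib.Invol

universe u

variable {G : Type u} [Group G] [Finite G]

/-- The centre of a nontrivial 2-group contains an involution. -/
theorem exists_central_invol {S : Subgroup G} (hS : IsPGroup 2 S) {s : G} (hs : s ∈ S) (h1 : s ≠ 1) :
    ∃ w ∈ S, orderOf w = 2 ∧ ∀ x ∈ S, Commute x w := by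
  haveI : Fact (Nat.Prime 2) := ⟨Nat.prime_two⟩
  haveI : Nontrivial S := ⟨⟨s, hs⟩, 1, fun e => h1 (congrArg Subtype.val e)⟩
  haveI := hS.center_nontrivial
  obtain ⟨y, hy⟩ := exists_prime_orderOf_dvd_card' (G := center S) 2 (by
    obtain ⟨n, hn⟩ := IsPGroup.iff_card.1 (hS.to_subgroup (center S))
    rw [hn]
    exact dvd_pow_self 2 fun h0 => (Finite.one_lt_card (α := center S)).ne'
      (by rw [hn, h0, pow_zero]))
  refine ⟨(y : S).1, (y : S).2, ?_, fun x hx =>
    congrArg Subtype.val ((mem_center_iff.1 y.2) ⟨x, hx⟩)⟩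
  rw [Subgroup.orderOf_coe, Subgroup.orderOf_coe, hy]

theorem orderOf_prime_of {p : ℕ} (hp : p = 3 ∨ p = 5) : p.Prime := by
  rcases hp with rfl | rfl <;> norm_num

theorem commute_of_mem_zpowers {x y : G} (h : y ∈ zpowers x) {w : G} (hw : Commute w x) :
    Commute w y := by
  obtain ⟨i, rfl⟩ := mem_zpowers_iff.1 h
  exact hw.zpow_right i

theorem mem_zpowers_symm {p : ℕ} [Fact p.Prime] {x y : G} (h : y ∈ zpowers x)
    (hx : orderOf x = p) (h1 : y ≠ 1) : x ∈ zpowers y := by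
  have hle : zpowers y ≤ zpowers x := zpowers_le.2 h
  have hy : orderOf y ∣ p := by
    rw [← hx, ← Nat.card_zpowers x, ← Subgroup.orderOf_mk y h]; exact orderOf_dvd_natCard _
  rcases (Fact.out : p.Prime).eq_one_or_self_of_dvd _ hy with e | e
  · exact absurd (orderOf_eq_one_iff.1 e) h1
  · rw [Subgroup.eq_of_le_of_card_ge hle (by rw [Nat.card_zpowers, Nat.card_zpowers, hx, e])]
    exact mem_zpowers x

theorem conj_ne_one {g y : G} (h : y ≠ 1) : g * y * g⁻¹ ≠ 1 := fun e => h (conj_eq_one_iff.1 e)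

namespace Data

variable (D : Data G)

theorem exists_bElt {p : ℕ} (hp : p = 3 ∨ p = 5) : ∃ b ∈ D.B, orderOf b = p := by
  haveI : Fact p.Prime := ⟨orderOf_prime_of hp⟩
  obtain ⟨b, hb⟩ := exists_prime_orderOf_dvd_card' (G := D.B) p
    (by rw [D.bCard]; rcases hp with rfl | rfl <;> norm_num)
  exact ⟨b, b.2, (Subgroup.orderOf_coe b).trans hb⟩

theorem exists_zElt {p : ℕ} (hp : p = 3 ∨ p = 5) :
    ∃ y ∈ centralizer ({D.z} : Set G), orderOf y = p := by
  haveI : Fact p.Prime := ⟨orderOf_prime_of hp⟩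
  obtain ⟨y, hy⟩ := exists_prime_orderOf_dvd_card' (G := centralizer ({D.z} : Set G)) p
    (by rw [D.zCard]; rcases hp with rfl | rfl <;> norm_num)
  exact ⟨y, y.2, (Subgroup.orderOf_coe y).trans hy⟩

/-- Elements of order 3 and 5 of `B` are inverted in `B` by an involution. -/
theorem bElt_inverted {b : G} (hb : b ∈ D.B) {p : ℕ} (hp : p = 3 ∨ p = 5) (hbo : orderOf b = p) :
    ∃ u ∈ D.B, orderOf u = 2 ∧ u * b * u⁻¹ = b⁻¹ := by
  obtain ⟨e⟩ := D.ht.hB
  have hpow : e ⟨b, hb⟩ ^ p = 1 := by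
    rw [← map_pow, show (⟨b, hb⟩ : D.B) ^ p = 1 from
      Subtype.ext (by simpa [hbo] using pow_orderOf_eq_one b), map_one]
  have hne : e ⟨b, hb⟩ ≠ 1 := by
    rw [ne_eq, MulEquiv.map_eq_one_iff]
    intro h
    have h' : b = 1 := congrArg Subtype.val h
    rw [h', orderOf_one] at hbo; omega
  obtain ⟨c, hc, hc1, hcinv⟩ : ∃ c : alternatingGroup (Fin 5),
      c * c = 1 ∧ c ≠ 1 ∧ c * e ⟨b, hb⟩ * c = (e ⟨b, hb⟩)⁻¹ := by
    rcases hp with rfl | rfl
    · exact (alt_three _ hpow hne).2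
    · exact (alt_five _ hpow hne).2
  refine ⟨(e.symm c : G), (e.symm c).2, orderOf_eq_two (fun h => hc1 ?_) ?_, ?_⟩
  · rw [← e.apply_symm_apply c, show e.symm c = 1 from Subtype.ext h, map_one]
  · rw [← Subgroup.coe_mul, ← map_mul, hc, map_one]; rfl
  · have h2 := congrArg e.symm hcinv
    rw [map_mul, map_mul, map_inv, e.symm_apply_apply] at h2
    have h3 := congrArg Subtype.val h2
    simp only [Subgroup.coe_mul, InvMemClass.coe_inv] at h3
    rw [inv_eq_of_mul_eq_one_right (a := (e.symm c : G)) (b := (e.symm c : G))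
      (by rw [← Subgroup.coe_mul, ← map_mul, hc, map_one]; rfl)]
    exact h3

/-- Elements of `C(z)` of order 3 and 5 are conjugate to their inverses in `C(z)`. -/
theorem zElt_inverted {y : G} (hy : y ∈ centralizer ({D.z} : Set G)) {p : ℕ} (hp : p = 3 ∨ p = 5)
    (hyo : orderOf y = p) : IsConj y y⁻¹ := by
  haveI : Fact p.Prime := ⟨orderOf_prime_of hp⟩
  let H := centralizer ({D.z} : Set G)
  let yH : H := ⟨y, hy⟩
  have hy1 : yH ≠ 1 := fun h => by
    rw [show y = 1 from congrArg Subtype.val h, orderOf_one] at hyo; omega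
  have hyp : yH ^ p = 1 := Subtype.ext (by simpa [hyo] using pow_orderOf_eq_one y)
  set a := D.f yH with ha
  have hker : ∀ g : H, D.f g = 1 → g ^ p = 1 → g = 1 := by
    intro g hg hgp
    have hgQ := (D.hc.hker g).1 hg
    have h1 : orderOf (g : G) ∣ 32 := by
      rw [← D.hc.hQ, ← Subgroup.orderOf_mk (g : G) hgQ]; exact orderOf_dvd_natCard _
    have h2 : orderOf (g : G) ∣ p := orderOf_dvd_of_pow_eq_one (congrArg Subtype.val hgp)
    exact Subtype.ext (orderOf_eq_one_iff.1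
      (Nat.eq_one_of_dvd_coprimes (by rcases hp with rfl | rfl <;> norm_num) h1 h2))
  have ha1 : a ≠ 1 := fun h => hy1 (hker yH h hyp)
  have hap : a ^ p = 1 := by rw [ha, ← map_pow, hyp, map_one]
  obtain ⟨c, hc, -, hcinv⟩ : ∃ c : alternatingGroup (Fin 5), c * c = 1 ∧ c ≠ 1 ∧ c * a * c = a⁻¹ := by
    rcases hp with rfl | rfl
    · exact (alt_three _ hap ha1).2
    · exact (alt_five _ hap ha1).2
  obtain ⟨h, hh⟩ := D.hc.hsurj c
  set K := (zpowers a).comap D.f with hK
  have hyK : yH ∈ K := mem_zpowers a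
  have hfh : D.f (h * yH * h⁻¹) = a⁻¹ := by
    rw [map_mul, map_mul, map_inv, hh, inv_eq_of_mul_eq_one_right hc]; exact hcinv
  have hh'K : h * yH * h⁻¹ ∈ K := by
    show D.f _ ∈ zpowers a
    rw [hfh]; exact inv_mem (mem_zpowers a)
  have hKc : Nat.card K = 32 * p := by
    have h1 := Subgroup.index_comap_of_surjective (zpowers a) (f := D.f) D.hc.hsurj
    have h2 := K.card_mul_index
    have h3 := (zpowers a).card_mul_index
    rw [hK, h1, D.zCard] at h2
    rw [Nat.card_zpowers, orderOf_eq_prime hap ha1, Nat.card_eq_fintype_card,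
      CfsgLib.InvChar.J2Order.alt_card] at h3
    rw [hK]
    rcases hp with rfl | rfl
    · rw [show (zpowers a).index = 20 by omega] at h2; omega
    · rw [show (zpowers a).index = 12 by omega] at h2; omega
  obtain ⟨k, hk⟩ := exists_conj_zpowers (G := K) (p := p)
    (by rw [hKc]; exact dvd_mul_left p 32)
    (by rw [hKc]; rcases hp with rfl | rfl <;> norm_num)
    (a := ⟨h * yH * h⁻¹, hh'K⟩) (b := ⟨yH, hyK⟩)
    (by rw [Subgroup.orderOf_mk, CfsgLib.Invol.orderOf_conj, Subgroup.orderOf_mk, hyo])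
    (by rw [Subgroup.orderOf_mk, Subgroup.orderOf_mk, hyo])
  obtain ⟨i, hi⟩ := mem_zpowers_iff.1 hk
  have hi' : yH ^ i = (k : H) * (h * yH * h⁻¹) * (k : H)⁻¹ := by
    have := congrArg Subtype.val hi
    simpa using this
  have hkc : D.f (k : H) * a⁻¹ * (D.f (k : H))⁻¹ = a⁻¹ := by
    obtain ⟨j, hj⟩ := mem_zpowers_iff.1 (show D.f (k : H) ∈ zpowers a from k.2)
    rw [← hj]; group
  have hfi : D.f (yH ^ i * yH) = 1 := by
    rw [hi', map_mul, map_mul, map_mul, map_inv, hfh, hkc, inv_mul_cancel]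
  have hone : yH ^ i * yH = 1 := by
    refine hker _ hfi ?_
    rw [← zpow_add_one, ← zpow_natCast, ← zpow_mul, mul_comm, zpow_mul, zpow_natCast, hyp, one_zpow]
  rw [← eq_inv_iff_mul_eq_one, hi'] at hone
  have h4 : (k : H) * h * yH * ((k : H) * h)⁻¹ = yH⁻¹ := by rw [← hone]; group
  exact isConj_iff.2 ⟨((k : H) * h : H), congrArg Subtype.val h4⟩

/-- The 2-part of `Q ∩ C(y)` is a Sylow 2-subgroup of `C(y)` for `y` of order 3 or 5 in `C(z)`. -/
theorem zElt_two {y : G} (hy : y ∈ centralizer ({D.z} : Set G)) {p : ℕ} (hp : p = 3 ∨ p = 5)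
    (hyo : orderOf y = p) :
    (∀ S : Subgroup G, IsPGroup 2 S → S ≤ centralizer ({y} : Set G) →
        Nat.card S ≤ (if p = 3 then 8 else 2)) ∧
      (if p = 3 then 8 else 2) ∣ Nat.card (centralizer ({y} : Set G)) ∧
      ∀ w : G, orderOf w = 2 → Commute w y → IsConj w D.z := by
  classical
  haveI : Fact (Nat.Prime 2) := ⟨Nat.prime_two⟩
  set m := if p = 3 then 8 else 2 with hm
  set E := centralizer ({y} : Set G) ⊓ centralizer ({D.z} : Set G) with hE
  obtain ⟨hEc, hEQ⟩ := D.card_cent_inf_z hy hp hyo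
  have h2E : ∀ {S : Subgroup G}, IsPGroup 2 S → S ≤ E → S ≤ D.Q := fun {S} hS hle g hg => by
    obtain ⟨j, hj⟩ := hS ⟨g, hg⟩
    exact hEQ g (hle hg) j (congrArg Subtype.val hj)
  set C₀ := D.Q ⊓ centralizer ({y} : Set G) with hC₀
  have hC₀2 : IsPGroup 2 C₀ :=
    (IsPGroup.of_card (n := 5) (by rw [D.hc.hQ]; rfl)).to_le inf_le_left
  have hC₀E : C₀ ≤ E := le_inf inf_le_right (le_trans inf_le_left D.hc.hQle)
  have hC₀m : Nat.card C₀ = m := by
    refine Nat.dvd_antisymm ?_ ?_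
    · have h1 : Nat.card C₀ ∣ p * m := hEc ▸ card_dvd_of_le hC₀E
      have h2 : Nat.card C₀ ∣ 32 := D.hc.hQ ▸ card_dvd_of_le inf_le_left
      exact (Nat.Coprime.coprime_dvd_left h2
        (by rcases hp with rfl | rfl <;> norm_num)).dvd_of_dvd_mul_left h1
    · obtain ⟨T⟩ : Nonempty (Sylow 2 E) := inferInstance
      have hT : m ∣ Nat.card T := by
        obtain ⟨n, hn, hn'⟩ : ∃ n, m = 2 ^ n ∧ n = n := by
          rcases hp with rfl | rfl
          · exact ⟨3, by simp [hm], rfl⟩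
          · exact ⟨1, by simp [hm], rfl⟩
        rw [hn]
        refine T.pow_dvd_card_of_pow_dvd_card ?_
        rw [hEc, ← hn]; exact dvd_mul_left _ _
      rw [← Subgroup.card_map_of_injective E.subtype_injective] at hT
      refine hT.trans (card_dvd_of_le (le_inf ?_ ?_))
      · exact h2E (T.2.map _) (map_subtype_le _)
      · exact le_trans (map_subtype_le _) inf_le_left
  have hzC₀ : D.z ∈ C₀ := ⟨D.hc.hzQ, mem_cent.2 (mem_cent.1 hy).symm⟩
  -- every 2-subgroup above `C₀` is bounded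
  have hbound : ∀ S : Subgroup G, IsPGroup 2 S → S ≤ centralizer ({y} : Set G) → C₀ ≤ S →
      S = C₀ := by
    intro S hS hSy hle
    obtain ⟨w, hwS, hw2, hwc⟩ := exists_central_invol hS (hle hzC₀) (ne_one_of_invol D.ht.hz)
    have hwE : w ∈ E := ⟨hSy hwS, mem_cent.2 (hwc D.z (hle hzC₀)).symm⟩
    have hwQ : w ∈ D.Q := hEQ w hwE 1 (by rw [pow_one, pow_two, mul_self_eq_one hw2])
    obtain ⟨k, hk⟩ := isConj_iff.1 (D.hc.hQz w hwQ hw2)
    have hy' : k * y * k⁻¹ ∈ centralizer ({D.z} : Set G) := by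
      rw [mem_cent, ← hk]; exact (Commute.conj_iff k).2 (mem_cent.1 hwE.1).symm
    obtain ⟨hEc', -⟩ := D.card_cent_inf_z hy' hp ((CfsgLib.Invol.orderOf_conj k y).trans hyo)
    have hinto : S.map (MulAut.conj k).toMonoidHom ≤
        centralizer ({k * y * k⁻¹} : Set G) ⊓ centralizer ({D.z} : Set G) := by
      rintro _ ⟨s, hs, rfl⟩
      refine ⟨mem_cent.2 ((Commute.conj_iff k).2 (mem_cent.1 (hSy hs))), mem_cent.2 ?_⟩
      rw [← hk]; exact (Commute.conj_iff k).2 (hwc s hs)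
    have hdvd : Nat.card S ∣ p * m := by
      rw [← hEc', ← Subgroup.card_map_of_injective (f := (MulAut.conj k).toMonoidHom)
        (MulAut.conj k).injective]
      exact card_dvd_of_le hinto
    obtain ⟨n, hn⟩ := IsPGroup.iff_card.1 hS
    have hcop : Nat.Coprime (Nat.card S) p := by
      rw [hn]; exact Nat.Coprime.pow_left _ (by rcases hp with rfl | rfl <;> norm_num)
    exact (Subgroup.eq_of_le_of_card_ge hle (by
      rw [hC₀m]
      exact Nat.le_of_dvd (by rcases hp with rfl | rfl <;> simp [hm])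
        (hcop.dvd_of_dvd_mul_left hdvd))).symm
  set H := centralizer ({y} : Set G)
  have hC₀H : C₀ ≤ H := inf_le_right
  have hC₀H2 : IsPGroup 2 (C₀.subgroupOf H) := IsPGroup.of_equiv hC₀2 (subgroupOfEquivOfLe hC₀H).symm
  obtain ⟨S, hS⟩ := hC₀H2.exists_le_sylow
  have hSC : (S : Subgroup H).map H.subtype = C₀ :=
    hbound _ (S.2.map _) (map_subtype_le _) fun c hc => ⟨⟨c, hC₀H hc⟩, hS hc, rfl⟩
  refine ⟨fun T hT hTy => ?_, ?_, fun w hw hwy => ?_⟩
  · obtain ⟨T', hT'⟩ := (IsPGroup.of_equiv hT (subgroupOfEquivOfLe hTy).symm).exists_le_sylow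
    calc Nat.card T = Nat.card (T.subgroupOf H) :=
          (Nat.card_congr (subgroupOfEquivOfLe hTy).toEquiv).symm
      _ ≤ Nat.card T' := Subgroup.card_le_of_le hT'
      _ = Nat.card S := Nat.card_congr (Sylow.equiv T' S).toEquiv
      _ = Nat.card C₀ := by rw [← hSC, Subgroup.card_map_of_injective H.subtype_injective]
      _ = m := hC₀m
  · rw [← hC₀m]; exact card_dvd_of_le hC₀H
  · obtain ⟨T, hT⟩ := (IsPGroup.of_card (n := 1) (by
      rw [Nat.card_zpowers, Subgroup.orderOf_mk, hw, pow_one]) :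
      IsPGroup 2 (zpowers (⟨w, mem_cent.2 hwy⟩ : H))).exists_le_sylow
    obtain ⟨h, hh⟩ := MulAction.exists_smul_eq H T S
    have h1 : h * ⟨w, mem_cent.2 hwy⟩ * h⁻¹ ∈ (h • T : Sylow 2 H) :=
      ⟨⟨w, mem_cent.2 hwy⟩, hT (mem_zpowers _), rfl⟩
    rw [hh] at h1
    have h2 : (h : G) * w * (h : G)⁻¹ ∈ C₀ := by rw [← hSC]; exact ⟨_, h1, rfl⟩
    have h3 := D.hc.hQz _ h2.1 ((CfsgLib.Invol.orderOf_conj _ w).trans hw)
    exact (isConj_iff.2 ⟨(h : G), rfl⟩).trans h3

/-- An element of order 3 or 5 commuting with an involution is conjugate into one of two fixed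
cyclic subgroups. -/
theorem even_class {p : ℕ} (hp : p = 3 ∨ p = 5) {y b : G} (hy : y ∈ centralizer ({D.z} : Set G))
    (hyo : orderOf y = p) (hb : b ∈ D.B) (hbo : orderOf b = p) {x w : G} (hxo : orderOf x = p)
    (hw : orderOf w = 2) (hwx : Commute w x) :
    ∃ g : G, g * x * g⁻¹ ∈ zpowers y ∨ g * x * g⁻¹ ∈ zpowers b := by
  haveI : Fact p.Prime := ⟨orderOf_prime_of hp⟩
  rcases D.hcl w hw with h | h <;> obtain ⟨k, hk⟩ := isConj_iff.1 h
  · have hx : k * x * k⁻¹ ∈ centralizer ({D.z} : Set G) := by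
      rw [mem_cent, ← hk]; exact (Commute.conj_iff k).2 hwx.symm
    obtain ⟨c, hc⟩ := exists_conj_zpowers (G := centralizer ({D.z} : Set G)) (p := p)
      (by rw [D.zCard]; rcases hp with rfl | rfl <;> norm_num)
      (by rw [D.zCard]; rcases hp with rfl | rfl <;> norm_num)
      (a := ⟨_, hx⟩) (b := ⟨y, hy⟩)
      (by rw [Subgroup.orderOf_mk, CfsgLib.Invol.orderOf_conj, hxo]) (by rw [Subgroup.orderOf_mk, hyo])
    obtain ⟨i, hi⟩ := mem_zpowers_iff.1 hc
    refine ⟨c * k, Or.inl (mem_zpowers_iff.2 ⟨i, ?_⟩)⟩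
    have := congrArg Subtype.val hi
    simp only [SubgroupClass.coe_zpow, Subgroup.coe_mul, InvMemClass.coe_inv] at this
    rw [this]; group
  · have hx : k * x * k⁻¹ ∈ D.B := by
      refine D.mem_B_of_odd ?_ (n := p) (by rcases hp with rfl | rfl <;> decide)
        (by rw [conj_pow, show x ^ p = 1 from hxo ▸ pow_orderOf_eq_one x]; simp)
      rw [mem_cent, ← hk]; exact (Commute.conj_iff k).2 hwx.symm
    obtain ⟨c, hc⟩ := exists_conj_zpowers (G := D.B) (p := p)
      (by rw [D.bCard]; rcases hp with rfl | rfl <;> norm_num)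
      (by rw [D.bCard]; rcases hp with rfl | rfl <;> norm_num)
      (a := ⟨_, hx⟩) (b := ⟨b, hb⟩)
      (by rw [Subgroup.orderOf_mk, CfsgLib.Invol.orderOf_conj, hxo]) (by rw [Subgroup.orderOf_mk, hbo])
    obtain ⟨i, hi⟩ := mem_zpowers_iff.1 hc
    refine ⟨c * k, Or.inr (mem_zpowers_iff.2 ⟨i, ?_⟩)⟩
    have := congrArg Subtype.val hi
    simp only [SubgroupClass.coe_zpow, Subgroup.coe_mul, InvMemClass.coe_inv] at this
    rw [this]; group

/-- The two kinds of elements are not conjugate. -/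
theorem not_conj_zb {p : ℕ} (hp : p = 3 ∨ p = 5) {y b g : G}
    (hy : y ∈ centralizer ({D.z} : Set G)) (hyo : orderOf y = p) (hb : b ∈ D.B) (hbo : orderOf b = p) :
    g * b * g⁻¹ ∉ zpowers y := by
  haveI : Fact p.Prime := ⟨orderOf_prime_of hp⟩
  intro h
  have h2 := mem_zpowers_symm h hyo (conj_ne_one fun e => by rw [e, orderOf_one] at hbo; omega)
  have hc : Commute (g * D.t * g⁻¹) y := commute_of_mem_zpowers h2
    ((Commute.conj_iff g).2 (D.vb_comm D.ht.htV hb))
  have := (D.zElt_two hy hp hyo).2.2 _ ((CfsgLib.Invol.orderOf_conj g D.t).trans D.ht.ht) hc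
  exact D.ht.hzt (this.symm.trans (isConj_iff.2 ⟨g, rfl⟩).symm)

end Data

end CfsgLib.JTwoType
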