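import Cfsg.Agent.Lib.JTwoType.FiveSide

/-!
# Groups of Hall–Janko type: the normalizer of a Sylow 5-subgroup
-/

set_option autoImplicit false

namespace CfsgLib.JTwoType

open Subgroup CfsgLib.Invol
open scoped Pointwise

universe u

variable {G : Type u} [Group G] [Finite G]

theorem conj_mem_cent {g a x : G} :
    g * a * g⁻¹ ∈ centralizer ({g * x * g⁻¹} : Set G) ↔ a ∈ centralizer ({x} : Set G) := by
  rw [mem_centralizer_singleton_iff, mem_centralizer_singleton_iff]
  exact (Commute.conj_iff g : Commute (g * a * g⁻¹) (g * x * g⁻¹) ↔ Commute a x)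

theorem mem_normalizer_smul {p : ℕ} [Fact p.Prime] {P : Sylow p G} {g a : G} :
    g * a * g⁻¹ ∈ normalizer (((g • P : Sylow p G) : Subgroup G) : Set G) ↔
      a ∈ normalizer ((P : Subgroup G) : Set G) := by
  have e : ∀ (R : Sylow p G) (b : G), b ∈ normalizer ((R : Subgroup G) : Set G) ↔ b • R = R :=
    fun R b => Sylow.smul_eq_iff_mem_normalizer.symm
  rw [e, e, ← mul_smul, show g * a * g⁻¹ * g = g * a by group,
    mul_smul]
  exact (MulAction.injective g).eq_iff

namespace Data

variable (D : Data G) [Fact (Nat.Prime 5)]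

/-- In `C(b)` the normalizer of a Sylow 5-subgroup has order 50. -/
theorem card_stab_b {b : G} (hb : b ∈ D.B) (hbo : orderOf b = 5) (P : Sylow 5 G)
    (hbP : b ∈ (P : Subgroup G)) :
    Nat.card (normalizer ((P : Subgroup G) : Set G) ⊓ centralizer ({b} : Set G) : Subgroup G) = 50 := by
  classical
  set H := centralizer ({b} : Set G) with hH
  have hPH : (P : Subgroup G) ≤ H := fun a ha => mem_cent.2 (D.sylow5_comm P a ha b hbP)
  set S := P.subtype hPH with hS
  have hS25 : Nat.card S = 25 :=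
    (Nat.card_congr (subgroupOfEquivOfLe hPH).toEquiv).trans (D.sylow5_card P)
  have hN : ∀ n : H, n ∈ normalizer (S : Set H) ↔ (n : G) ∈ normalizer ((P : Subgroup G) : Set G) := by
    intro n
    constructor
    · intro hn
      exact Subgroup.mem_normalizer_fintype fun a ha =>
        ((mem_normalizer_iff.1 hn ⟨a, hPH ha⟩).1 (show (⟨a, hPH ha⟩ : H) ∈ (S : Subgroup H) from ha))
    · intro hn
      exact Subgroup.mem_normalizer_fintype fun a ha => (mem_normalizer_iff.1 hn (a : G)).1 ha
  have hcN : Nat.card (normalizer (S : Set H)) =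
      Nat.card (normalizer ((P : Subgroup G) : Set G) ⊓ H : Subgroup G) := by
    refine Nat.card_congr
      { toFun := fun n => ⟨(n : H), (hN n).1 n.2, (n : H).2⟩
        invFun := fun n => ⟨⟨n.1, n.2.2⟩, (hN _).2 n.2.1⟩
        left_inv := fun _ => rfl
        right_inv := fun _ => rfl }
  have hn5 : Nat.card (Sylow 5 H) ∣ 12 := by
    have h := S.card_mul_index
    rw [(D.card_cent_five hb hbo).1, show Nat.card (S : Subgroup H) = 25 from hS25] at h
    have := S.card_dvd_index
    rwa [show (S : Subgroup H).index = 12 by omega] at this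
  have hne : Nat.card (Sylow 5 H) ≠ 1 := by
    intro h1
    -- then `V` would normalize `P`
    have htop : ∀ n : H, n ∈ normalizer (S : Set H) := by
      intro n
      have : Subsingleton (Sylow 5 H) := (Nat.card_eq_one_iff_unique.1 h1).1
      exact Sylow.smul_eq_iff_mem_normalizer.1 (Subsingleton.elim _ _)
    obtain ⟨c, hcP, hcb⟩ : ∃ c ∈ (P : Subgroup G), c ∉ zpowers b := by
      by_contra! hall
      have := Subgroup.card_le_of_le (H := (P : Subgroup G)) hall
      rw [D.sylow5_card P, Nat.card_zpowers, hbo] at this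
      omega
    have hc5 : c ^ 5 = 1 := (D.exists_inverting hb hbo P hbP).choose_spec.2.2.2 c hcP
    have hstep : ∀ v ∈ D.V, v ≠ 1 → ∃ e ∈ zpowers b, v * c * v⁻¹ = c⁻¹ * e := by
      intro v hv hv1
      have hvH : v ∈ H := mem_cent.2 (D.vb_comm hv hb)
      have hvP : v * c * v⁻¹ ∈ (P : Subgroup G) :=
        (mem_normalizer_iff.1 ((hN ⟨v, hvH⟩).1 (htop _)) c).1 hcP
      refine ⟨c * (v * c * v⁻¹), ?_, by group⟩
      refine D.fixed_mem_zpowers hb hbo (D.v_orderOf hv hv1) (D.vb_comm hv hb)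
        (D.sylow5_comm P _ (mul_mem hcP hvP) b hbP) ?_ (n := 5) (by decide) ?_
      · have hvv := D.v_sq hv
        have hvi : v⁻¹ = v := inv_eq_of_mul_eq_one_right hvv
        show c * (v * c * v⁻¹) * v = v * (c * (v * c * v⁻¹))
        calc c * (v * c * v⁻¹) * v = c * v * c := by group
          _ = (v * v) * c * v * c := by rw [hvv, one_mul]
          _ = v * (v * c * v⁻¹ * c) := by rw [hvi]; group
          _ = v * (c * (v * c * v⁻¹)) := by rw [D.sylow5_comm P c hcP _ hvP]
      · rw [Commute.mul_pow (D.sylow5_comm P c hcP _ hvP), conj_pow, hc5]; simp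
    obtain ⟨v, hv, hv1, hvt⟩ : ∃ v ∈ D.V, v ≠ 1 ∧ v ≠ D.t := by
      by_contra! hall
      haveI := Fintype.ofFinite D.V
      have : Fintype.card D.V ≤ ({(1 : D.V), ⟨D.t, D.ht.htV⟩} : Finset D.V).card := by
        rw [← Finset.card_univ]
        refine Finset.card_le_card fun x _ => ?_
        by_cases hx : (x : G) = 1
        · rw [show x = 1 from Subtype.ext hx]; simp
        · simp [Subtype.ext_iff, hall x x.2 hx]
      rw [← Nat.card_eq_fintype_card, D.ht.hV] at this
      have := this.trans (Finset.card_le_two (a := (1 : D.V)) (b := ⟨D.t, D.ht.htV⟩))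
      omega
    have ht1 : D.t ≠ 1 := ne_one_of_invol D.ht.ht
    have htv1 : D.t * v ≠ 1 := fun e => hvt (by
      rw [← inv_eq_of_mul_eq_one_right e, inv_eq_self D.ht.ht])
    obtain ⟨e₁, he₁, h1'⟩ := hstep v hv hv1
    obtain ⟨e₂, he₂, h2'⟩ := hstep D.t D.ht.htV ht1
    obtain ⟨e₃, he₃, h3'⟩ := hstep _ (mul_mem D.ht.htV hv) htv1
    have hee : D.t * e₁ * D.t⁻¹ = e₁ :=
      mul_inv_eq_iff_eq_mul.2 (D.vb_comm D.ht.htV (zpowers_le.2 hb he₁))
    have hkey : c⁻¹ * e₃ = e₂⁻¹ * c * e₁ := by
      rw [← h3', show D.t * v * c * (D.t * v)⁻¹ = D.t * (v * c * v⁻¹) * D.t⁻¹ by group, h1',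
        ← conj_mul, hee, ← conj_inv, h2', mul_inv_rev, inv_inv]
    have hbb : ∀ e ∈ zpowers b, e * c = c * e := fun e he =>
      D.sylow5_comm P e ((zpowers_le.2 hbP) he) c hcP
    have hcc : c * c ∈ zpowers b := by
      have : c * c = e₂ * e₁⁻¹ * e₃ := by
        have h4 : c⁻¹ * e₃ = c * (e₂⁻¹ * e₁) := by rw [hkey, hbb _ (inv_mem he₂), mul_assoc]
        calc c * c = c * (c * (e₂⁻¹ * e₁)) * (e₂⁻¹ * e₁)⁻¹ := by group
          _ = c * (c⁻¹ * e₃) * (e₂⁻¹ * e₁)⁻¹ := by rw [h4]
          _ = e₃ * (e₁⁻¹ * e₂) := by group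
          _ = e₂ * e₁⁻¹ * e₃ := by
            have hcomm : ∀ x ∈ zpowers b, ∀ y ∈ zpowers b, x * y = y * x := fun x hx y hy =>
              D.sylow5_comm P x (zpowers_le.2 hbP hx) y (zpowers_le.2 hbP hy)
            rw [hcomm _ (inv_mem he₁) _ he₂, hcomm _ he₃ _ (mul_mem he₂ (inv_mem he₁))]
      rw [this]
      exact mul_mem (mul_mem he₂ (inv_mem he₁)) he₃
    apply hcb
    have : c = (c * c) ^ 3 * (c ^ 5)⁻¹ := by rw [← pow_two, ← pow_mul]; group
    rw [this, hc5, inv_one, mul_one]
    exact pow_mem hcc 3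
  have h := (normalizer (S : Set H)).card_mul_index
  rw [← Sylow.card_eq_index_normalizer S, (D.card_cent_five hb hbo).1, hcN] at h
  have hmod := card_sylow_modEq_one 5 H
  have hm : Nat.card (Sylow 5 H) ∈ Nat.divisors 12 := Nat.mem_divisors.2 ⟨hn5, by norm_num⟩
  rw [show Nat.divisors 12 = {1, 2, 3, 4, 6, 12} from by decide] at hm
  simp only [Finset.mem_insert, Finset.mem_singleton] at hm
  rw [Nat.ModEq] at hmod
  rcases hm with e | e | e | e | e | e <;> rw [e] at h hmod hne <;> omega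

/-- Elements of `P` conjugate to a generator of `zpowers b` have stabilizer of order 50. -/
theorem card_stab {b : G} (hb : b ∈ D.B) (hbo : orderOf b = 5) (P : Sylow 5 G) {x g : G}
    (hxP : x ∈ (P : Subgroup G)) (hg : g * x * g⁻¹ ∈ zpowers b) (hx : x ≠ 1) :
    Nat.card (normalizer ((P : Subgroup G) : Set G) ⊓ centralizer ({x} : Set G) : Subgroup G) = 50 := by
  have hne : g * x * g⁻¹ ≠ 1 := conj_ne_one hx
  have ho : orderOf (g * x * g⁻¹) = 5 := by
    refine ((Nat.prime_five).eq_one_or_self_of_dvd _ ?_).resolve_left fun e =>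
      hne (orderOf_eq_one_iff.1 e)
    rw [← hbo, ← Nat.card_zpowers b, ← Subgroup.orderOf_mk _ hg]; exact orderOf_dvd_natCard _
  rw [← D.card_stab_b (zpowers_le.2 hb hg) ho (g • P) ⟨x, hxP, rfl⟩]
  refine Nat.card_congr ((MulAut.conj g).toEquiv.subtypeEquiv fun a => ?_)
  show a ∈ _ ⊓ _ ↔ g * a * g⁻¹ ∈ _ ⊓ _
  rw [Subgroup.mem_inf, Subgroup.mem_inf, mem_normalizer_smul, conj_mem_cent]

theorem nOrbit_subset (P : Sylow 5 G) {x : G} (hx : x ∈ (P : Subgroup G)) (hx1 : x ≠ 1) :
    nOrbit (normalizer ((P : Subgroup G) : Set G)) x ⊆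
      {a | a ∈ (P : Subgroup G) ∧ a ≠ 1} := by
  rintro _ ⟨n, hn, rfl⟩
  exact ⟨(mem_normalizer_iff.1 hn x).1 hx, conj_ne_one hx1⟩

/-- The normalizer has order 300. -/
theorem card_normalizer5 {b : G} (hb : b ∈ D.B) (hbo : orderOf b = 5) (P : Sylow 5 G)
    (hbP : b ∈ (P : Subgroup G)) :
    Nat.card (normalizer ((P : Subgroup G) : Set G)) = 300 := by
  classical
  set N := normalizer ((P : Subgroup G) : Set G) with hN
  have hPN : (P : Subgroup G) ≤ N := Subgroup.le_normalizer
  have hb1 : b ≠ 1 := fun e => by rw [e, orderOf_one] at hbo; omega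
  have hP1 : Nat.card {a : G | a ∈ (P : Subgroup G) ∧ a ≠ 1} = 24 := by
    have h := Set.ncard_sdiff_singleton_add_one (one_mem (P : Subgroup G) : (1 : G) ∈ ((P : Subgroup G) : Set G))
      (Set.toFinite _)
    rw [← Nat.card_coe_set_eq, ← Nat.card_coe_set_eq] at h
    have h' : Nat.card ↥((P : Subgroup G) : Set G) = 25 := D.sylow5_card P
    rw [h'] at h
    rw [show {a : G | a ∈ (P : Subgroup G) ∧ a ≠ 1} = ((P : Subgroup G) : Set G) \ {1} from rfl]
    omega
  set m := Nat.card (nOrbit N b) with hm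
  have hNm : Nat.card N = 50 * m := by
    rw [← card_orbit_mul N (hPN hbP), ← hm, D.card_stab_b hb hbo P hbP, mul_comm]
  have hm24 : m ≤ 24 := hP1 ▸ Nat.card_le_card_of_injective
    (Set.inclusion (nOrbit_subset P hbP hb1)) (Set.inclusion_injective _)
  have hn : Nat.card (Sylow 5 G) * (50 * m) = 604800 := by
    rw [Sylow.card_eq_index_normalizer P, ← hNm, mul_comm]
    exact (Subgroup.card_mul_index _).trans D.hG
  have hmod := card_sylow_modEq_one 5 G
  -- the orbit is not trivial
  have hm1 : m ≠ 1 := by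
    intro h1
    obtain ⟨u, -, -, hu⟩ := D.bElt_inverted hb (Or.inr rfl) hbo
    obtain ⟨n, hnN, he⟩ := exists_fix_normalizer P (D.sylow5_comm P) hbP (g := u)
      (by rw [hu]; exact inv_mem hbP)
    rw [hu] at he
    have h2 : b⁻¹ ∈ nOrbit N b := ⟨n, hnN, he⟩
    have : Subsingleton (nOrbit N b) := (Nat.card_eq_one_iff_unique.1 h1).1
    have := congrArg Subtype.val (Subsingleton.elim (⟨_, h2⟩ : nOrbit N b) ⟨b, mem_nOrbit_self N b⟩)
    have hbi : b⁻¹ = b := this
    have hb2 : b ^ 2 = 1 := by rw [pow_two]; nth_rw 1 [← hbi]; group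
    have := orderOf_dvd_of_pow_eq_one hb2
    rw [hbo] at this; norm_num at this
  have hm21 : m ≠ 21 := by
    intro h21
    haveI : Fact (Nat.Prime 7) := ⟨by norm_num⟩
    obtain ⟨d, hd⟩ := exists_prime_orderOf_dvd_card' (G := N) 7 (by rw [hNm, h21]; norm_num)
    have hd7 : (d : G) ^ 7 = 1 := by
      have := pow_orderOf_eq_one d; rw [hd] at this; exact congrArg Subtype.val this
    have hfix := card_fixed_set (S := ((P : Subgroup G) : Set G)) hd7
      fun s hs => (mem_normalizer_iff.1 d.2 s).1 hs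
    have hP' : Nat.card ↥((P : Subgroup G) : Set G) = 25 := D.sylow5_card P
    rw [hP', show Nat.card {s : G // s ∈ ((P : Subgroup G) : Set G) ∧ Commute (d : G) s} =
      Nat.card ((P : Subgroup G) ⊓ centralizer ({(d : G)} : Set G) : Subgroup G) from Nat.card_congr
        (Equiv.subtypeEquivRight fun q => ⟨fun h => ⟨h.1, mem_cent.2 h.2.symm⟩,
          fun h => ⟨h.1, (mem_cent.1 h.2).symm⟩⟩)] at hfix
    have hdvd : Nat.card ((P : Subgroup G) ⊓ centralizer ({(d : G)} : Set G) : Subgroup G) ∣ 25 :=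
      D.sylow5_card P ▸ card_dvd_of_le inf_le_left
    have h25 : Nat.card ((P : Subgroup G) ⊓ centralizer ({(d : G)} : Set G) : Subgroup G) = 25 := by
      have hq := Nat.mem_divisors.2 ⟨hdvd, by norm_num⟩
      rw [show Nat.divisors 25 = {1, 5, 25} from by decide] at hq
      simp only [Finset.mem_insert, Finset.mem_singleton] at hq
      rw [Nat.ModEq] at hfix
      omega
    have heq := Subgroup.eq_of_le_of_card_ge
      (inf_le_left : (P : Subgroup G) ⊓ centralizer ({(d : G)} : Set G) ≤ P)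
      (by rw [h25, D.sylow5_card P])
    have hdc : (d : G) ∈ centralizer ((P : Subgroup G) : Set G) := by
      refine mem_centralizer_iff.2 fun a ha => ?_
      rw [← heq] at ha
      exact (mem_cent.1 ha.2).eq
    rw [D.cent_sylow5_le hb hbo P hbP] at hdc
    have := Subgroup.orderOf_dvd_natCard (P : Subgroup G) hdc
    rw [D.sylow5_card P, Subgroup.orderOf_coe, hd] at this
    norm_num at this
  have hm16 : m ≠ 16 := by
    intro h16
    have hbig : ∀ x ∈ (P : Subgroup G), x ≠ 1 → 16 ≤ Nat.card (nOrbit N x) := by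
      intro x hx hx1
      have h := card_orbit_mul N (hPN hx)
      rw [hNm, h16] at h
      set st := Nat.card (N ⊓ centralizer ({x} : Set G) : Subgroup G) with hst
      have hPst : 25 ∣ st := D.sylow5_card P ▸ card_dvd_of_le
        (le_inf hPN fun a ha => mem_cent.2 (D.sylow5_comm P a ha x hx))
      obtain ⟨l, hl⟩ := hPst
      have hl32 : Nat.card (nOrbit N x) * l = 32 := by rw [hl] at h; nlinarith
      suffices l ≤ 2 by
        have hl0 : l ≠ 0 := by rintro rfl; simp at hl32
        interval_cases l <;> omega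
      by_contra hl2
      have hl4 : 4 ∣ l := by
        have hd : l ∈ Nat.divisors 32 := Nat.mem_divisors.2 ⟨Dvd.intro_left _ hl32, by norm_num⟩
        rw [show Nat.divisors 32 = {1, 2, 4, 8, 16, 32} from by decide] at hd
        simp only [Finset.mem_insert, Finset.mem_singleton] at hd
        omega
      haveI : Fact (Nat.Prime 2) := ⟨Nat.prime_two⟩
      have h4 : 2 ^ 2 ∣ st := by rw [hl]; exact hl4.mul_left 25
      obtain ⟨S, hS⟩ := Sylow.exists_subgroup_card_pow_prime 2 h4
      have hS2 : IsPGroup 2 (S.map (N ⊓ centralizer ({x} : Set G) : Subgroup G).subtype) :=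
        (IsPGroup.of_card hS).map _
      obtain ⟨w, hwS, hw⟩ : ∃ w ∈ S.map (N ⊓ centralizer ({x} : Set G) : Subgroup G).subtype,
          orderOf w = 2 := by
        obtain ⟨w, hw⟩ := exists_prime_orderOf_dvd_card' (G := S) 2 (by rw [hS]; norm_num)
        refine ⟨_, ⟨(w : _), w.2, rfl⟩, ?_⟩
        rw [Subgroup.coe_subtype, Subgroup.orderOf_coe, Subgroup.orderOf_coe, hw]
      have hwx : Commute w x := mem_cent.1 (map_subtype_le S hwS).2
      have hxo : orderOf x = 5 := orderOf_eq_prime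
        ((D.exists_inverting hb hbo P hbP).choose_spec.2.2.2 x hx) hx1
      obtain ⟨y, hy, hyo⟩ := D.exists_zElt (p := 5) (Or.inr rfl)
      obtain ⟨g, hg⟩ := D.even_class (Or.inr rfl) hy hyo hb hbo hxo hw hwx
      rcases hg with hg | hg
      · have hy' := mem_zpowers_symm hg hyo (conj_ne_one hx1)
        set g' := (MulAut.conj g).toMonoidHom
        have hle : (S.map (N ⊓ centralizer ({x} : Set G) : Subgroup G).subtype).map g' ≤
            centralizer ({y} : Set G) := by
          rintro _ ⟨s, hs, rfl⟩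
          exact mem_cent.2 (commute_of_mem_zpowers hy'
            ((Commute.conj_iff g).2 (mem_cent.1 (map_subtype_le S hs).2)))
        have h2 := (D.zElt_two hy (Or.inr rfl) hyo).1 _ (hS2.map g') hle
        rw [Subgroup.card_map_of_injective (MulAut.conj g).injective,
          Subgroup.card_map_of_injective (Subgroup.subtype_injective _), hS] at h2
        simp at h2
      · have := D.card_stab hb hbo P hx hg hx1
        rw [← hN, ← hst, hl] at this
        omega
    obtain ⟨x, ⟨hx, hx1⟩, hxb⟩ : ∃ x ∈ {a : G | a ∈ (P : Subgroup G) ∧ a ≠ 1}, x ∉ nOrbit N b := by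
      by_contra! hall
      have := Nat.card_le_card_of_injective _ (Set.inclusion_injective (h := hall))
      rw [hP1, ← hm, h16] at this; omega
    have hdj := nOrbit_disjoint hxb
    have hu : nOrbit N b ∪ nOrbit N x ⊆ {a : G | a ∈ (P : Subgroup G) ∧ a ≠ 1} :=
      Set.union_subset (nOrbit_subset P hbP hb1) (nOrbit_subset P hx hx1)
    have := Set.ncard_le_ncard hu (Set.toFinite _)
    rw [Set.ncard_union_eq hdj (Set.toFinite _) (Set.toFinite _), ← Nat.card_coe_set_eq,
      ← Nat.card_coe_set_eq, ← Nat.card_coe_set_eq, ← hm, hP1] at this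
    have := hbig x hx hx1
    omega
  rw [Nat.ModEq] at hmod
  interval_cases m <;> omega

/-- `b` is not conjugate to its square; conjugates inside `zpowers b` are `b` and `b⁻¹`. -/
theorem conj_in_zpowers5 {b : G} (hb : b ∈ D.B) (hbo : orderOf b = 5) {g : G}
    (hg : g * b * g⁻¹ ∈ zpowers b) : g * b * g⁻¹ = b ∨ g * b * g⁻¹ = b⁻¹ := by
  classical
  obtain ⟨P, hP⟩ := (IsPGroup.of_card (n := 1) (by rw [Nat.card_zpowers, hbo, pow_one]) :
    IsPGroup 5 (zpowers b)).exists_le_sylow
  have hbP : b ∈ (P : Subgroup G) := hP (mem_zpowers b)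
  obtain ⟨n, hn, hne⟩ := exists_fix_normalizer P (D.sylow5_comm P) hbP (hP hg)
  rw [← hne] at hg ⊢
  by_contra hcon
  simp only [not_or] at hcon
  set N := normalizer ((P : Subgroup G) : Set G) with hN
  set K := N ⊓ normalizer (zpowers b : Set G) with hK
  have hbN : b ∈ N := Subgroup.le_normalizer hbP
  have hbK : b ∈ K := ⟨hbN, Subgroup.le_normalizer (mem_zpowers b)⟩
  have hnorm : ∀ k : G, k * b * k⁻¹ ∈ zpowers b → k ∈ normalizer (zpowers b : Set G) := fun k hk =>
    Subgroup.mem_normalizer_fintype fun a ha => by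
      obtain ⟨i, rfl⟩ := mem_zpowers_iff.1 ha
      rw [← conj_zpow]; exact zpow_mem hk i
  obtain ⟨u, -, -, hu⟩ := D.bElt_inverted hb (Or.inr rfl) hbo
  obtain ⟨u', hu'N, hu'⟩ := exists_fix_normalizer P (D.sylow5_comm P) hbP (g := u)
    (by rw [hu]; exact inv_mem hbP)
  rw [hu] at hu'
  set c := n * b * n⁻¹ with hc
  have h4 : ({b, b⁻¹, c, c⁻¹} : Finset G) ⊆ (Set.toFinite (nOrbit K b)).toFinset := by
    intro a ha
    simp only [Finset.mem_insert, Finset.mem_singleton] at ha
    rw [Set.Finite.mem_toFinset]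
    rcases ha with rfl | rfl | rfl | rfl
    · exact mem_nOrbit_self K _
    · exact ⟨u', ⟨hu'N, hnorm u' (by rw [hu']; exact inv_mem (mem_zpowers b))⟩, hu'⟩
    · exact ⟨n, ⟨hn, hnorm n hg⟩, rfl⟩
    · refine ⟨n * u', mul_mem ⟨hn, hnorm n hg⟩
        ⟨hu'N, hnorm u' (by rw [hu']; exact inv_mem (mem_zpowers b))⟩, ?_⟩
      rw [show n * u' * b * (n * u')⁻¹ = n * (u' * b * u'⁻¹) * n⁻¹ by group, hu', conj_inv]
  have hb2 : b⁻¹ ≠ b := fun h => by
    have : b ^ 2 = 1 := by rw [pow_two]; nth_rw 1 [← h]; group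
    have := orderOf_dvd_of_pow_eq_one this
    rw [hbo] at this; norm_num at this
  have hc2 : c⁻¹ ≠ c := fun h => hb2 (by
    rw [hc, conj_inv] at h
    exact mul_left_cancel (mul_right_cancel h))
  have hcard : ({b, b⁻¹, c, c⁻¹} : Finset G).card = 4 := by
    rw [Finset.card_insert_of_notMem, Finset.card_insert_of_notMem, Finset.card_pair]
    · exact Ne.symm hc2
    · simp only [Finset.mem_insert, Finset.mem_singleton, not_or]
      exact ⟨Ne.symm hcon.2, fun h => hcon.1 (inv_injective h).symm⟩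
    · simp only [Finset.mem_insert, Finset.mem_singleton, not_or]
      exact ⟨Ne.symm hb2, Ne.symm hcon.1, fun h => hcon.2 (by
        show c = b⁻¹
        rw [h, inv_inv])⟩
  have h4' : 4 ≤ Nat.card (nOrbit K b) := by
    rw [Nat.card_eq_card_finite_toFinset (Set.toFinite (nOrbit K b)), ← hcard]
    exact Finset.card_le_card h4
  have hle4 : Nat.card (nOrbit K b) ≤ 4 := by
    have hsub : nOrbit K b ⊆ ((zpowers b : Subgroup G) : Set G) \ {1} := by
      rintro _ ⟨k, hk, rfl⟩
      exact ⟨(mem_normalizer_iff.1 hk.2 b).1 (mem_zpowers b),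
        conj_ne_one fun e => by rw [e, orderOf_one] at hbo; omega⟩
    have h := Set.ncard_le_ncard hsub (Set.toFinite _)
    rw [Set.ncard_sdiff_singleton_of_mem (one_mem (zpowers b) : (1 : G) ∈ ((zpowers b : Subgroup G) : Set G)),
      ← Nat.card_coe_set_eq, ← Nat.card_coe_set_eq] at h
    have e : Nat.card ↥((zpowers b : Subgroup G) : Set G) = 5 := (Nat.card_zpowers b).trans hbo
    rw [e] at h
    exact h
  have hst : (K ⊓ centralizer ({b} : Set G) : Subgroup G) = N ⊓ centralizer ({b} : Set G) := by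
    refine le_antisymm (inf_le_inf_right _ inf_le_left) fun k hk => ⟨⟨hk.1, hnorm k ?_⟩, hk.2⟩
    rw [show k * b * k⁻¹ = b from mul_inv_eq_iff_eq_mul.2 (mem_cent.1 hk.2).eq]
    exact mem_zpowers b
  have h := card_orbit_mul K hbK
  rw [hst, D.card_stab_b hb hbo P hbP] at h
  have hdvd : Nat.card K ∣ 300 := D.card_normalizer5 hb hbo P hbP ▸ card_dvd_of_le inf_le_left
  rw [← h, show Nat.card (nOrbit K b) = 4 from le_antisymm hle4 h4'] at hdvd
  norm_num at hdvd

end Data

end CfsgLib.JTwoType
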