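import Cfsg.Agent.Lib.J2Type.Centralizer
import Cfsg.Agent.Lib.JTwoType.Basic
import Cfsg.Agent.Lib.Invol.GlaubermanZStar
import Cfsg.Prelude.Def_Transfer

/-!
# The data of a group of Hall–Janko type from the centraliser hypothesis in a simple group
-/

set_option autoImplicit false
set_option maxRecDepth 4000
set_option linter.style.haveILetI false
open Cfsg

namespace CfsgLib.JTwoType

open Subgroup
open CfsgLib.J2Type (mem_cent)

universe u

variable {G : Type u} [Group G] [Finite G]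

theorem alt_invol_sq : ∀ a : alternatingGroup (Fin 5), a ^ 4 = 1 → a * a = 1 := by decide +kernel

theorem alt_invol_conj' : ∀ a b : alternatingGroup (Fin 5), a * a = 1 → a ≠ 1 → b * b = 1 → b ≠ 1 →
    ∃ c : alternatingGroup (Fin 5), c * a * c⁻¹ = b := by decide +kernel

/-- If `z` is the only conjugate of itself in `Q`, every involution of `C(z)` outside `Q` is conjugate to `z`
and such a conjugate centralises an involution of `Q` other than `z`. -/
theorem outside_of_weak {z : G} {Q : Subgroup G} {f : ↥(centralizer ({z} : Set G)) →* alternatingGroup (Fin 5)}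
    (hz : orderOf z = 2) (hQle : Q ≤ centralizer ({z} : Set G)) (hker : ∀ h, f h = 1 ↔ (h : G) ∈ Q)
    (hsurj : Function.Surjective f) (hQ : Nat.card Q = 32) (hzQ : z ∈ Q)
    (hsq : ∀ q ∈ Q, q * q = 1 ∨ q * q = z)
    (hel : ∀ E : Subgroup G, E ≤ Q → (∀ x ∈ E, x * x = 1) → Nat.card E ≤ 4)
    (hwc : ∀ u ∈ Q, IsConj z u → u = z) {v : G} (hv : IsConj z v) (hvz : Commute v z) (hne : v ≠ z) :
    (∀ x, Commute x z → x * x = 1 → x ∉ Q → IsConj z x) ∧
      (∃ a ∈ Q, Commute a v ∧ a * a = 1 ∧ a ≠ 1 ∧ a ≠ z) := by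
  classical
  haveI := Fintype.ofFinite G
  obtain ⟨g, hg⟩ := isConj_iff.1 hv
  have hzz := CfsgLib.Invol.mul_self_eq_one hz
  have hvv : v * v = 1 := by rw [← hg, CfsgLib.J2Type.conj_mul_self hzz]
  have hvi : v⁻¹ = v := inv_eq_of_mul_eq_one_left hvv
  have hvC : v ∈ centralizer ({z} : Set G) := mem_cent.2 hvz
  have hvQ : v ∉ Q := fun h => hne (hwc v h hv)
  have hconjQ : ∀ c ∈ centralizer ({z} : Set G), ∀ q ∈ Q, c * q * c⁻¹ ∈ Q := fun c hc q hq =>
    (hker (⟨c, hc⟩ * ⟨q, hQle hq⟩ * ⟨c, hc⟩⁻¹)).1 (by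
      rw [map_mul, map_mul, (hker ⟨q, hQle hq⟩).2 hq, mul_one, map_inv, mul_inv_cancel])
  set K := Q ⊓ centralizer ({v} : Set G) with hK
  -- squares in `K` are trivial
  have hKsq : ∀ q ∈ K, q * q = 1 := by
    intro q hq
    refine (hsq q hq.1).resolve_right fun h => ?_
    have hz1 : z ≠ 1 := CfsgLib.Invol.ne_one_of_invol hz
    have hc : g⁻¹ * q * g ∈ centralizer ({z} : Set G) := by
      rw [mem_cent, ← Commute.conj_iff g, show g * (g⁻¹ * q * g) * g⁻¹ = q by group, hg]
      exact mem_cent.1 hq.2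
    set u := g⁻¹ * z * g with hu
    have hcu : g⁻¹ * q * g * (g⁻¹ * q * g) = u := by
      rw [show g⁻¹ * q * g * (g⁻¹ * q * g) = g⁻¹ * (q * q) * g by group, h]
    have huz : IsConj z u := isConj_iff.2 ⟨g⁻¹, by rw [inv_inv]⟩
    have huu : u * u = 1 := by rw [hu, show g⁻¹ * z * g * (g⁻¹ * z * g) = g⁻¹ * (z * z) * g by group, hzz]; group
    have hf4 : (f ⟨_, hc⟩) ^ 4 = 1 := by
      rw [← map_pow]
      have : (⟨_, hc⟩ : ↥(centralizer ({z} : Set G))) ^ 4 = 1 := Subtype.ext (by
        show (g⁻¹ * q * g) ^ 4 = 1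
        rw [show (4 : ℕ) = 2 + 2 from rfl, pow_add, pow_two, hcu, huu])
      rw [this, map_one]
    have huQ : u ∈ Q := by
      rw [← hcu]
      refine (hker (⟨_, hc⟩ * ⟨_, hc⟩)).1 ?_
      rw [map_mul]; exact alt_invol_sq _ hf4
    have h1 := hwc u huQ huz
    exact hne (by rw [← hg]; nth_rw 1 [← h1]; rw [hu]; group)
  have hK4 : Nat.card K ≤ 4 := hel K inf_le_left hKsq
  -- involutions in the coset of `v`
  set S := Finset.univ.filter fun q : G => q ∈ Q ∧ q * v * (q * v) = 1 with hS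
  have hSinv : ∀ q ∈ S, v * q * v = q⁻¹ := fun q hq => by
    apply eq_inv_of_mul_eq_one_right
    rw [← (Finset.mem_filter.1 hq).2.2]; group
  have hKc : (Finset.univ.filter fun q : G => q ∈ K).card = Nat.card K := by
    rw [Nat.card_eq_fintype_card, Fintype.card_subtype]
  have hS8 : S.card ≤ 2 * Nat.card K := by
    have h1 : (S.filter fun q => Commute q v).card ≤ Nat.card K := by
      rw [← hKc]
      refine Finset.card_le_card fun q hq => ?_
      obtain ⟨hq1, hq2⟩ := Finset.mem_filter.1 hq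
      exact Finset.mem_filter.2 ⟨Finset.mem_univ _, (Finset.mem_filter.1 hq1).2.1, mem_cent.2 hq2⟩
    have hanti : ∀ q ∈ S.filter (fun q => ¬ Commute q v), v * q * v = q * z := by
      intro q hq
      obtain ⟨hq1, hq2⟩ := Finset.mem_filter.1 hq
      rw [hSinv q hq1]
      rcases hsq q (Finset.mem_filter.1 hq1).2.1 with h | h
      · exfalso
        apply hq2
        have h' := hSinv q hq1
        rw [inv_eq_of_mul_eq_one_left h] at h'
        show q * v = v * q
        calc q * v = v * q * v * v := by rw [h']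
          _ = v * q := by rw [mul_assoc (v * q), hvv, mul_one]
      · apply inv_eq_of_mul_eq_one_right
        rw [← mul_assoc, h, hzz]
    have h2 : (S.filter fun q => ¬ Commute q v).card ≤ Nat.card K := by
      rcases (S.filter fun q => ¬ Commute q v).eq_empty_or_nonempty with e | ⟨w, hw⟩
      · rw [e]; simp
      rw [← hKc]
      refine Finset.card_le_card_of_injOn (fun q => q * w⁻¹) ?_ fun a _ b _ hab => mul_right_cancel hab
      intro q hq
      refine Finset.mem_filter.2 ⟨Finset.mem_univ _, Q.mul_mem (Finset.mem_filter.1 (Finset.mem_filter.1 hq).1).2.1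
        (Q.inv_mem (Finset.mem_filter.1 (Finset.mem_filter.1 hw).1).2.1), mem_cent.2 ?_⟩
      have h1 : v * (q * w⁻¹) * v = q * w⁻¹ := by
        calc v * (q * w⁻¹) * v = (v * q * v) * (v⁻¹ * w⁻¹ * v⁻¹) * (v * v) := by group
          _ = (q * z) * (v * w * v)⁻¹ := by rw [hvv, mul_one, hanti q hq]; group
          _ = (q * z) * (w * z)⁻¹ := by rw [hanti w hw]
          _ = q * w⁻¹ := by group
      show q * w⁻¹ * v = v * (q * w⁻¹)
      nth_rw 1 [← h1]
      rw [mul_assoc, hvv, mul_one]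
    have := Finset.card_filter_add_card_filter_not (s := S) (fun q => Commute q v)
    omega
  have hQf : (Finset.univ.filter fun q : G => q ∈ Q).card = 32 := by
    rw [← hQ, Nat.card_eq_fintype_card, Fintype.card_subtype]
  let φ : G → G := fun q => q * v * q⁻¹ * v
  have hφS : ∀ q ∈ Finset.univ.filter (fun q : G => q ∈ Q), φ q ∈ S := fun q hq => by
    have hq' := (Finset.mem_filter.1 hq).2
    refine Finset.mem_filter.2 ⟨Finset.mem_univ _, ?_, ?_⟩
    · have h1 := Q.mul_mem hq' (hconjQ v hvC _ (Q.inv_mem hq'))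
      rw [hvi] at h1
      show q * v * q⁻¹ * v ∈ Q
      simpa [mul_assoc] using h1
    · show q * v * q⁻¹ * v * v * (q * v * q⁻¹ * v * v) = 1
      rw [mul_assoc (q * v * q⁻¹) v v, hvv, mul_one]
      calc q * v * q⁻¹ * (q * v * q⁻¹) = q * (v * v) * q⁻¹ := by group
        _ = 1 := by rw [hvv]; group
  have hfib : ∀ b ∈ S, ((Finset.univ.filter fun q : G => q ∈ Q).filter fun a => φ a = b).card ≤ Nat.card K := by
    intro b _
    rcases ((Finset.univ.filter fun q : G => q ∈ Q).filter fun a => φ a = b).eq_empty_or_nonempty with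
      e | ⟨w, hw⟩
    · rw [e]; simp
    rw [← hKc]
    refine Finset.card_le_card_of_injOn (fun a => w⁻¹ * a) ?_ fun a _ a' _ h => mul_left_cancel h
    intro a ha
    obtain ⟨ha1, ha2⟩ := Finset.mem_filter.1 ha
    obtain ⟨hw1, hw2⟩ := Finset.mem_filter.1 hw
    have h1 : a * v * a⁻¹ = w * v * w⁻¹ := mul_right_cancel (ha2.trans hw2.symm :)
    refine Finset.mem_filter.2 ⟨Finset.mem_univ _,
      Q.mul_mem (Q.inv_mem (Finset.mem_filter.1 hw1).2) (Finset.mem_filter.1 ha1).2, mem_cent.2 ?_⟩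
    show w⁻¹ * a * v = v * (w⁻¹ * a)
    calc w⁻¹ * a * v = w⁻¹ * (a * v * a⁻¹) * a := by group
      _ = w⁻¹ * (w * v * w⁻¹) * a := by rw [h1]
      _ = v * (w⁻¹ * a) := by group
  set T := (Finset.univ.filter fun q : G => q ∈ Q).image φ with hT
  have hTS : T ⊆ S := fun b hb => by
    obtain ⟨q, hq, rfl⟩ := Finset.mem_image.1 hb
    exact hφS q hq
  have hT32 : 32 ≤ T.card * Nat.card K := by
    rw [← hQf, mul_comm]
    exact Finset.card_le_mul_card_image _ _ fun b hb => hfib b (hTS hb)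
  have hTle := Finset.card_le_card hTS
  have hk : Nat.card K = 4 := by
    interval_cases h : Nat.card K <;> omega
  have hTeq : T = S := Finset.eq_of_subset_of_card_le hTS (by rw [hk] at hT32 hS8; omega)
  refine ⟨fun x hx hxx hxQ => ?_, ?_⟩
  · have hav : f ⟨v, hvC⟩ * f ⟨v, hvC⟩ = 1 := by
      rw [← map_mul, show (⟨v, hvC⟩ : ↥(centralizer ({z} : Set G))) * ⟨v, hvC⟩ = 1 from Subtype.ext hvv, map_one]
    have hax : f ⟨x, mem_cent.2 hx⟩ * f ⟨x, mem_cent.2 hx⟩ = 1 := by
      rw [← map_mul, show (⟨x, mem_cent.2 hx⟩ : ↥(centralizer ({z} : Set G))) * ⟨x, mem_cent.2 hx⟩ = 1 from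
        Subtype.ext hxx, map_one]
    obtain ⟨a, ha⟩ := alt_invol_conj' (f ⟨x, mem_cent.2 hx⟩) (f ⟨v, hvC⟩) hax (fun h => hxQ ((hker _).1 h)) hav
      fun h => hvQ ((hker _).1 h)
    obtain ⟨c, rfl⟩ := hsurj a
    set y := (c : G) * x * (c : G)⁻¹ with hy
    have hyy : y * y = 1 := CfsgLib.J2Type.conj_mul_self hxx
    have hq : y * v ∈ Q := by
      refine (hker (c * ⟨x, mem_cent.2 hx⟩ * c⁻¹ * ⟨v, hvC⟩)).1 ?_
      rw [map_mul, map_mul, map_mul, map_inv, ha, hav]
    have hyS : y * v ∈ S := Finset.mem_filter.2 ⟨Finset.mem_univ _, hq, by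
      rw [show y * v * v = y by rw [mul_assoc, hvv, mul_one], hyy]⟩
    rw [← hTeq] at hyS
    obtain ⟨q, -, hq'⟩ := Finset.mem_image.1 hyS
    have hy' : q * v * q⁻¹ = y := mul_right_cancel hq'
    exact (hv.trans (isConj_iff.2 ⟨q, hy'⟩)).trans (isConj_iff.2 ⟨(c : G)⁻¹, by rw [hy]; group⟩)
  · by_contra hall
    push Not at hall
    have hsub : (Finset.univ.filter fun q : G => q ∈ K) ⊆ {1, z} := fun a ha => by
      have ha' := (Finset.mem_filter.1 ha).2
      by_cases h1 : a = 1
      · simp [h1]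
      · simp [hall a ha'.1 (mem_cent.1 ha'.2) (hKsq a ha') h1]
    have := Finset.card_le_card hsub
    rw [hKc, hk] at this
    have := this.trans Finset.card_le_two
    omega

/-- In the situation of `outside_of_weak` the conjugates of `z` cannot all lie outside `Q`. -/
theorem false_of_weak {z : G} {Q : Subgroup G} {f : ↥(centralizer ({z} : Set G)) →* alternatingGroup (Fin 5)}
    (hz : orderOf z = 2) (hQle : Q ≤ centralizer ({z} : Set G)) (hker : ∀ h, f h = 1 ↔ (h : G) ∈ Q)
    (hsurj : Function.Surjective f) (hQ : Nat.card Q = 32) (hzQ : z ∈ Q)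
    (hsq : ∀ q ∈ Q, q * q = 1 ∨ q * q = z)
    (hel : ∀ E : Subgroup G, E ≤ Q → (∀ x ∈ E, x * x = 1) → Nat.card E ≤ 4)
    (hwc : ∀ u ∈ Q, IsConj z u → u = z) {v : G} (hv : IsConj z v) (hvz : Commute v z) (hne : v ≠ z) :
    False := by
  obtain ⟨g, hg⟩ := isConj_iff.1 hv
  -- move `v` to `z`
  have hv' : IsConj z (g⁻¹ * z * g) := isConj_iff.2 ⟨g⁻¹, by rw [inv_inv]⟩
  have hcz : Commute (g⁻¹ * z * g) z := by
    rw [← Commute.conj_iff g, show g * (g⁻¹ * z * g) * g⁻¹ = z by group, hg]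
    exact hvz.symm
  have hne' : g⁻¹ * z * g ≠ z := fun h => hne (by rw [← hg]; nth_rw 1 [← h]; group)
  obtain ⟨hout, -⟩ := outside_of_weak hz hQle hker hsurj hQ hzQ hsq hel hwc hv hvz hne
  obtain ⟨-, a, haQ, hac, haa, ha1, haz⟩ :=
    outside_of_weak hz hQle hker hsurj hQ hzQ hsq hel hwc hv' hcz hne'
  have hzz := CfsgLib.Invol.mul_self_eq_one hz
  have hkey : ∀ b ∈ Q, Commute b (g⁻¹ * z * g) → b * b = 1 → b ≠ 1 → b ≠ z → g * b * g⁻¹ ∈ Q := by
    intro b hbQ hbc hbb hb1 hbz
    by_contra hnQ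
    have hc : Commute (g * b * g⁻¹) z := by
      have h := (Commute.conj_iff g).2 hbc
      rwa [show g * (g⁻¹ * z * g) * g⁻¹ = z by group] at h
    have h1 := hout _ hc (CfsgLib.J2Type.conj_mul_self hbb) hnQ
    exact hbz (hwc b hbQ (h1.trans (isConj_iff.2 ⟨g⁻¹, by group⟩)))
  have haz' : Commute a z := mem_cent.1 (hQle haQ)
  have h1 := hkey a haQ hac haa ha1 haz
  have h2 := hkey (a * z) (mul_mem haQ hzQ) (hac.mul_left hcz.symm)
    (by rw [mul_assoc, ← mul_assoc z a, ← haz'.eq, mul_assoc a z z, hzz, mul_one, haa])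
    (fun h => haz (by rw [eq_inv_of_mul_eq_one_left h, CfsgLib.Invol.inv_eq_self hz]))
    (fun h => ha1 (mul_eq_right.1 h))
  have h3 : g * z * g⁻¹ ∈ Q := by
    have := mul_mem (inv_mem h1) h2
    rwa [show (g * a * g⁻¹)⁻¹ * (g * (a * z) * g⁻¹) = g * z * g⁻¹ by group] at this
  rw [hg] at h3
  exact hne (hwc v h3 hv)

/-- The centraliser hypothesis in a simple group with two classes of involutions gives the data. -/
theorem exists_data_of_simple [IsSimpleGroup G] (z : G) (hz : orderOf z = 2) (Q : Subgroup (Subgroup.centralizer ({z} : Set G))) [Q.Normal] (hQ : Cfsg.IsExtraspecial 2 Q) (hcard : Nat.card Q = 32) (hminus : ∀ E : Subgroup Q, Cfsg.IsElementaryAbelian 2 E → Nat.card E ≤ 2 ^ 2) (hfaithP : Subgroup.centralizer (Q : Set (Subgroup.centralizer ({z} : Set G))) ≤ Q) (eA : (Subgroup.centralizer ({z} : Set G)) ⧸ Q ≃* alternatingGroup (Fin 5)) (hcl : ∃ x y : G, orderOf x = 2 ∧ orderOf y = 2 ∧ ¬ IsConj x y) :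
    Nonempty (CfsgLib.JTwoType.Data G) := by
  classical
  haveI : Fact (Nat.Prime 2) := ⟨Nat.prime_two⟩
  have hzC : z ∈ Subgroup.centralizer ({z} : Set G) := Subgroup.mem_centralizer_singleton_iff.2 rfl
  let f : ↥(Subgroup.centralizer ({z} : Set G)) →* alternatingGroup (Fin 5) :=
    eA.toMonoidHom.comp (QuotientGroup.mk' Q)
  have hzP : (⟨z, hzC⟩ : ↥(Subgroup.centralizer ({z} : Set G))) ∈ Q :=
    hfaithP (Subgroup.mem_centralizer_iff.2 fun q _ => Subtype.ext (Subgroup.mem_centralizer_singleton_iff.1 q.2))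
  have hz1 : z ≠ 1 := fun h => by rw [h, orderOf_one] at hz; omega
  have hmemQ : ∀ h : ↥(Subgroup.centralizer ({z} : Set G)), (h : G) ∈ Q.map (Subgroup.centralizer ({z} : Set G)).subtype ↔ h ∈ Q := fun h => by
    constructor
    · rintro ⟨p, hp, he⟩
      rwa [show h = p from Subtype.ext he.symm]
    · exact fun hh => ⟨h, hh, rfl⟩
  -- extraspecial facts
  have hcen : ∀ p : ↥Q, p ∈ Subgroup.center ↥Q → p = 1 ∨ p = ⟨⟨z, hzC⟩, hzP⟩ := by
    intro p hp
    have hzc : (⟨⟨z, hzC⟩, hzP⟩ : ↥Q) ∈ Subgroup.center ↥Q := Subgroup.mem_center_iff.2 fun g =>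
      Subtype.ext (Subtype.ext (Subgroup.mem_centralizer_singleton_iff.1 g.1.2))
    by_cases hp1 : p = 1
    · exact Or.inl hp1
    right
    by_contra hne
    have h2 := hQ.2
    haveI := Fintype.ofFinite (Subgroup.center ↥Q)
    rw [Nat.card_eq_fintype_card] at h2
    have := Finset.card_le_univ ({1, ⟨p, hp⟩, ⟨_, hzc⟩} : Finset (Subgroup.center ↥Q))
    rw [Finset.card_insert_of_notMem, Finset.card_pair, h2] at this
    · omega
    · exact fun h => hne (congrArg Subtype.val h)
    · simp only [Finset.mem_insert, Finset.mem_singleton, not_or]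
      refine ⟨fun h => hp1 (congrArg Subtype.val h).symm, fun h => hz1 ?_⟩
      exact (congrArg (fun c : Subgroup.center ↥Q => ((c.1.1 : ↥(Subgroup.centralizer ({z} : Set G))) : G)) h).symm
  have hcomm' : ∀ p q : ↥Q, p * q = q * p ∨ p * q = q * p * ⟨⟨z, hzC⟩, hzP⟩ := by
    intro p q
    have hm : p⁻¹ * q⁻¹ * p * q ∈ Subgroup.center ↥Q := by
      rw [← hQ.1.2.2, commutator_def]
      have := Subgroup.commutator_mem_commutator (H₁ := (⊤ : Subgroup ↥Q)) (H₂ := ⊤)
        (Subgroup.mem_top p⁻¹) (Subgroup.mem_top q⁻¹)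
      simpa [commutatorElement_def] using this
    rcases hcen _ hm with h | h
    · left
      have := congrArg (fun c => q * p * c) h
      simpa [mul_assoc] using this
    · right
      have := congrArg (fun c => q * p * c) h
      simpa [mul_assoc] using this
  have hsq' : ∀ p : ↥Q, p * p = 1 ∨ p * p = ⟨⟨z, hzC⟩, hzP⟩ := by
    intro p
    refine hcen _ (Subgroup.mem_center_iff.2 fun g => ?_)
    rcases hcomm' g p with h | h
    · calc g * (p * p) = g * p * p := (mul_assoc _ _ _).symm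
        _ = p * g * p := by rw [h]
        _ = p * (g * p) := mul_assoc _ _ _
        _ = p * (p * g) := by rw [h]
        _ = p * p * g := (mul_assoc _ _ _).symm
    · set c : ↥Q := ⟨⟨z, hzC⟩, hzP⟩
      have hcc : c * c = 1 := Subtype.ext (Subtype.ext (CfsgLib.Invol.mul_self_eq_one hz))
      have hcp : Commute c p := Subtype.ext (Subtype.ext
        (Subgroup.mem_centralizer_singleton_iff.1 p.1.2).symm)
      calc g * (p * p) = g * p * p := (mul_assoc _ _ _).symm
        _ = p * g * (c * p) := by rw [h, mul_assoc]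
        _ = p * g * (p * c) := by rw [hcp.eq]
        _ = p * (g * p) * c := by group
        _ = p * p * g * (c * c) := by rw [h]; group
        _ = p * p * g := by rw [hcc, mul_one]
  set Q' := Q.map (Subgroup.centralizer ({z} : Set G)).subtype with hQ'
  have hkerQ : ∀ h, f h = 1 ↔ (h : G) ∈ Q' := fun h => by
    rw [hmemQ]
    show eA (QuotientGroup.mk h) = 1 ↔ _
    rw [MulEquiv.map_eq_one_iff, QuotientGroup.eq_one_iff]
  have hsqQ : ∀ q ∈ Q', q * q = 1 ∨ q * q = z := by
    rintro _ ⟨q, hq, rfl⟩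
    rcases hsq' ⟨q, hq⟩ with h | h
    · exact Or.inl (congrArg (fun c : ↥Q => ((c.1 : ↥(Subgroup.centralizer ({z} : Set G))) : G)) h)
    · exact Or.inr (congrArg (fun c : ↥Q => ((c.1 : ↥(Subgroup.centralizer ({z} : Set G))) : G)) h)
  have hQ32 : Nat.card Q' = 32 := by
    rw [hQ', Subgroup.card_map_of_injective (Subgroup.centralizer ({z} : Set G)).subtype_injective, hcard]
  have hnwc' : ∃ u ∈ Q', u ≠ z ∧ IsConj z u := by
    by_contra hno
    push Not at hno
    have hwc : ∀ u ∈ Q', IsConj z u → u = z := fun u hu hc => by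
      by_contra hne
      exact hno u hu hne hc
    have hel : ∀ E : Subgroup G, E ≤ Q' → (∀ x ∈ E, x * x = 1) → Nat.card E ≤ 4 := by
      intro E hE hEsq
      let emb : ↥Q →* G := (Subgroup.centralizer ({z} : Set G)).subtype.comp Q.subtype
      have hemb : Function.Injective emb := Subtype.val_injective.comp Subtype.val_injective
      have hcard' : Nat.card (E.comap emb) = Nat.card E := by
        rw [← Subgroup.card_map_of_injective (K := E.comap emb) hemb, Subgroup.map_comap_eq,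
          inf_of_le_right]
        exact hE.trans (by rintro _ ⟨q, hq, rfl⟩; exact ⟨⟨q, hq⟩, rfl⟩)
      rw [← hcard']
      have hsqc : ∀ x : ↥(E.comap emb), x * x = 1 := fun x =>
        Subtype.ext (hemb ((map_mul emb _ _).trans ((hEsq _ x.2).trans (map_one emb).symm)))
      refine hminus _ ⟨⟨⟨fun a b => ?_⟩⟩, fun x hx => by rw [pow_two]; exact congrArg Subtype.val (hsqc ⟨x, hx⟩)⟩
      have h1 := inv_eq_of_mul_eq_one_left (hsqc (a * b))
      rw [mul_inv_rev, inv_eq_of_mul_eq_one_left (hsqc a), inv_eq_of_mul_eq_one_left (hsqc b)] at h1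
      exact h1.symm
    have hex : ∃ g : G, Commute z (g * z * g⁻¹) ∧ g * z * g⁻¹ ≠ z := by
      by_contra hno'
      push Not at hno'
      have hz' := CfsgLib.Invol.zStar ⟨hz, hno'⟩
      have h60 : 60 ∣ Nat.card G := by
        have h1 := (Subgroup.card_eq_card_quotient_mul_card_subgroup Q)
        rw [Nat.card_congr eA.toEquiv, Nat.card_eq_fintype_card (α := alternatingGroup (Fin 5)),
          InvChar.J2Order.alt_card, hcard] at h1
        refine dvd_trans ?_ (Subgroup.card_subgroup_dvd_card (Subgroup.centralizer ({z} : Set G)))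
        rw [h1]; exact dvd_mul_right _ _
      have hcore : Cfsg.pPrimeCore 2 G = ⊥ :=
        (CfsgLib.Solvable.pPrimeCore_normal 2 G).eq_bot_or_eq_top.resolve_right fun htop => by
          have hcop := CfsgLib.Solvable.pPrimeCore_card_coprime 2 G
          rw [htop, Subgroup.card_top] at hcop
          exact (Nat.prime_two.coprime_iff_not_dvd.1 hcop.symm) ((by norm_num : 2 ∣ 60).trans h60)
      have hzcen : z ∈ Subgroup.center G := Subgroup.mem_center_iff.2 fun g => by
        have h := hz' g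
        rw [hcore, Subgroup.mem_bot] at h
        exact (mul_inv_eq_iff_eq_mul.1 (mul_inv_eq_one.1 h)).symm
      have hprime : (Nat.card G).Prime := by
        rcases (inferInstance : (Subgroup.center G).Normal).eq_bot_or_eq_top with h | h
        · exact absurd (Subgroup.mem_bot.1 (h ▸ hzcen)) hz1
        · letI : CommGroup G := Group.commGroupOfCenterEqTop h
          exact IsSimpleGroup.prime_card
      have := (Nat.prime_dvd_prime_iff_eq Nat.prime_two hprime).1 ((by norm_num : 2 ∣ 60).trans h60)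
      rw [← this] at h60
      norm_num at h60
    obtain ⟨g, hgc, hgne⟩ := hex
    exact false_of_weak hz (Subgroup.map_subtype_le Q) hkerQ (eA.surjective.comp (QuotientGroup.mk'_surjective Q))
      hQ32 ((hmemQ ⟨z, hzC⟩).2 hzP) hsqQ hel hwc (isConj_iff.2 ⟨g, rfl⟩) hgc.symm hgne
  have hH : CfsgLib.J2Type.Hyp z (Q.map (Subgroup.centralizer ({z} : Set G)).subtype) f :=
    { hz := hz
      hQle := Subgroup.map_subtype_le Q
      hker := fun h => by
        rw [hmemQ]
        show eA (QuotientGroup.mk h) = 1 ↔ _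
        rw [MulEquiv.map_eq_one_iff, QuotientGroup.eq_one_iff]
      hsurj := eA.surjective.comp (QuotientGroup.mk'_surjective Q)
      hQ := hQ32
      hzQ := (hmemQ ⟨z, hzC⟩).2 hzP
      hsq := by
        rintro _ ⟨q, hq, rfl⟩
        rcases hsq' ⟨q, hq⟩ with h | h
        · exact Or.inl (congrArg (fun c : ↥Q => ((c.1 : ↥(Subgroup.centralizer ({z} : Set G))) : G)) h)
        · exact Or.inr (congrArg (fun c : ↥Q => ((c.1 : ↥(Subgroup.centralizer ({z} : Set G))) : G)) h)
      hcomm := by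
        rintro _ ⟨p, hp, rfl⟩ _ ⟨q, hq, rfl⟩
        rcases hcomm' ⟨p, hp⟩ ⟨q, hq⟩ with h | h
        · exact Or.inl (congrArg (fun c : ↥Q => ((c.1 : ↥(Subgroup.centralizer ({z} : Set G))) : G)) h)
        · exact Or.inr (congrArg (fun c : ↥Q => ((c.1 : ↥(Subgroup.centralizer ({z} : Set G))) : G)) h)
      hcent := by
        rintro _ ⟨p, hp, rfl⟩ hall
        rcases hcen ⟨p, hp⟩ (Subgroup.mem_center_iff.2 fun g =>
          Subtype.ext (Subtype.ext (hall _ ((hmemQ g.1).2 g.2)).symm)) with h | h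
        · exact Or.inl (congrArg (fun c : ↥Q => ((c.1 : ↥(Subgroup.centralizer ({z} : Set G))) : G)) h)
        · exact Or.inr (congrArg (fun c : ↥Q => ((c.1 : ↥(Subgroup.centralizer ({z} : Set G))) : G)) h)
      hfaith := fun h hh => (hmemQ h).2 (hfaithP (Subgroup.mem_centralizer_iff.2 fun q hq =>
        Subtype.ext (hh _ ((hmemQ q).2 hq)).eq.symm))
      hnwc := hnwc' }
  have hfin : ∀ t₀ : G, orderOf t₀ = 2 → ¬ IsConj z t₀ → Nonempty (CfsgLib.JTwoType.Data G) := by
    intro t₀ ht₀ hn₀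
    obtain ⟨t, V, B, hct, htz, -⟩ := hH.exists_ct ht₀ hn₀
    exact ⟨⟨z, t, _, _, V, B, hH.cz_hyp hct.ht hct.hzt htz, hct, hH.classes hct.ht hct.hzt,
      hH.card_group ht₀ hn₀⟩⟩
  obtain ⟨x, y, hx, hy, hxy⟩ := hcl
  by_cases hzx : IsConj z x
  · exact hfin y hy fun hzy => hxy (hzx.symm.trans hzy)
  · exact hfin x hx hzx

end CfsgLib.JTwoType
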