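import Cfsg.Agent.Lib.JTwoType.ThreeMain

/-!
# Groups of Hall–Janko type: Sylow 7-structure
-/

set_option autoImplicit false

namespace CfsgLib.JTwoType

open Subgroup CfsgLib.Invol
open scoped Pointwise

universe u

variable {G : Type u} [Group G] [Finite G]

namespace Data

variable (D : Data G) [Fact (Nat.Prime 7)]

include D in
theorem sylow7_card (P : Sylow 7 G) : Nat.card P = 7 := by
  rw [P.card_eq_multiplicity, D.hG, show (604800 : ℕ) = 7 * 86400 by norm_num,
    Nat.factorization_mul (by norm_num) (by norm_num), Finsupp.add_apply,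
    (show Nat.Prime 7 by norm_num).factorization_self,
    Nat.factorization_eq_zero_of_not_dvd (by norm_num)]
  norm_num

include D in
theorem no_two_three_in_cent7 (P : Sylow 7 G) :
    ¬ 2 ∣ Nat.card (centralizer ((P : Subgroup G) : Set G)) ∧
      ¬ 3 ∣ Nat.card (centralizer ((P : Subgroup G) : Set G)) := by
  have hc : ∀ x ∈ centralizer ((P : Subgroup G) : Set G), 7 ∣ Nat.card (centralizer ({x} : Set G)) :=
    fun x hx => D.sylow7_card P ▸ card_dvd_of_le
      (fun d hd => mem_cent.2 (mem_centralizer_iff.1 hx d hd) : (P : Subgroup G) ≤ centralizer ({x} : Set G))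
  constructor
  · intro h2
    haveI : Fact (Nat.Prime 2) := ⟨Nat.prime_two⟩
    obtain ⟨w, hw⟩ := exists_prime_orderOf_dvd_card' (G := centralizer ((P : Subgroup G) : Set G)) 2 h2
    have h := hc w w.2
    rcases D.hcl (w : G) ((Subgroup.orderOf_coe w).trans hw) with e | e <;> rw [cent_conj_card e] at h
    · rw [D.zCard] at h; norm_num at h
    · rw [D.tCard] at h; norm_num at h
  · intro h3
    haveI : Fact (Nat.Prime 3) := ⟨Nat.prime_three⟩
    obtain ⟨w, hw⟩ := exists_prime_orderOf_dvd_card' (G := centralizer ((P : Subgroup G) : Set G)) 3 h3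
    have h := hc w w.2
    obtain ⟨a, b, -, -, -, hclass, ha, hb, -⟩ := D.exists_sylow3_data
    rcases hclass (w : G) ((Subgroup.orderOf_coe w).trans hw) with e | e <;> rw [cent_conj_card e] at h
    · rw [ha] at h; norm_num at h
    · exact hb h

include D in
theorem sylow7_data (P : Sylow 7 G) :
    centralizer ((P : Subgroup G) : Set G) = P ∧
      Nat.card (normalizer ((P : Subgroup G) : Set G)) = 42 ∧
      ¬ IsMulCommutative (normalizer ((P : Subgroup G) : Set G)) := by
  classical
  set H := (P : Subgroup G) with hH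
  set N := normalizer (H : Set G) with hN
  set C := centralizer (H : Set G) with hC
  obtain ⟨h2, h3⟩ := D.no_two_three_in_cent7 P
  have hP7 : Nat.card H = 7 := D.sylow7_card P
  have hHC : H ≤ C := by
    haveI : IsCyclic H := isCyclic_of_prime_card hP7
    intro x hx
    refine mem_centralizer_iff.2 fun y hy => ?_
    letI : CommGroup H := IsCyclic.commGroup
    exact congrArg Subtype.val (mul_comm (⟨y, hy⟩ : H) ⟨x, hx⟩)
  have hCN : C ≤ N := Subgroup.centralizer_le_normalizer _
  -- the quotient by the centralizer embeds in the automorphisms of a group of order 7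
  set φ : N →* MulAut H := Subgroup.normalizerMonoidHom H
  have hker : Nat.card φ.ker = Nat.card C := by
    rw [show φ.ker = C.subgroupOf N from Subgroup.normalizerMonoidHom_ker H]
    exact Nat.card_congr (subgroupOfEquivOfLe hCN).toEquiv
  have hrange : Nat.card φ.range ∣ 6 := by
    haveI : IsCyclic H := isCyclic_of_prime_card hP7
    have haut : Nat.card (MulAut H) = 6 := by
      rw [IsCyclic.card_mulAut, hP7, Nat.totient_prime (by norm_num)]
    exact haut ▸ card_subgroup_dvd_card φ.range
  have hNCk : Nat.card N = Nat.card C * Nat.card φ.range := by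
    rw [← hker, ← φ.ker.card_mul_index, Subgroup.index_eq_card,
      Nat.card_congr (QuotientGroup.quotientKerEquivRange φ).toEquiv]
  have hn : Nat.card (Sylow 7 G) * Nat.card N = 604800 := by
    rw [Sylow.card_eq_index_normalizer P, mul_comm]
    exact (Subgroup.card_mul_index _).trans D.hG
  have hmod := card_sylow_modEq_one 7 G
  have h7 : 7 ∣ Nat.card C := hP7 ▸ card_dvd_of_le hHC
  have hCd : Nat.card C ∣ 604800 := D.hG ▸ card_subgroup_dvd_card C
  obtain ⟨l, hl⟩ := h7
  rw [hl] at h2 h3 hCd hNCk
  have hl25 : l ∣ 25 := by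
    have h1 : l ∣ 86400 := Nat.dvd_of_mul_dvd_mul_left (by norm_num) (show 7 * l ∣ 7 * 86400 from hCd)
    have hc2 : Nat.Coprime l 2 :=
      (Nat.prime_two.coprime_iff_not_dvd.2 fun h => h2 (h.mul_left 7)).symm
    have hc3 : Nat.Coprime l 3 :=
      (Nat.prime_three.coprime_iff_not_dvd.2 fun h => h3 (h.mul_left 7)).symm
    have hcop : Nat.Coprime l (2 ^ 7 * 3 ^ 3) := (hc2.pow_right 7).mul_right (hc3.pow_right 3)
    exact hcop.dvd_of_dvd_mul_left (show l ∣ 2 ^ 7 * 3 ^ 3 * 25 by norm_num; exact h1)
  have hlm : l ∈ Nat.divisors 25 := Nat.mem_divisors.2 ⟨hl25, by norm_num⟩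
  rw [show Nat.divisors 25 = {1, 5, 25} from by decide] at hlm
  simp only [Finset.mem_insert, Finset.mem_singleton] at hlm
  have hrm : Nat.card φ.range ∈ Nat.divisors 6 := Nat.mem_divisors.2 ⟨hrange, by norm_num⟩
  rw [show Nat.divisors 6 = {1, 2, 3, 6} from by decide] at hrm
  simp only [Finset.mem_insert, Finset.mem_singleton] at hrm
  rw [hNCk] at hn
  rw [Nat.ModEq] at hmod
  have hres : l = 1 ∧ Nat.card φ.range = 6 := by
    rcases hlm with rfl | rfl | rfl <;> rcases hrm with e | e | e | e <;> rw [e] at hn ⊢ <;> omega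
  have hCH : C = H :=
    (Subgroup.eq_of_le_of_card_ge hHC (by rw [hl, hres.1, hP7])).symm
  refine ⟨hCH, by rw [hNCk, hres.1, hres.2], fun hab => ?_⟩
  have hle : N ≤ C := fun n hn' => mem_centralizer_iff.2 fun y hy =>
    congrArg Subtype.val (hab.is_comm.comm (⟨y, Subgroup.le_normalizer hy⟩ : N) ⟨n, hn'⟩)
  have := Subgroup.card_le_of_le hle
  rw [hNCk, hres.1, hres.2, hCH, hP7] at this
  omega

end Data

end CfsgLib.JTwoType
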