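import Cfsg.Agent.Lib.JTwoType.FiveNormalizer

/-!
# Groups of Hall–Janko type: the centralizer of a 3-element centralizing `B`
-/

set_option autoImplicit false

namespace CfsgLib.JTwoType

open Subgroup CfsgLib.Invol
open scoped Pointwise

universe u

variable {G : Type u} [Group G] [Finite G]

namespace Data

variable (D : Data G)

include D in
/-- A permutation group action of `B` on fewer than five points is trivial. -/
theorem bAction_trivial {α : Type*} [Finite α] (φ : D.B →* Equiv.Perm α) (hα : Nat.card α ≤ 4)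
    (b : D.B) : φ b = 1 := by
  obtain ⟨e⟩ := D.ht.hB
  haveI : IsSimpleGroup (alternatingGroup (Fin 5)) := alternatingGroup.isSimpleGroup_five
  haveI : Nontrivial D.B := e.toEquiv.nontrivial
  haveI : IsSimpleGroup D.B := IsSimpleGroup.isSimpleGroup_of_surjective e.symm.toMonoidHom e.symm.surjective
  rcases (φ.normal_ker).eq_bot_or_eq_top with h | h
  · exfalso
    have hle := Nat.card_le_card_of_injective _ (φ.ker_eq_bot_iff.1 h)
    rw [D.bCard, Nat.card_perm] at hle
    have := hle.trans (Nat.factorial_le hα)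
    norm_num [Nat.factorial] at this
  · exact φ.mem_ker.1 (h ▸ mem_top b)

include D in
theorem bSub_eq_top (S : Subgroup D.B) (h : 15 ∣ Nat.card S) : S = ⊤ := by
  obtain ⟨e⟩ := D.ht.hB
  haveI : IsSimpleGroup (alternatingGroup (Fin 5)) := alternatingGroup.isSimpleGroup_five
  haveI : Nontrivial D.B := e.toEquiv.nontrivial
  haveI : IsSimpleGroup D.B := IsSimpleGroup.isSimpleGroup_of_surjective e.symm.toMonoidHom e.symm.surjective
  by_contra hne
  have h1 := card_dvd_factorial_index hne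
  have h2 := S.card_mul_index
  rw [D.bCard] at h1 h2
  obtain ⟨k, hk⟩ := h
  have h3 : S.index ∣ 4 := ⟨k, by rw [hk] at h2; nlinarith⟩
  have h4 : S.index ≤ 4 := Nat.le_of_dvd (by norm_num) h3
  have := (Nat.le_of_dvd (Nat.factorial_pos _) h1).trans (Nat.factorial_le h4)
  norm_num [Nat.factorial] at this

theorem exists_aElt : ∃ a : G, orderOf a = 3 ∧ a * D.t * a⁻¹ ∈ D.V ∧ a * D.t * a⁻¹ ≠ D.t ∧
    ∀ c ∈ D.B, Commute a c := by
  classical
  haveI : Fact (Nat.Prime 5) := ⟨by norm_num⟩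
  haveI : Fact (Nat.Prime 3) := ⟨Nat.prime_three⟩
  obtain ⟨b, hb, hbo⟩ := D.exists_bElt (p := 5) (Or.inr rfl)
  have ht1 : D.t ≠ 1 := ne_one_of_invol D.ht.ht
  obtain ⟨v, hv, hv1, hvt⟩ : ∃ v ∈ D.V, v ≠ 1 ∧ v ≠ D.t := by
    by_contra! hall
    have hsub : ((D.V : Subgroup G) : Set G) ⊆ {1, D.t} := fun x hx => by
      by_cases h : x = 1
      · exact Or.inl h
      · exact Or.inr (hall x hx h)
    have h := Set.ncard_le_ncard hsub (Set.toFinite _)
    rw [← Nat.card_coe_set_eq, show Nat.card ↥((D.V : Subgroup G) : Set G) = 4 from D.ht.hV] at h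
    have := h.trans (Set.ncard_insert_le _ _)
    rw [Set.ncard_singleton] at this
    omega
  obtain ⟨g, hgb, hg⟩ := D.exists_mover hb (Or.inr rfl) hbo hv hv1 hvt
  obtain ⟨-, hgV, -⟩ := D.normalizes (g := g) (by rw [hg]; exact hv)
  have hfix : ∀ x ∈ D.V, x ≠ 1 → g * x * g⁻¹ = x → g * D.t * g⁻¹ = D.t := by
    intro x hx hx1 hgx
    have : g ∈ centralizer ({x} : Set G) := mem_cent.2 (mul_inv_eq_iff_eq_mul.1 hgx)
    rw [D.v_cent hx hx1, mem_cent] at this
    exact mul_inv_eq_iff_eq_mul.2 this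
  set w := D.t * v with hw
  have hwV : w ∈ D.V := mul_mem D.ht.htV hv
  have hw1 : w ≠ 1 := fun e => hvt (by
    rw [← inv_eq_of_mul_eq_one_right e, inv_eq_self D.ht.ht])
  have hgv : g * v * g⁻¹ = w := by
    by_contra hne
    have h1 : g * v * g⁻¹ ≠ v := fun e => hvt (hg.symm.trans (hfix v hv hv1 e))
    have h2 : g * v * g⁻¹ ≠ D.t := fun e => hvt (hg.symm.trans (hfix w hwV hw1 (by
      rw [hw, ← conj_mul, hg, e]; exact D.v_comm hv D.ht.htV)))
    have hsub : ({1, D.t, v, w, g * v * g⁻¹} : Finset G) ⊆ (Set.toFinite (D.V : Set G)).toFinset := by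
      intro x hx
      simp only [Finset.mem_insert, Finset.mem_singleton] at hx
      rw [Set.Finite.mem_toFinset]
      rcases hx with rfl | rfl | rfl | rfl | rfl
      exacts [one_mem _, D.ht.htV, hv, hwV, hgV v hv]
    have h5 := Finset.card_le_card hsub
    rw [← Set.ncard_eq_toFinset_card, ← Nat.card_coe_set_eq,
      show Nat.card ↥((D.V : Subgroup G) : Set G) = 4 from D.ht.hV] at h5
    rw [Finset.card_insert_of_notMem, Finset.card_insert_of_notMem, Finset.card_insert_of_notMem,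
      Finset.card_pair (fun e => hne e.symm)] at h5
    · omega
    all_goals simp only [Finset.mem_insert, Finset.mem_singleton, not_or]
    · exact ⟨fun e => ht1 (mul_eq_right.1 (show D.t * v = v from e.symm)), Ne.symm h1⟩
    · exact ⟨Ne.symm hvt, fun e => hv1 (mul_eq_left.1 (show D.t * v = D.t from e.symm)), Ne.symm h2⟩
    · exact ⟨Ne.symm ht1, Ne.symm hv1, Ne.symm hw1, Ne.symm (conj_ne_one hv1)⟩
  have hgw : g * w * g⁻¹ = D.t := by
    rw [hw, ← conj_mul, hg, hgv, hw, D.v_comm D.ht.htV hv, ← mul_assoc, D.v_sq hv, one_mul]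
  have hg3 : g ^ 3 ∈ centralizer ({b} : Set G) ⊓ centralizer ({D.t} : Set G) := by
    refine ⟨mem_cent.2 (hgb.pow_left 3), mem_cent.2 (mul_inv_eq_iff_eq_mul.1 ?_)⟩
    rw [show g ^ 3 * D.t * (g ^ 3)⁻¹ = g * (g * (g * D.t * g⁻¹) * g⁻¹) * g⁻¹ by
      rw [pow_succ, pow_succ, pow_one]; group, hg, hgv, hgw]
  obtain ⟨x, hx, c, hc, hxc⟩ := (D.card_cent_inf_of_mem_B hb (Or.inr rfl) hbo).2 _ hg3
  have hg30 : g ^ 30 = 1 := by
    rw [show g ^ 30 = (g ^ 3) ^ 10 by rw [← pow_mul], ← hxc,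
      Commute.mul_pow (D.vb_comm hx (zpowers_le.2 hb hc))]
    have h1 : x ^ 10 = 1 := by rw [show (10 : ℕ) = 2 * 5 from rfl, pow_mul, pow_two, D.v_sq hx, one_pow]
    have h2 : c ^ 10 = 1 := by
      obtain ⟨k, hk⟩ := mem_zpowers_iff.1 hc
      rw [← hk, ← zpow_natCast, ← zpow_mul, mul_comm, zpow_mul, zpow_natCast,
        show b ^ 10 = 1 by rw [show (10 : ℕ) = 5 * 2 from rfl, pow_mul,
          show b ^ 5 = 1 from hbo ▸ pow_orderOf_eq_one b, one_pow], one_zpow]
    rw [h1, h2, one_mul]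
  have hat : g ^ 10 * D.t * (g ^ 10)⁻¹ = v := by
    have h9 : g ^ 9 * D.t * (g ^ 9)⁻¹ = D.t := by
      have h : Commute (g ^ 3) D.t := mem_cent.1 hg3.2
      rw [show g ^ 9 = (g ^ 3) ^ 3 by rw [← pow_mul]]
      exact mul_inv_eq_iff_eq_mul.2 (h.pow_left 3).eq
    rw [show g ^ 10 * D.t * (g ^ 10)⁻¹ = g * (g ^ 9 * D.t * (g ^ 9)⁻¹) * g⁻¹ by
      rw [pow_succ' g 9]; group, h9, hg]
  have hatV : g ^ 10 * D.t * (g ^ 10)⁻¹ ∈ D.V := by rw [hat]; exact hv
  have ha3 : (g ^ 10) ^ 3 = 1 := by rw [← pow_mul]; exact hg30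
  refine ⟨g ^ 10, orderOf_eq_prime ha3 fun e => ?_, hatV, fun e => hvt (hat ▸ e), fun d hd => ?_⟩
  · rw [e, one_mul, inv_one, mul_one] at hat; exact hvt hat.symm
  -- the fixed points in `B` form a subgroup of order divisible by 15
  obtain ⟨-, -, haB⟩ := D.normalizes hatV
  set a := g ^ 10
  have hfixc := card_fixed_set (S := (D.B : Set G)) ha3 haB
  rw [show Nat.card ↥((D.B : Subgroup G) : Set G) = 60 from D.bCard] at hfixc
  set S := (centralizer ({a} : Set G)).subgroupOf D.B with hS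
  have hSc : Nat.card S = Nat.card {s : G // s ∈ (D.B : Set G) ∧ Commute a s} :=
    Nat.card_congr
      { toFun := fun s => ⟨(s.1 : G), s.1.2, (mem_cent.1 s.2).symm⟩
        invFun := fun s => ⟨⟨s.1, s.2.1⟩, mem_cent.2 s.2.2.symm⟩
        left_inv := fun _ => rfl
        right_inv := fun _ => rfl }
  rw [← hSc] at hfixc
  have h5 : 5 ∣ Nat.card S := by
    have hbS : (⟨b, hb⟩ : D.B) ∈ S := mem_cent.2 (hgb.pow_left 10).symm
    have := Subgroup.orderOf_dvd_natCard S hbS
    rwa [Subgroup.orderOf_mk, hbo] at this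
  have h3 : 3 ∣ Nat.card S := by rw [Nat.ModEq] at hfixc; omega
  have htop := D.bSub_eq_top S (Nat.Coprime.mul_dvd_of_dvd_of_dvd (by norm_num) h3 h5)
  have hmem : (⟨d, hd⟩ : D.B) ∈ S := htop ▸ mem_top _
  exact (mem_cent.1 hmem).symm

/-- The involutions commuting with `a` are conjugate to `z`. -/
theorem aElt_conj_into_z {a : G} (hao : orderOf a = 3) (haB : ∀ c ∈ D.B, Commute a c) :
    ∃ g : G, g * a * g⁻¹ ∈ centralizer ({D.z} : Set G) := by
  obtain ⟨c, hc, hco⟩ := D.exists_bElt (p := 5) (Or.inr rfl)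
  obtain ⟨u, hu, hu2, -⟩ := D.bElt_inverted hc (Or.inr rfl) hco
  obtain ⟨g, hg⟩ := isConj_iff.1 (D.ht.hBz u hu hu2)
  exact ⟨g, mem_cent.2 (by rw [← hg]; exact (Commute.conj_iff g).2 (haB u hu))⟩

theorem aElt_two {a : G} (hao : orderOf a = 3) (haB : ∀ c ∈ D.B, Commute a c) :
    (∀ S : Subgroup G, IsPGroup 2 S → S ≤ centralizer ({a} : Set G) → Nat.card S ≤ 8) ∧
      8 ∣ Nat.card (centralizer ({a} : Set G)) ∧
      ∀ w : G, orderOf w = 2 → Commute w a → IsConj w D.z := by
  obtain ⟨g, hg⟩ := D.aElt_conj_into_z hao haB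
  obtain ⟨h1, h2, h3⟩ := D.zElt_two hg (Or.inl rfl) ((CfsgLib.Invol.orderOf_conj g a).trans hao)
  simp only [if_true] at h1 h2
  refine ⟨fun S hS hle => ?_, ?_, fun w hw hwa => ?_⟩
  · rw [← Subgroup.card_map_of_injective (K := S) (f := (MulAut.conj g).toMonoidHom) (MulAut.conj g).injective]
    refine h1 _ (hS.map _) ?_
    rintro _ ⟨s, hs, rfl⟩
    exact mem_cent.2 ((Commute.conj_iff g).2 (mem_cent.1 (hle hs)))
  · rwa [cent_conj_card (isConj_iff.2 ⟨g, rfl⟩ : IsConj a (g * a * g⁻¹))]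
  · exact (isConj_iff.2 ⟨g, rfl⟩).trans
      (h3 _ ((CfsgLib.Invol.orderOf_conj g w).trans hw) ((Commute.conj_iff g).2 hwa))

/-- `C(a)` meets `C(b)` for `b ∈ B` of order 5 in a group of order 15. -/
theorem card_cent_a_five [Fact (Nat.Prime 5)] {a b : G} (hao : orderOf a = 3)
    (haB : ∀ c ∈ D.B, Commute a c) (hb : b ∈ D.B) (hbo : orderOf b = 5) :
    Nat.card (centralizer ({b} : Set G) ⊓ centralizer ({a} : Set G) : Subgroup G) = 15 := by
  have hab : Commute a b := haB b hb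
  have hamem : a ∉ zpowers b := fun h => by
    have := Subgroup.orderOf_dvd_natCard _ h
    rw [Nat.card_zpowers, hbo, hao] at this; norm_num at this
  refine Nat.dvd_antisymm ((D.card_cent_five hb hbo).2 3 (Or.inl rfl) a
    (hao ▸ pow_orderOf_eq_one a) hamem hab) ?_
  set E := centralizer ({b} : Set G) ⊓ centralizer ({a} : Set G)
  have h3 : 3 ∣ Nat.card E :=
    hao ▸ Subgroup.orderOf_dvd_natCard E ⟨mem_cent.2 hab, mem_cent.2 (Commute.refl a)⟩
  have h5 : 5 ∣ Nat.card E :=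
    hbo ▸ Subgroup.orderOf_dvd_natCard E ⟨mem_cent.2 (Commute.refl b), mem_cent.2 hab.symm⟩
  exact Nat.Coprime.mul_dvd_of_dvd_of_dvd (by norm_num) h3 h5

theorem card_cent_aElt {a : G} (hao : orderOf a = 3) (haB : ∀ c ∈ D.B, Commute a c) :
    Nat.card (centralizer ({a} : Set G)) = 1080 := by
  classical
  haveI : Fact (Nat.Prime 5) := ⟨by norm_num⟩
  haveI : Fact (Nat.Prime 2) := ⟨Nat.prime_two⟩
  obtain ⟨b, hb, hbo⟩ := D.exists_bElt (p := 5) (Or.inr rfl)
  obtain ⟨hS8, h8, -⟩ := D.aElt_two hao haB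
  set H := centralizer ({a} : Set G) with hH
  set L := Nat.card H with hL
  have hLdvd : L ∣ 604800 := D.hG ▸ card_subgroup_dvd_card H
  have hbH : b ∈ H := mem_cent.2 (haB b hb).symm
  have h15 := D.card_cent_a_five hao haB hb hbo
  -- the Sylow 5-subgroup has order 5
  have h25 : ¬ 5 ^ 2 ∣ L := by
    intro h
    obtain ⟨S, hS⟩ := (IsPGroup.of_card (n := 1) (by
      rw [Nat.card_zpowers, Subgroup.orderOf_mk, hbo, pow_one]) :
      IsPGroup 5 (zpowers (⟨b, hbH⟩ : H))).exists_le_sylow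
    obtain ⟨n, hn⟩ := IsPGroup.iff_card.1 S.2
    have hd : 5 ^ 2 ∣ Nat.card S := S.pow_dvd_card_of_pow_dvd_card h
    have hle : Nat.card S ≤ 25 := by
      obtain ⟨P, hP⟩ := (S.2.map H.subtype).exists_le_sylow
      have := Subgroup.card_le_of_le hP
      rwa [Subgroup.card_map_of_injective H.subtype_injective, D.sylow5_card P] at this
    have h25' : Nat.card S = 5 ^ 2 := le_antisymm hle (Nat.le_of_dvd Nat.card_pos hd)
    have hSb : (S : Subgroup H).map H.subtype ≤ centralizer ({b} : Set G) ⊓ H := by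
      rintro _ ⟨s, hs, rfl⟩
      refine ⟨mem_cent.2 ?_, s.2⟩
      have := IsPGroup.commutative_of_card_eq_prime_sq (p := 5) (G := (S : Subgroup H)) h25'
        ⟨s, hs⟩ ⟨⟨b, hbH⟩, hS (mem_zpowers _)⟩
      exact congrArg (fun q : (S : Subgroup H) => ((q : H) : G)) this
    have := card_dvd_of_le hSb
    rw [Subgroup.card_map_of_injective H.subtype_injective, h15, h25'] at this
    norm_num at this
  have h16 : ¬ 2 ^ 4 ∣ L := by
    intro h
    obtain ⟨S, hS⟩ := Sylow.exists_subgroup_card_pow_prime 2 h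
    have := hS8 _ ((IsPGroup.of_card hS).map H.subtype) (map_subtype_le _)
    rw [Subgroup.card_map_of_injective H.subtype_injective, hS] at this
    norm_num at this
  -- `zpowers a` times `B`
  have h180 : 180 ∣ L := by
    have hcomm : ∀ (x : zpowers a) (c : D.B), Commute ((zpowers a).subtype x) (D.B.subtype c) :=
      fun x c => (commute_of_mem_zpowers x.2 (haB c c.2).symm).symm
    let φ := MonoidHom.noncommCoprod (zpowers a).subtype D.B.subtype hcomm
    have hinj : Function.Injective φ := by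
      rw [injective_iff_map_eq_one]
      rintro ⟨x, c⟩ he
      have he' : (x : G) * (c : G) = 1 := by simpa [φ] using he
      have hxB : (x : G) ∈ D.B := by rw [eq_inv_of_mul_eq_one_left he']; exact inv_mem c.2
      have hxc : ∀ d ∈ D.B, Commute d (x : G) := fun d hd =>
        commute_of_mem_zpowers x.2 (haB d hd).symm
      obtain ⟨e⟩ := D.ht.hB
      have hx1 : (x : G) = 1 := by
        by_contra hne
        have hz : (⟨x, hxB⟩ : D.B) ∈ center D.B :=
          mem_center_iff.2 fun d => Subtype.ext (hxc d d.2)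
        haveI : IsSimpleGroup (alternatingGroup (Fin 5)) := alternatingGroup.isSimpleGroup_five
        haveI : Nontrivial D.B := e.toEquiv.nontrivial
        haveI : IsSimpleGroup D.B := IsSimpleGroup.isSimpleGroup_of_surjective e.symm.toMonoidHom e.symm.surjective
        rcases (inferInstance : (center D.B).Normal).eq_bot_or_eq_top with h | h
        · rw [h, Subgroup.mem_bot] at hz
          exact hne (congrArg Subtype.val hz)
        · obtain ⟨u, hu, hu2, huinv⟩ := D.bElt_inverted hb (Or.inr rfl) hbo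
          have h' : (⟨u, hu⟩ : D.B) ∈ center D.B := h ▸ mem_top _
          have h2 : b * u = u * b := congrArg Subtype.val (mem_center_iff.1 h' ⟨b, hb⟩)
          rw [mul_inv_eq_iff_eq_mul.2 h2.symm] at huinv
          have : b ^ 2 = 1 := by rw [pow_two]; nth_rw 1 [huinv]; group
          have := orderOf_dvd_of_pow_eq_one this
          rw [hbo] at this; norm_num at this
      have hc1 : (c : G) = 1 := by rwa [hx1, one_mul] at he'
      exact Prod.ext (Subtype.ext hx1) (Subtype.ext hc1)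
    have hle : φ.range ≤ H := by
      rintro _ ⟨⟨x, c⟩, rfl⟩
      have : φ (x, c) = (x : G) * (c : G) := by simp [φ]
      rw [this]
      exact mul_mem (mem_cent.2 (commute_of_mem_zpowers x.2 (Commute.refl a)).symm)
        (mem_cent.2 (haB c c.2).symm)
    have := card_dvd_of_le hle
    rwa [← Nat.card_congr (MonoidHom.ofInjective hinj).toEquiv, Nat.card_prod, Nat.card_zpowers, hao,
      D.bCard] at this
  have h360 : 360 ∣ L := by
    have := Nat.lcm_dvd h8 h180
    rwa [show Nat.lcm 8 180 = 360 from by decide] at this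
  obtain ⟨k, hk⟩ := h360
  -- Sylow counting for the prime 5
  set P := zpowers (⟨b, hbH⟩ : H) with hP
  have hPc : Nat.card P = 5 := by rw [Nat.card_zpowers, Subgroup.orderOf_mk, hbo]
  let S : Sylow 5 H := Sylow.ofCard P (by
    rw [hPc]
    have h5 : 5 ∣ Nat.card H := hPc ▸ card_subgroup_dvd_card P
    have hpp := (Fact.out : Nat.Prime 5)
    have h1 := (hpp.pow_dvd_iff_le_factorization (k := 1) Nat.card_pos.ne').1 (by rwa [pow_one])
    have h2 := mt (hpp.pow_dvd_iff_le_factorization (k := 2) Nat.card_pos.ne').2 h25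
    rw [show (Nat.card H).factorization 5 = 1 by omega, pow_one])
  set K := normalizer (S : Set H) with hK
  have hmod := card_sylow_modEq_one 5 H
  have hcount := K.card_mul_index
  rw [hK, ← Sylow.card_eq_index_normalizer S] at hcount
  have hbK : (⟨b, hbH⟩ : H) ∈ K := Subgroup.le_normalizer (mem_zpowers _)
  have horb := card_orbit_mul K hbK
  have hKc : Nat.card (K ⊓ centralizer ({(⟨b, hbH⟩ : H)} : Set H) : Subgroup H) = 15 := by
    rw [← h15]
    refine Nat.card_congr
      { toFun := fun s => ⟨(s.1 : G), mem_cent.2 ?_, s.1.2⟩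
        invFun := fun s => ⟨⟨s.1, s.2.2⟩, ?_, mem_cent.2 (Subtype.ext (mem_cent.1 s.2.1).eq)⟩
        left_inv := fun _ => rfl
        right_inv := fun _ => rfl }
    · exact congrArg Subtype.val (mem_cent.1 s.2.2).eq
    · refine Subgroup.mem_normalizer_fintype fun x hx => ?_
      obtain ⟨i, rfl⟩ := mem_zpowers_iff.1 (show x ∈ zpowers (⟨b, hbH⟩ : H) from hx)
      have h : (⟨s.1, s.2.2⟩ : H) * ⟨b, hbH⟩ ^ i * (⟨s.1, s.2.2⟩ : H)⁻¹ = ⟨b, hbH⟩ ^ i :=
        mul_inv_eq_iff_eq_mul.2 (Commute.zpow_right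
          (show Commute (⟨s.1, s.2.2⟩ : H) ⟨b, hbH⟩ from Subtype.ext (mem_cent.1 s.2.1).eq) i).eq
      rw [h]
      exact mem_zpowers_iff.2 ⟨i, rfl⟩
  have horb2 : nOrbit K (⟨b, hbH⟩ : H) = {(⟨b, hbH⟩ : H), ⟨b, hbH⟩⁻¹} := by
    refine Set.Subset.antisymm ?_ ?_
    · rintro _ ⟨n, hn, rfl⟩
      have hm := (mem_normalizer_iff.1 hn _).1 (show (⟨b, hbH⟩ : H) ∈ (S : Subgroup H) from mem_zpowers _)
      obtain ⟨i, hi⟩ := mem_zpowers_iff.1
        (show n * ⟨b, hbH⟩ * n⁻¹ ∈ zpowers (⟨b, hbH⟩ : H) from hm)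
      have hi' : (n : G) * b * (n : G)⁻¹ = b ^ i := by
        have := (congrArg Subtype.val hi).symm; simpa using this
      rcases D.conj_in_zpowers5 hb hbo (g := (n : G))
        (by rw [hi']; exact mem_zpowers_iff.2 ⟨i, rfl⟩) with e | e
      · exact Or.inl (Subtype.ext e)
      · exact Or.inr (Set.mem_singleton_iff.2 (Subtype.ext e))
    · rintro x (rfl | rfl)
      · exact mem_nOrbit_self _ _
      · obtain ⟨u, hu, -, huinv⟩ := D.bElt_inverted hb (Or.inr rfl) hbo
        refine ⟨⟨u, mem_cent.2 (haB u hu).symm⟩, Subgroup.mem_normalizer_fintype fun x hx => ?_,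
          Subtype.ext huinv⟩
        obtain ⟨i, rfl⟩ := mem_zpowers_iff.1 (show x ∈ zpowers (⟨b, hbH⟩ : H) from hx)
        rw [← conj_zpow, show (⟨u, mem_cent.2 (haB u hu).symm⟩ : H) * ⟨b, hbH⟩ *
          (⟨u, mem_cent.2 (haB u hu).symm⟩ : H)⁻¹ = ⟨b, hbH⟩⁻¹ from Subtype.ext huinv]
        exact zpow_mem (inv_mem (mem_zpowers _)) i
  have hne : (⟨b, hbH⟩ : H) ≠ ⟨b, hbH⟩⁻¹ := fun h => by
    have h' : b = b⁻¹ := congrArg Subtype.val h
    have h2 : b ^ 2 = 1 := by rw [pow_two]; nth_rw 1 [h']; group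
    have := orderOf_dvd_of_pow_eq_one h2
    rw [hbo] at this; norm_num at this
  rw [horb2, Nat.card_coe_set_eq, Set.ncard_pair hne, hKc] at horb
  rw [← hK, ← horb] at hcount
  have hk21 : k ∣ 21 := by
    have h7560 : L ∣ 7560 := by
      have h37800 : L ∣ 37800 := by
        rcases (Nat.dvd_mul.1 (show L ∣ 2 ^ 7 * 4725 by simpa using hLdvd)) with ⟨d₁, d₂, hd₁, hd₂, he⟩
        obtain ⟨j, hj, rfl⟩ := (Nat.dvd_prime_pow Nat.prime_two).1 hd₁
        have : j ≤ 3 := by
          by_contra hj3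
          exact h16 (he ▸ Dvd.dvd.mul_right (pow_dvd_pow 2 (by omega)) d₂)
        rw [← he, show (37800 : ℕ) = 2 ^ 3 * 4725 by norm_num]
        exact Nat.mul_dvd_mul (pow_dvd_pow 2 this) hd₂
      rcases (Nat.dvd_mul.1 (show L ∣ 5 ^ 2 * 1512 by simpa using h37800)) with ⟨d₁, d₂, hd₁, hd₂, he⟩
      obtain ⟨j, hj, rfl⟩ := (Nat.dvd_prime_pow (by norm_num : Nat.Prime 5)).1 hd₁
      have : j ≤ 1 := by
        by_contra hj1
        exact h25 (he ▸ Dvd.dvd.mul_right (pow_dvd_pow 5 (by omega)) d₂)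
      rw [← he, show (7560 : ℕ) = 5 ^ 1 * 1512 by norm_num]
      exact Nat.mul_dvd_mul (pow_dvd_pow 5 this) hd₂
    rw [hk, show (7560 : ℕ) = 360 * 21 by norm_num] at h7560
    exact Nat.dvd_of_mul_dvd_mul_left (by norm_num) h7560
  rw [Nat.ModEq] at hmod
  have hkm : k ∈ Nat.divisors 21 := Nat.mem_divisors.2 ⟨hk21, by norm_num⟩
  rw [show Nat.divisors 21 = {1, 3, 7, 21} from by decide] at hkm
  simp only [Finset.mem_insert, Finset.mem_singleton] at hkm
  omega

end Data

end CfsgLib.JTwoType
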