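import Cfsg.Agent.Lib.JTwoType.ThreeCentral
import Cfsg.Agent.Lib.EssSmall.Frattini

/-!
# Groups of Hall–Janko type: Sylow 3-structure
-/

set_option autoImplicit false

namespace CfsgLib.JTwoType

open Subgroup CfsgLib.Invol
open scoped Pointwise

universe u

variable {G : Type u} [Group G] [Finite G]

namespace Data

variable (D : Data G) [Fact (Nat.Prime 3)]

include D in
theorem sylow3_card (P : Sylow 3 G) : Nat.card P = 27 := by
  rw [P.card_eq_multiplicity, D.hG, show (604800 : ℕ) = 3 ^ 3 * 22400 by norm_num,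
    Nat.factorization_mul (by norm_num) (by norm_num), Finsupp.add_apply,
    Nat.factorization_pow, Finsupp.smul_apply, (show Nat.Prime 3 by norm_num).factorization_self,
    Nat.factorization_eq_zero_of_not_dvd (by norm_num)]
  norm_num

include D in
theorem exists_conj_sylow3 (P : Sylow 3 G) {x : G} (hx : orderOf x = 3) :
    ∃ g, g * x * g⁻¹ ∈ (P : Subgroup G) := by
  obtain ⟨T, hT⟩ := (IsPGroup.of_card (n := 1) (by rw [Nat.card_zpowers, hx, pow_one]) :
    IsPGroup 3 (zpowers x)).exists_le_sylow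
  obtain ⟨g, rfl⟩ := MulAction.exists_smul_eq G T P
  exact ⟨g, ⟨x, hT (mem_zpowers x), rfl⟩⟩

theorem not_twentyseven_dvd_cent {b : G} (hb : b ∈ D.B) (hbo : orderOf b = 3) :
    ¬ 27 ∣ Nat.card (centralizer ({b} : Set G)) := by
  rcases D.card_cent_B hb (Or.inl rfl) hbo with h | ⟨h, -⟩ <;> rw [h] <;> norm_num

include D in
theorem sylow3_nonabelian (P : Sylow 3 G) :
    ∃ x y : (P : Subgroup G), x * y ≠ y * x := by
  by_contra! hab
  obtain ⟨b, hb, hbo⟩ := D.exists_bElt (p := 3) (Or.inl rfl)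
  obtain ⟨g, hg⟩ := D.exists_conj_sylow3 P hbo
  apply D.not_twentyseven_dvd_cent hb hbo
  rw [cent_conj_card (isConj_iff.2 ⟨g, rfl⟩ : IsConj b (g * b * g⁻¹)), ← D.sylow3_card P]
  exact card_dvd_of_le fun c hc => mem_cent.2 (congrArg Subtype.val (hab ⟨c, hc⟩ ⟨_, hg⟩))

include D in
theorem sylow3_extraspecial (P : Sylow 3 G) : Cfsg.IsExtraspecial 3 (P : Subgroup G) := by
  obtain ⟨x, y, hxy⟩ := D.sylow3_nonabelian P
  exact CfsgLib.EssSmall.isExtraspecial_of_card_cube ((D.sylow3_card P).trans (by norm_num)) hxy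

/-- In `C(a)`, an involution inverting some element of order 3 of `B` normalizes a Sylow
3-subgroup. -/
theorem exists_sylow_normalizing {a : G} (hao : orderOf a = 3) (haB : ∀ c ∈ D.B, Commute a c) :
    ∃ R : Sylow 3 G, (R : Subgroup G) ≤ centralizer ({a} : Set G) ∧
      ∃ u, orderOf u = 2 ∧ Commute u a ∧ u ∈ normalizer ((R : Subgroup G) : Set G) := by
  classical
  haveI : Fact (Nat.Prime 5) := ⟨by norm_num⟩
  obtain ⟨b, hb, hbo⟩ := D.exists_bElt (p := 3) (Or.inl rfl)
  obtain ⟨β, hβ, hβo⟩ := D.exists_bElt (p := 5) (Or.inr rfl)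
  obtain ⟨u, hu, hu2, huinv⟩ := D.bElt_inverted hb (Or.inl rfl) hbo
  set H := centralizer ({a} : Set G) with hH
  have hH1080 : Nat.card H = 1080 := D.card_cent_aElt hao haB
  have hbH : b ∈ H := mem_cent.2 (haB b hb).symm
  have huH : u ∈ H := mem_cent.2 (haB u hu).symm
  have haH : a ∈ H := mem_cent.2 (Commute.refl a)
  let a' : H := ⟨a, haH⟩
  let b' : H := ⟨b, hbH⟩
  let u' : H := ⟨u, huH⟩
  have hb1 : b ≠ 1 := fun e => by rw [e, orderOf_one] at hbo; omega
  have ha1 : a ≠ 1 := fun e => by rw [e, orderOf_one] at hao; omega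
  have habne : b ∉ zpowers a := fun h => by
    have hc : ∀ d ∈ D.B, Commute d b := fun d hd => commute_of_mem_zpowers h (haB d hd).symm
    have h1 : u * b * u⁻¹ = b := mul_inv_eq_iff_eq_mul.2 (hc u hu).eq
    rw [huinv] at h1
    have : b ^ 2 = 1 := by rw [pow_two]; nth_rw 1 [← h1]; group
    have := orderOf_dvd_of_pow_eq_one this
    rw [hbo] at this; norm_num at this
  set E : Subgroup H := closure {a', b'} with hEdef
  have hab' : Commute a' b' := Subtype.ext (haB b hb).eq
  have hEmem : ∀ x : H, x ∈ E → ∃ i j : ℤ, x = a' ^ i * b' ^ j := by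
    intro x hx
    induction hx using Subgroup.closure_induction with
    | mem y hy =>
      rcases hy with rfl | rfl
      · exact ⟨1, 0, by simp⟩
      · exact ⟨0, 1, by simp⟩
    | one => exact ⟨0, 0, by simp⟩
    | mul y z _ _ ihy ihz =>
      obtain ⟨i, j, rfl⟩ := ihy
      obtain ⟨k, l, rfl⟩ := ihz
      refine ⟨i + k, j + l, ?_⟩
      rw [zpow_add, zpow_add, mul_assoc, ← mul_assoc (b' ^ j), ← (hab'.zpow_zpow k j).eq]
      simp [mul_assoc]
    | inv y _ ih =>
      obtain ⟨i, j, rfl⟩ := ih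
      exact ⟨-i, -j, by rw [mul_inv_rev, zpow_neg, zpow_neg, ((hab'.zpow_zpow i j).inv_inv).eq]⟩
  have haE : a' ∈ E := subset_closure (Or.inl rfl)
  have hbE : b' ∈ E := subset_closure (Or.inr rfl)
  let ψ : zpowers a' × zpowers b' →* H := MonoidHom.noncommCoprod (zpowers a').subtype (zpowers b').subtype
    fun x y => commute_of_mem_zpowers y.2 (commute_of_mem_zpowers x.2 hab'.symm).symm
  have hψ : Function.Injective ψ := by
    rw [injective_iff_map_eq_one]
    rintro ⟨x, y⟩ he
    have he' : (x : H) * (y : H) = 1 := he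
    have hy1 : (y : H) = 1 := by
      by_contra hne
      have hy : (y : H) ∈ zpowers a' := by
        rw [eq_inv_of_mul_eq_one_right he']; exact inv_mem x.2
      have := mem_zpowers_symm (p := 3) y.2 (by rw [Subgroup.orderOf_mk, hbo]) hne
      have hb' : b' ∈ zpowers a' := (zpowers_le.2 hy) this
      obtain ⟨i, hi⟩ := mem_zpowers_iff.1 hb'
      exact habne (mem_zpowers_iff.2 ⟨i, by have := congrArg Subtype.val hi; simpa using this⟩)
    have hx1 : (x : H) = 1 := by rwa [hy1, mul_one] at he'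
    exact Prod.ext (Subtype.ext hx1) (Subtype.ext hy1)
  have hψE : ψ.range = E := by
    refine le_antisymm ?_ ((closure_le _).2 ?_)
    · rintro _ ⟨⟨x, y⟩, rfl⟩
      have : ψ (x, y) = (x : H) * (y : H) := rfl
      rw [this]
      exact mul_mem (zpowers_le.2 haE x.2) (zpowers_le.2 hbE y.2)
    · rintro _ (rfl | rfl)
      · exact ⟨(⟨a', mem_zpowers _⟩, 1), mul_one _⟩
      · exact ⟨(1, ⟨b', mem_zpowers _⟩), one_mul _⟩
  have hE9 : Nat.card E = 9 := by
    rw [← hψE, ← Nat.card_congr (MonoidHom.ofInjective hψ).toEquiv, Nat.card_prod, Nat.card_zpowers,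
      Nat.card_zpowers, Subgroup.orderOf_mk, Subgroup.orderOf_mk, hao, hbo]
  set K := normalizer (E : Set H) with hK
  have hcentral : ∀ x : H, x * a' * x⁻¹ = a' := fun x =>
    mul_inv_eq_iff_eq_mul.2 (Subtype.ext (mem_cent.1 x.2).eq)
  have huK : u' ∈ K := by
    refine Subgroup.mem_normalizer_fintype fun x hx => ?_
    obtain ⟨i, j, rfl⟩ := hEmem x hx
    rw [← conj_mul, ← conj_zpow, ← conj_zpow, hcentral u', show u' * b' * u'⁻¹ = b'⁻¹ from Subtype.ext huinv]
    exact mul_mem (zpow_mem haE i) (zpow_mem (inv_mem hbE) j)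
  -- the centralizer of `E`
  set C := K ⊓ centralizer ({b'} : Set H) with hC
  have hCodd : ¬ 2 ∣ Nat.card C := fun h2 => by
    haveI : Fact (Nat.Prime 2) := ⟨Nat.prime_two⟩
    obtain ⟨w, hw⟩ := exists_prime_orderOf_dvd_card' (G := C) 2 h2
    have hw' : orderOf ((w : H) : G) = 2 := by rw [Subgroup.orderOf_coe, Subgroup.orderOf_coe, hw]
    have hwa : Commute ((w : H) : G) a := mem_cent.1 (w : H).2
    have hwb : Commute ((w : H) : G) b := congrArg Subtype.val (mem_cent.1 w.2.2).eq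
    obtain ⟨g, -, hg⟩ := D.invol_conj_t hb (Or.inl rfl) hbo hw' hwb
    exact D.ht.hzt (((D.aElt_two hao haB).2.2 _ hw' hwa).symm.trans (isConj_iff.2 ⟨g, hg⟩))
  have hC5 : ¬ 5 ∣ Nat.card C := fun h5 => by
    obtain ⟨e, he⟩ := exists_prime_orderOf_dvd_card' (G := C) 5 h5
    have heo : orderOf (e : H) = 5 := by rw [Subgroup.orderOf_coe, he]
    obtain ⟨c, hc⟩ := exists_conj_zpowers (G := H) (p := 5) (by rw [hH1080]; norm_num)
      (by rw [hH1080]; norm_num) (a := (e : H)) (b := ⟨β, mem_cent.2 (haB β hβ).symm⟩) heo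
      (by rw [Subgroup.orderOf_mk, hβo])
    have hne : c * (e : H) * c⁻¹ ≠ 1 := conj_ne_one fun e' => by rw [e', orderOf_one] at heo; omega
    have hgen := mem_zpowers_symm (p := 5) hc (by rw [Subgroup.orderOf_mk, hβo]) hne
    have hle : (E.map (MulAut.conj c).toMonoidHom).map H.subtype ≤
        centralizer ({β} : Set G) ⊓ centralizer ({a} : Set G) := by
      rintro _ ⟨_, ⟨x, hx, rfl⟩, rfl⟩
      refine ⟨mem_cent.2 ?_, Subtype.property _⟩
      have hxe : Commute x (e : H) := by
        obtain ⟨i, j, rfl⟩ := hEmem x hx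
        exact ((show Commute a' (e : H) from Subtype.ext (mem_cent.1 (e : H).2).eq.symm).zpow_left i).mul_left
          ((mem_cent.1 e.2.2).symm.zpow_left j)
      have h1 : Commute (c * x * c⁻¹) (⟨β, mem_cent.2 (haB β hβ).symm⟩ : H) :=
        commute_of_mem_zpowers hgen ((Commute.conj_iff c).2 hxe)
      exact congrArg Subtype.val h1.eq
    have := card_dvd_of_le hle
    rw [Subgroup.card_map_of_injective H.subtype_injective,
      Subgroup.card_map_of_injective (MulAut.conj c).injective, hE9,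
      D.card_cent_a_five hao haB hβ hβo] at this
    norm_num at this
  have hEC : E ≤ C := le_inf Subgroup.le_normalizer fun x hx => by
    obtain ⟨i, j, rfl⟩ := hEmem x hx
    exact mem_cent.2 ((hab'.zpow_left i).mul_left ((Commute.refl b').zpow_left j))
  have hC9 : Nat.card C = 9 := by
    have h9 : 9 ∣ Nat.card C := hE9 ▸ card_dvd_of_le hEC
    have hd : Nat.card C ∣ 1080 := hH1080 ▸ card_subgroup_dvd_card C
    have h27 : ¬ 27 ∣ Nat.card C := fun h => by
      apply D.not_twentyseven_dvd_cent hb hbo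
      refine h.trans ?_
      rw [← Subgroup.card_map_of_injective H.subtype_injective (K := C)]
      refine card_dvd_of_le ?_
      rintro _ ⟨x, hx, rfl⟩
      exact mem_cent.2 (congrArg Subtype.val (mem_cent.1 hx.2).eq)
    obtain ⟨l, hl⟩ := h9
    rw [hl] at hd hCodd hC5 h27
    have hl120 : l ∣ 120 := Nat.dvd_of_mul_dvd_mul_left (by norm_num) (show 9 * l ∣ 9 * 120 from hd)
    have hlm : l ∈ Nat.divisors 120 := Nat.mem_divisors.2 ⟨hl120, by norm_num⟩
    rw [show Nat.divisors 120 = {1, 2, 3, 4, 5, 6, 8, 10, 12, 15, 20, 24, 30, 40, 60, 120} from by decide] at hlm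
    simp only [Finset.mem_insert, Finset.mem_singleton] at hlm
    omega
  have horb := card_orbit_mul K (Subgroup.le_normalizer hbE : b' ∈ K)
  rw [← hC, hC9] at horb
  have hle6 : Nat.card (nOrbit K b') ≤ 6 := by
    have hsub : nOrbit K b' ⊆ (E : Set H) \ ((zpowers a' : Subgroup H) : Set H) := by
      rintro _ ⟨k, hk, rfl⟩
      refine ⟨(mem_normalizer_iff.1 hk b').1 hbE, fun h => ?_⟩
      obtain ⟨i, hi⟩ := mem_zpowers_iff.1 (show k * b' * k⁻¹ ∈ zpowers a' from h)
      have : b' = a' ^ i := by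
        calc b' = k⁻¹ * (k * b' * k⁻¹) * k := by group
          _ = k⁻¹ * a' ^ i * k := by rw [hi]
          _ = a' ^ i := by
            rw [mul_assoc, ((show Commute a' k from Subtype.ext (mem_cent.1 k.2).eq.symm).zpow_left i).eq,
              inv_mul_cancel_left]
      exact habne (mem_zpowers_iff.2 ⟨i, by have h2 := (congrArg Subtype.val this).symm; simpa using h2⟩)
    have h := Set.ncard_le_ncard hsub (Set.toFinite _)
    rw [Set.ncard_sdiff (zpowers_le.2 haE) (Set.toFinite _), ← Nat.card_coe_set_eq, ← Nat.card_coe_set_eq,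
      ← Nat.card_coe_set_eq, show Nat.card ↥(E : Set H) = 9 from hE9,
      show Nat.card ↥((zpowers a' : Subgroup H) : Set H) = 3 from
        (Nat.card_zpowers a').trans (by rw [Subgroup.orderOf_mk, hao])] at h
    exact h
  obtain ⟨T, hT⟩ := (IsPGroup.of_card (n := 2) (by rw [hE9]; norm_num) : IsPGroup 3 E).exists_le_sylow
  have hT27 : Nat.card T = 27 := by
    obtain ⟨Q, hQ⟩ := (T.2.map H.subtype).exists_le_sylow
    have h1 := Subgroup.card_le_of_le hQ
    rw [Subgroup.card_map_of_injective H.subtype_injective, D.sylow3_card Q] at h1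
    have h2 : 3 ^ 3 ∣ Nat.card T := T.pow_dvd_card_of_pow_dvd_card (by rw [hH1080]; norm_num)
    exact le_antisymm h1 (Nat.le_of_dvd Nat.card_pos h2)
  have hTK : (T : Subgroup H) ≤ K := by
    -- a subgroup of index 3 in a 3-group is normal
    have hidx : (E.subgroupOf (T : Subgroup H)).index = (Nat.card (T : Subgroup H)).minFac := by
      have h := (E.subgroupOf (T : Subgroup H)).card_mul_index
      rw [Nat.card_congr (subgroupOfEquivOfLe hT).toEquiv, hE9,
        show Nat.card (T : Subgroup H) = 27 from hT27] at h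
      rw [show Nat.card (T : Subgroup H) = 27 from hT27, show Nat.minFac 27 = 3 by norm_num]
      omega
    haveI := Subgroup.normal_of_index_eq_minFac_card hidx
    intro x hx
    refine Subgroup.mem_normalizer_fintype fun y hy => ?_
    exact (inferInstance : (E.subgroupOf (T : Subgroup H)).Normal).conj_mem ⟨y, hT hy⟩ hy ⟨x, hx⟩
  have hK54 : Nat.card K = 54 := by
    have h27 : 27 ∣ Nat.card K := hT27 ▸ card_dvd_of_le hTK
    have h2 : 2 ∣ Nat.card K := by
      have := Subgroup.orderOf_dvd_natCard K huK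
      rwa [Subgroup.orderOf_mk, hu2] at this
    have h54 : 54 ∣ Nat.card K := Nat.Coprime.mul_dvd_of_dvd_of_dvd (by norm_num : Nat.Coprime 27 2) h27 h2
    rw [← horb] at h54 ⊢
    have hpos : 0 < Nat.card (nOrbit K b') := by
      haveI : Nonempty (nOrbit K b') := ⟨⟨b', mem_nOrbit_self K b'⟩⟩
      exact Finite.card_pos
    obtain ⟨l, hl⟩ := h54
    omega
  -- `T` is normal in `K`
  set S := T.subtype hTK with hS
  have hcard1 : Nat.card (Sylow 3 K) = 1 := by
    have h := S.card_mul_index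
    rw [show Nat.card (S : Subgroup K) = 27 from
      (Nat.card_congr (subgroupOfEquivOfLe hTK).toEquiv).trans hT27, hK54] at h
    have hd := S.card_dvd_index
    rw [show (S : Subgroup K).index = 2 by omega] at hd
    have hm := card_sylow_modEq_one 3 K
    have := Nat.le_of_dvd (by norm_num) hd
    rw [Nat.ModEq] at hm
    omega
  haveI : Subsingleton (Sylow 3 K) := (Nat.card_eq_one_iff_unique.1 hcard1).1
  have hunorm : (⟨u', huK⟩ : K) ∈ normalizer (S : Set K) :=
    Sylow.smul_eq_iff_mem_normalizer.1 (Subsingleton.elim _ _)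
  let R : Sylow 3 G := Sylow.ofCard ((T : Subgroup H).map H.subtype) (by
    rw [Subgroup.card_map_of_injective H.subtype_injective, show Nat.card (T : Subgroup H) = 27 from hT27]
    obtain ⟨Q⟩ : Nonempty (Sylow 3 G) := inferInstance
    rw [← Q.card_eq_multiplicity, D.sylow3_card Q])
  refine ⟨R, map_subtype_le _, u, hu2, (haB u hu).symm, Subgroup.mem_normalizer_fintype ?_⟩
  rintro _ ⟨x, hx, rfl⟩
  have h := (mem_normalizer_iff.1 hunorm ⟨x, hTK hx⟩).1
    (show (⟨x, hTK hx⟩ : K) ∈ (S : Subgroup K) from hx)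
  exact ⟨_, h, rfl⟩

/-- Two conjugates of `zpowers a` coincide. -/
theorem card_stab_a {a : G} (hao : orderOf a = 3) (haB : ∀ c ∈ D.B, Commute a c) :
    ∀ R : Sylow 3 G, (R : Subgroup G) ≤ centralizer ({a} : Set G) →
      Nat.card (normalizer ((R : Subgroup G) : Set G) ⊓ centralizer ({a} : Set G) : Subgroup G) = 108 := by
  classical
  haveI : Fact (Nat.Prime 5) := ⟨by norm_num⟩
  set H := centralizer ({a} : Set G) with hH
  have hH1080 : Nat.card H = 1080 := D.card_cent_aElt hao haB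
  intro R hR
  set S := R.subtype hR with hS
  have hS27 : Nat.card S = 27 :=
    (Nat.card_congr (subgroupOfEquivOfLe hR).toEquiv).trans (D.sylow3_card R)
  have hcN : ∀ (Q : Sylow 3 G) (hQ : (Q : Subgroup G) ≤ H),
      Nat.card (normalizer (Q.subtype hQ : Set H)) =
        Nat.card (normalizer ((Q : Subgroup G) : Set G) ⊓ H : Subgroup G) := by
    intro Q hQ
    refine Nat.card_congr
      { toFun := fun n => ⟨((n : H) : G), Subgroup.mem_normalizer_fintype fun x hx => ?_, (n : H).2⟩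
        invFun := fun n => ⟨⟨n.1, n.2.2⟩, Subgroup.mem_normalizer_fintype fun x hx => ?_⟩
        left_inv := fun _ => rfl
        right_inv := fun _ => rfl }
    · exact (mem_normalizer_iff.1 n.2 ⟨x, hQ hx⟩).1
        (show (⟨x, hQ hx⟩ : H) ∈ (Q.subtype hQ : Subgroup H) from hx)
    · exact (mem_normalizer_iff.1 n.2.1 (x : G)).1 hx
  have hcount : ∀ (Q : Sylow 3 G) (hQ : (Q : Subgroup G) ≤ H),
      Nat.card (normalizer ((Q : Subgroup G) : Set G) ⊓ H : Subgroup G) * Nat.card (Sylow 3 H) = 1080 := by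
    intro Q hQ
    rw [← hcN Q hQ, Sylow.card_eq_index_normalizer (Q.subtype hQ), Subgroup.card_mul_index, hH1080]
  have h108 := hcount R hR
  have hn : Nat.card (Sylow 3 H) ∣ 40 := by
    have h := S.card_mul_index
    rw [hH1080, show Nat.card (S : Subgroup H) = 27 from hS27] at h
    have := S.card_dvd_index
    rwa [show (S : Subgroup H).index = 40 by omega] at this
  have hmod := card_sylow_modEq_one 3 H
  have h40 : Nat.card (Sylow 3 H) ≠ 40 := by
    intro h
    obtain ⟨Q, hQ, u, hu2, hua, huN⟩ := D.exists_sylow_normalizing hao haB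
    have h1 := hcount Q hQ
    rw [h] at h1
    have : 2 ∣ Nat.card (normalizer ((Q : Subgroup G) : Set G) ⊓ H : Subgroup G) := by
      have := Subgroup.orderOf_dvd_natCard (normalizer ((Q : Subgroup G) : Set G) ⊓ H)
        (show u ∈ normalizer ((Q : Subgroup G) : Set G) ⊓ H from ⟨huN, mem_cent.2 hua⟩)
      rwa [hu2] at this
    omega
  have h4 : ¬ Nat.card (Sylow 3 H) ≤ 4 := by
    intro h
    obtain ⟨b, hb, hbo⟩ := D.exists_bElt (p := 5) (Or.inr rfl)
    let ι : D.B →* H := Subgroup.inclusion (fun c hc => mem_cent.2 (haB c hc).symm)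
    let φ : D.B →* Equiv.Perm (Sylow 3 H) := (MulAction.toPermHom H (Sylow 3 H)).comp ι
    have hfix := D.bAction_trivial φ h ⟨b, hb⟩
    have hbN : ι ⟨b, hb⟩ ∈ normalizer (S : Set H) :=
      Sylow.smul_eq_iff_mem_normalizer.1 (congrArg (fun e : Equiv.Perm (Sylow 3 H) => e S) hfix)
    have hb5 : b ^ 5 = 1 := hbo ▸ pow_orderOf_eq_one b
    have hmove : ∀ x ∈ ((R : Subgroup G) : Set G), b * x * b⁻¹ ∈ ((R : Subgroup G) : Set G) :=
      fun x hx => (mem_normalizer_iff.1 hbN ⟨x, hR hx⟩).1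
        (show (⟨x, hR hx⟩ : H) ∈ (S : Subgroup H) from hx)
    have hfx := card_fixed_set hb5 hmove
    have hR' : Nat.card ↥((R : Subgroup G) : Set G) = 27 := D.sylow3_card R
    rw [hR', show Nat.card {s : G // s ∈ ((R : Subgroup G) : Set G) ∧ Commute b s} =
      Nat.card ((R : Subgroup G) ⊓ centralizer ({b} : Set G) : Subgroup G) from
        Nat.card_congr (Equiv.subtypeEquivRight fun q =>
          ⟨fun h => ⟨h.1, mem_cent.2 h.2.symm⟩, fun h => ⟨h.1, (mem_cent.1 h.2).symm⟩⟩)] at hfx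
    set F := (R : Subgroup G) ⊓ centralizer ({b} : Set G)
    have hdvd : Nat.card F ∣ 27 := D.sylow3_card R ▸ card_dvd_of_le inf_le_left
    have hd15 : Nat.card F ∣ 15 := D.card_cent_a_five hao haB hb hbo ▸
      card_dvd_of_le (le_inf inf_le_right (le_trans inf_le_left hR))
    have h3 : Nat.card F ∣ 3 := Nat.dvd_gcd hdvd hd15
    have := Nat.le_of_dvd (by norm_num) h3
    rw [Nat.ModEq] at hfx
    rcases (Nat.dvd_prime Nat.prime_three).1 h3 with e | e <;> rw [e] at hfx <;> norm_num at hfx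
  have hm : Nat.card (Sylow 3 H) ∈ Nat.divisors 40 := Nat.mem_divisors.2 ⟨hn, by norm_num⟩
  rw [show Nat.divisors 40 = {1, 2, 4, 5, 8, 10, 20, 40} from by decide] at hm
  simp only [Finset.mem_insert, Finset.mem_singleton] at hm
  rw [Nat.ModEq] at hmod
  rcases hm with e | e | e | e | e | e | e | e <;> rw [e] at h108 hmod h40 h4 <;> omega

include D in
/-- The main facts for one Sylow 3-subgroup. -/
theorem exists_sylow3_data : ∃ a b : G, orderOf a = 3 ∧ orderOf b = 3 ∧ ¬ IsConj a b ∧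
    (∀ c : G, orderOf c = 3 → IsConj c a ∨ IsConj c b) ∧
    Nat.card (centralizer ({a} : Set G)) = 1080 ∧ ¬ 7 ∣ Nat.card (centralizer ({b} : Set G)) ∧
    ∃ R : Sylow 3 G, Nat.card (normalizer ((R : Subgroup G) : Set G)) = 216 := by
  classical
  obtain ⟨a, hao, -, -, haB⟩ := D.exists_aElt
  obtain ⟨b, hb, hbo⟩ := D.exists_bElt (p := 3) (Or.inl rfl)
  obtain ⟨g₀, hg₀⟩ := D.aElt_conj_into_z hao haB
  have ha'o : orderOf (g₀ * a * g₀⁻¹) = 3 := (CfsgLib.Invol.orderOf_conj g₀ a).trans hao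
  have hconj : IsConj a (g₀ * a * g₀⁻¹) := isConj_iff.2 ⟨g₀, rfl⟩
  have ha1 : a ≠ 1 := fun e => by rw [e, orderOf_one] at hao; omega
  have hareal : IsConj a a⁻¹ := by
    refine hconj.trans ((D.zElt_inverted hg₀ (Or.inl rfl) ha'o).trans ?_)
    exact (isConj_iff.2 ⟨g₀, by group⟩ : IsConj a⁻¹ (g₀ * a * g₀⁻¹)⁻¹).symm
  obtain ⟨u, -, -, hbinv⟩ := D.bElt_inverted hb (Or.inl rfl) hbo
  have hbreal : IsConj b b⁻¹ := isConj_iff.2 ⟨u, hbinv⟩
  obtain ⟨R, hR, -⟩ := D.exists_sylow_normalizing hao haB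
  set N := normalizer ((R : Subgroup G) : Set G) with hN
  have hRN : (R : Subgroup G) ≤ N := Subgroup.le_normalizer
  set H := centralizer ({a} : Set G) with hH
  have haR : a ∈ (R : Subgroup G) := by
    -- `R` with `a` is a 3-group
    have haN : a ∈ N := Subgroup.mem_normalizer_fintype fun x hx => by
      rwa [show a * x * a⁻¹ = x from mul_inv_eq_iff_eq_mul.2 (mem_cent.1 (hR hx)).eq.symm]
    have hpg : IsPGroup 3 ((R : Subgroup G) ⊔ zpowers a : Subgroup G) :=
      IsPGroup.to_sup_of_normal_left' R.2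
        (IsPGroup.of_card (n := 1) (by rw [Nat.card_zpowers, hao, pow_one]))
        (zpowers_le.2 haN)
    have := R.3 hpg le_sup_left
    rw [← this]
    exact le_sup_right (a := (R : Subgroup G)) (mem_zpowers a)
  have hcenter : ∀ c ∈ (R : Subgroup G), (∀ d ∈ (R : Subgroup G), Commute c d) → c ∈ zpowers a := by
    intro c hc hall
    have hext := D.sylow3_extraspecial R
    set Z := center (R : Subgroup G)
    have haZ : (⟨a, haR⟩ : (R : Subgroup G)) ∈ Z := mem_center_iff.2 fun d =>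
      Subtype.ext (mem_cent.1 (hR d.2)).eq
    have hle : zpowers (⟨a, haR⟩ : (R : Subgroup G)) ≤ Z := zpowers_le.2 haZ
    have heq := Subgroup.eq_of_le_of_card_ge hle (by rw [hext.2, Nat.card_zpowers, Subgroup.orderOf_mk, hao])
    have hcZ : (⟨c, hc⟩ : (R : Subgroup G)) ∈ Z := mem_center_iff.2 fun d =>
      Subtype.ext (hall d d.2).eq.symm
    rw [← heq] at hcZ
    obtain ⟨i, hi⟩ := mem_zpowers_iff.1 hcZ
    exact mem_zpowers_iff.2 ⟨i, by have h := congrArg Subtype.val hi; simpa using h⟩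
  have horb : nOrbit N a = {a, a⁻¹} := by
    refine Set.Subset.antisymm ?_ ?_
    · rintro _ ⟨n, hn, rfl⟩
      have hmem : n * a * n⁻¹ ∈ zpowers a := by
        refine hcenter _ ((mem_normalizer_iff.1 hn a).1 haR) fun d hd => ?_
        have hd' : n⁻¹ * d * n ∈ (R : Subgroup G) := by
          rw [mem_normalizer_iff.1 hn, show n * (n⁻¹ * d * n) * n⁻¹ = d by group]; exact hd
        have h1 := (Commute.conj_iff n).2 (mem_cent.1 (hR hd')).symm
        rwa [show n * (n⁻¹ * d * n) * n⁻¹ = d by group] at h1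
      exact eq_or_inv_of_mem_zpowers_three hao hmem (conj_ne_one ha1)
    · rintro x (rfl | rfl)
      · exact mem_nOrbit_self N _
      · obtain ⟨g, hg⟩ := isConj_iff.1 hareal
        have hinto : ((g • R : Sylow 3 G) : Subgroup G) ≤ H := by
          rintro _ ⟨x, hx, rfl⟩
          refine mem_cent.2 ?_
          have h1 := (Commute.conj_iff g).2 (mem_cent.1 (hR hx)).inv_right
          rwa [← conj_inv, hg, inv_inv] at h1
        obtain ⟨h, hh⟩ := MulAction.exists_smul_eq H ((g • R : Sylow 3 G).subtype hinto) (R.subtype hR)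
        refine ⟨(h : G) * g, Subgroup.mem_normalizer_fintype fun x hx => ?_, ?_⟩
        · have hgx : g * x * g⁻¹ ∈ ((g • R : Sylow 3 G) : Subgroup G) := ⟨x, hx, rfl⟩
          have h3 : h * ⟨g * x * g⁻¹, hinto hgx⟩ * h⁻¹ ∈ (h • (g • R : Sylow 3 G).subtype hinto : Sylow 3 H) :=
            ⟨⟨g * x * g⁻¹, hinto hgx⟩, hgx, rfl⟩
          rw [hh] at h3
          have h4 : (h : G) * (g * x * g⁻¹) * (h : G)⁻¹ ∈ (R : Subgroup G) := h3
          show (h : G) * g * x * ((h : G) * g)⁻¹ ∈ (R : Subgroup G)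
          rwa [show (h : G) * g * x * ((h : G) * g)⁻¹ = (h : G) * (g * x * g⁻¹) * (h : G)⁻¹ by group]
        · rw [show (h : G) * g * a * ((h : G) * g)⁻¹ = (h : G) * (g * a * g⁻¹) * (h : G)⁻¹ by group, hg]
          exact mul_inv_eq_iff_eq_mul.2 (mem_cent.1 h.2).inv_right.eq
  have haa : a ≠ a⁻¹ := fun h => by
    have h2 : a ^ 2 = 1 := by rw [pow_two]; nth_rw 1 [h]; group
    have := orderOf_dvd_of_pow_eq_one h2
    rw [hao] at this; norm_num at this
  have hN216 : Nat.card N = 216 := by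
    rw [← card_orbit_mul N (hRN haR), horb, Nat.card_coe_set_eq, Set.ncard_pair haa,
      D.card_stab_a hao haB R hR]
  have hne : ¬ IsConj a b := fun h => by
    obtain ⟨g, hg⟩ := isConj_iff.1 ((hconj.symm.trans h).symm)
    exact D.not_conj_zb (g := g) (Or.inl rfl) hg₀ ha'o hb hbo (by rw [hg]; exact mem_zpowers _)
  have h7 : ¬ 7 ∣ Nat.card (centralizer ({b} : Set G)) := by
    rcases D.card_cent_B hb (Or.inl rfl) hbo with h | ⟨h, -⟩ <;> rw [h] <;> norm_num
  -- classes
  have hpow : ∀ (y : G), orderOf y = 3 → IsConj y y⁻¹ → ∀ c g : G, c ≠ 1 → g * c * g⁻¹ ∈ zpowers y →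
      IsConj c y := by
    intro y hy hyr c g hc hg
    rcases eq_or_inv_of_mem_zpowers_three hy hg (conj_ne_one hc) with e | e
    · exact isConj_iff.2 ⟨g, e⟩
    · exact (isConj_iff.2 ⟨g, e⟩).trans hyr.symm
  have heven : ∀ c w : G, orderOf c = 3 → orderOf w = 2 → Commute w c → IsConj c a ∨ IsConj c b := by
    intro c w hc hw hwc
    have hc1 : c ≠ 1 := fun e => by rw [e, orderOf_one] at hc; omega
    obtain ⟨g, hg⟩ := D.even_class (Or.inl rfl) hg₀ ha'o hb hbo hc hw hwc
    rcases hg with hg | hg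
    · exact Or.inl ((hpow _ ha'o (D.zElt_inverted hg₀ (Or.inl rfl) ha'o) c g hc1 hg).trans hconj.symm)
    · exact Or.inr (hpow _ hbo hbreal c g hc1 hg)
  refine ⟨a, b, hao, hbo, hne, fun c hc => ?_, D.card_cent_aElt hao haB, h7, R, hN216⟩
  by_contra hno
  simp only [not_or] at hno
  obtain ⟨g, hgc⟩ := D.exists_conj_sylow3 R hc
  set c' := g * c * g⁻¹ with hc'
  have hcc' : IsConj c c' := isConj_iff.2 ⟨g, rfl⟩
  have hc'o : orderOf c' = 3 := (CfsgLib.Invol.orderOf_conj g c).trans hc
  have hc'1 : c' ≠ 1 := fun e => by rw [e, orderOf_one] at hc'o; omega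
  have hc'a : c' ∉ zpowers a := fun h => hno.1 (hcc'.trans (by
    rcases eq_or_inv_of_mem_zpowers_three hao h hc'1 with e | e
    · rw [e]
    · rw [e]; exact hareal.symm))
  set St := N ⊓ centralizer ({c'} : Set G) with hSt
  have hmul := card_orbit_mul N (hRN hgc)
  rw [← hSt, hN216] at hmul
  have hodd : ¬ 2 ∣ Nat.card St := fun h2 => by
    haveI : Fact (Nat.Prime 2) := ⟨Nat.prime_two⟩
    obtain ⟨w, hw⟩ := exists_prime_orderOf_dvd_card' (G := St) 2 h2
    rcases heven c' w hc'o ((Subgroup.orderOf_coe w).trans hw) (mem_cent.1 w.2.2) with e | e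
    · exact hno.1 (hcc'.trans e)
    · exact hno.2 (hcc'.trans e)
  have h9 : 9 ∣ Nat.card St := by
    have haSt : a ∈ St := ⟨hRN haR, mem_cent.2 (mem_cent.1 (hR hgc)).symm⟩
    have hcSt : c' ∈ St := ⟨hRN hgc, mem_cent.2 (Commute.refl c')⟩
    let ψ : zpowers a × zpowers c' →* G := MonoidHom.noncommCoprod (zpowers a).subtype (zpowers c').subtype
      fun x y => commute_of_mem_zpowers y.2 (commute_of_mem_zpowers x.2 (mem_cent.1 (hR hgc))).symm
    have hψ : Function.Injective ψ := by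
      rw [injective_iff_map_eq_one]
      rintro ⟨x, y⟩ he
      have he' : (x : G) * (y : G) = 1 := he
      have hy1 : (y : G) = 1 := by
        by_contra hne'
        have hy : (y : G) ∈ zpowers a := by rw [eq_inv_of_mul_eq_one_right he']; exact inv_mem x.2
        exact hc'a ((zpowers_le.2 hy) (mem_zpowers_symm (p := 3) y.2 hc'o hne'))
      have hx1 : (x : G) = 1 := by rwa [hy1, mul_one] at he'
      exact Prod.ext (Subtype.ext hx1) (Subtype.ext hy1)
    have hle : ψ.range ≤ St := by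
      rintro _ ⟨⟨x, y⟩, rfl⟩
      have : ψ (x, y) = (x : G) * (y : G) := rfl
      rw [this]
      exact mul_mem (zpowers_le.2 haSt x.2) (zpowers_le.2 hcSt y.2)
    have := card_dvd_of_le hle
    rwa [← Nat.card_congr (MonoidHom.ofInjective hψ).toEquiv, Nat.card_prod, Nat.card_zpowers,
      Nat.card_zpowers, hao, hc'o] at this
  have h27 : Nat.card St ≠ 27 := fun h => by
    have hpg : IsPGroup 3 St := IsPGroup.of_card (n := 3) (by rw [h]; norm_num)
    have hsup : IsPGroup 3 ((R : Subgroup G) ⊔ St : Subgroup G) :=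
      IsPGroup.to_sup_of_normal_left' R.2 hpg inf_le_left
    have hle : St ≤ (R : Subgroup G) := (R.3 hsup le_sup_left) ▸ le_sup_right
    have heq := Subgroup.eq_of_le_of_card_ge hle (by rw [h, D.sylow3_card R])
    refine hc'a (hcenter c' hgc fun d hd => ?_)
    rw [← heq] at hd
    exact (mem_cent.1 hd.2).symm
  obtain ⟨l, hl⟩ := h9
  rw [hl] at hmul hodd h27
  have hl24 : Nat.card (nOrbit N c') * l = 24 := by nlinarith
  have hlm : l ∈ Nat.divisors 24 := Nat.mem_divisors.2 ⟨Dvd.intro_left _ hl24, by norm_num⟩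
  rw [show Nat.divisors 24 = {1, 2, 3, 4, 6, 8, 12, 24} from by decide] at hlm
  simp only [Finset.mem_insert, Finset.mem_singleton] at hlm
  have hl1 : l = 1 := by omega
  rw [hl1, mul_one] at hl24
  -- the orbit is everything outside the centre
  have hsub : nOrbit N c' ⊆ ((R : Subgroup G) : Set G) \ ((zpowers a : Subgroup G) : Set G) := by
    rintro _ ⟨n, hn, rfl⟩
    refine ⟨(mem_normalizer_iff.1 hn c').1 hgc, fun h => hno.1 ?_⟩
    refine hcc'.trans ((isConj_iff.2 ⟨n, rfl⟩ : IsConj c' (n * c' * n⁻¹)).trans ?_)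
    rcases eq_or_inv_of_mem_zpowers_three hao h (conj_ne_one hc'1) with e | e
    · rw [e]
    · rw [e]; exact hareal.symm
  have hfull := Set.eq_of_subset_of_ncard_le hsub (by
    rw [Set.ncard_sdiff (zpowers_le.2 haR) (Set.toFinite _), ← Nat.card_coe_set_eq, ← Nat.card_coe_set_eq,
      ← Nat.card_coe_set_eq, hl24,
      show Nat.card ↥((R : Subgroup G) : Set G) = 27 from D.sylow3_card R,
      show Nat.card ↥((zpowers a : Subgroup G) : Set G) = 3 from (Nat.card_zpowers a).trans hao])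
    (Set.toFinite _)
  obtain ⟨k, hk⟩ := D.exists_conj_sylow3 R hbo
  have hb1 : b ≠ 1 := fun e => by rw [e, orderOf_one] at hbo; omega
  have hbk : k * b * k⁻¹ ∈ nOrbit N c' := by
    rw [hfull]
    exact ⟨hk, fun h => hne ((hpow a hao hareal b k hb1 h).symm)⟩
  obtain ⟨n, -, hn⟩ := hbk
  exact hno.2 (hcc'.trans ((isConj_iff.2 ⟨n, hn⟩).trans (isConj_iff.2 ⟨k, rfl⟩).symm))

end Data

end CfsgLib.JTwoType
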