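import Cfsg.Agent.Lib.JTwoType.Basic
import Cfsg.Agent.Lib.JTwoType.Four
import Mathlib.GroupTheory.PGroup
import Mathlib.GroupTheory.QuotientGroup.Basic

/-!
# Groups of Hall–Janko type: centralizers of the elements of order 3 and 5 of `C(t)`
-/

set_option autoImplicit false

namespace CfsgLib.JTwoType

open Subgroup CfsgLib.Invol

universe u

variable {G : Type u} [Group G] [Finite G] (D : Data G)

namespace Data

/-- Some conjugate of `t` in `V` is reached from `C(b)`. -/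
theorem exists_mover {b : G} (hb : b ∈ D.B) {p : ℕ} (hp : p = 3 ∨ p = 5) (hbo : orderOf b = p)
    {v : G} (hv : v ∈ D.V) (h1 : v ≠ 1) (hvt : v ≠ D.t) :
    ∃ g : G, Commute g b ∧ g * D.t * g⁻¹ = v := by
  haveI : Fact p.Prime := ⟨by rcases hp with rfl | rfl <;> norm_num⟩
  obtain ⟨k, hk⟩ := isConj_iff.1 (D.v_conj_t hv h1).symm
  obtain ⟨-, hkV, hkB⟩ := D.normalizes (g := k) (by rw [hk]; exact hv)
  set w := D.t * v with hw
  have hwV : w ∈ D.V := mul_mem D.ht.htV hv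
  have ht1 : D.t ≠ 1 := ne_one_of_invol D.ht.ht
  have hw1 : w ≠ 1 := fun e => hvt (by
    rw [← inv_eq_of_mul_eq_one_right e, inv_eq_self D.ht.ht])
  have hfix : ∀ x ∈ D.V, x ≠ 1 → k * x * k⁻¹ = x → k * D.t * k⁻¹ = D.t := by
    intro x hx hx1 hkx
    have : k ∈ centralizer ({x} : Set G) := mem_cent.2 (mul_inv_eq_iff_eq_mul.1 hkx)
    rw [D.v_cent hx hx1, mem_cent] at this
    exact mul_inv_eq_iff_eq_mul.2 this
  have hV4 : ∀ x ∈ D.V, x = 1 ∨ x = D.t ∨ x = v ∨ x = w := by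
    classical
    intro x hx
    by_contra hne
    simp only [not_or] at hne
    haveI := Fintype.ofFinite D.V
    have h5 := Finset.card_le_univ ({(1 : D.V), ⟨D.t, D.ht.htV⟩, ⟨v, hv⟩, ⟨w, hwV⟩, ⟨x, hx⟩} : Finset D.V)
    rw [← Nat.card_eq_fintype_card, D.ht.hV] at h5
    have e1 : w ≠ D.t := fun e => h1 (mul_left_cancel (e.trans (mul_one _).symm))
    have e2 : w ≠ v := fun e => ht1 (mul_right_cancel (e.trans (one_mul _).symm))
    repeat rw [Finset.card_insert_of_notMem] at h5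
    · simp at h5
    all_goals simp only [Finset.mem_insert, Finset.mem_singleton, not_or, Subtype.ext_iff,
      OneMemClass.coe_one]
    · exact Ne.symm hne.2.2.2
    · exact ⟨Ne.symm e2, Ne.symm hne.2.2.1⟩
    · exact ⟨Ne.symm hvt, Ne.symm e1, Ne.symm hne.2.1⟩
    · exact ⟨Ne.symm ht1, Ne.symm h1, Ne.symm hw1, Ne.symm hne.1⟩
  have hkv : k * v * k⁻¹ = w := by
    have hmem := hkV v hv
    rcases hV4 _ hmem with e | e | e | e
    · exact absurd (conj_eq_one_iff.1 e) h1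
    · exfalso
      refine hvt (hk.symm.trans (hfix w hwV hw1 ?_))
      rw [hw, ← conj_mul, hk, e]
      exact D.v_comm hv D.ht.htV
    · exfalso
      exact hvt (mul_left_cancel (mul_right_cancel (e.trans hk.symm)))
    · exact e
  have hkw : k * w * k⁻¹ = D.t := by
    rw [hw, ← conj_mul, hk, hkv, hw, D.v_comm D.ht.htV hv, ← mul_assoc, D.v_sq hv, one_mul]
  have hk4 : k ^ 4 * D.t * (k ^ 4)⁻¹ = v := by
    rw [show k ^ 4 * D.t * (k ^ 4)⁻¹ = k * (k * (k * (k * D.t * k⁻¹) * k⁻¹) * k⁻¹) * k⁻¹ by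
        rw [pow_succ, pow_succ, pow_succ, pow_one]; group,
      hk, hkv, hkw, hk]
  -- the conjugate of `b` in `B`
  have hp60 : p ∣ Nat.card D.B := by rw [D.bCard]; rcases hp with rfl | rfl <;> norm_num
  have hp60' : ¬ p ^ 2 ∣ Nat.card D.B := by rw [D.bCard]; rcases hp with rfl | rfl <;> norm_num
  obtain ⟨c₀, hc₀⟩ := exists_conj_zpowers (G := D.B) hp60 hp60'
    (a := ⟨k * b * k⁻¹, hkB b hb⟩) (b := ⟨b, hb⟩)
    (by rw [Subgroup.orderOf_mk, CfsgLib.Invol.orderOf_conj, hbo]) (by rw [Subgroup.orderOf_mk, hbo])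
  obtain ⟨i, hi⟩ := mem_zpowers_iff.1 hc₀
  have hstep : k * b * k⁻¹ = (c₀ : G)⁻¹ * b ^ i * c₀ := by
    have h := congrArg Subtype.val hi
    simp only [SubgroupClass.coe_zpow, Subgroup.coe_mul, InvMemClass.coe_inv] at h
    rw [h]; group
  have hind : ∀ n : ℕ, ∃ c ∈ D.B, k ^ n * b * (k ^ n)⁻¹ = c * b ^ (i ^ n) * c⁻¹ := by
    intro n
    induction n with
    | zero => exact ⟨1, one_mem _, by simp⟩
    | succ n ih =>
      obtain ⟨c, hc, he⟩ := ih
      refine ⟨k * c * k⁻¹ * (c₀ : G)⁻¹, mul_mem (hkB c hc) (inv_mem c₀.2), ?_⟩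
      rw [show k ^ (n + 1) * b * (k ^ (n + 1))⁻¹ = k * (k ^ n * b * (k ^ n)⁻¹) * k⁻¹ by group, he,
        show k * (c * b ^ i ^ n * c⁻¹) * k⁻¹ = k * c * k⁻¹ * (k * b ^ i ^ n * k⁻¹) * (k * c * k⁻¹)⁻¹ by
          group, ← conj_zpow, hstep,
        show ((c₀ : G)⁻¹ * b ^ i * c₀) ^ i ^ n = (c₀ : G)⁻¹ * (b ^ i) ^ i ^ n * c₀ by
          have := conj_zpow (i := i ^ n) (a := (c₀ : G)⁻¹) (b := b ^ i)
          simpa using this, ← zpow_mul, ← pow_succ']
      group
  obtain ⟨c, hc, he⟩ := hind 4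
  have hi0 : ¬ (p : ℤ) ∣ i := by
    intro h
    have h' : b ^ i = 1 := by rw [← orderOf_dvd_iff_zpow_eq_one, hbo]; exact h
    rw [h', mul_one, inv_mul_cancel] at hstep
    have : b = 1 := conj_eq_one_iff.1 hstep
    rw [this, orderOf_one] at hbo; omega
  have hi4 : (i ^ 4 : ℤ) % p = 1 := by
    have hlt := Int.emod_lt_of_pos i (show (0 : ℤ) < p by rcases hp with rfl | rfl <;> norm_num)
    have hge := Int.emod_nonneg i (show (p : ℤ) ≠ 0 by rcases hp with rfl | rfl <;> norm_num)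
    have hne : i % p ≠ 0 := fun h => hi0 (Int.dvd_of_emod_eq_zero h)
    rw [show (i ^ 4 : ℤ) % p = ((i % p) ^ 4) % p from (Int.ModEq.pow 4 (Int.mod_modEq i p)).symm]
    generalize i % p = r at *
    rcases hp with rfl | rfl
    · push_cast at *; interval_cases r <;> simp_all
    · push_cast at *; interval_cases r <;> simp_all
  have hb4 : b ^ (i ^ 4 : ℤ) = b := by
    rw [← zpow_mod_orderOf, hbo, hi4, zpow_one]
  rw [hb4] at he
  refine ⟨c⁻¹ * k ^ 4, ?_, ?_⟩
  · show c⁻¹ * k ^ 4 * b = b * (c⁻¹ * k ^ 4)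
    calc c⁻¹ * k ^ 4 * b = c⁻¹ * (k ^ 4 * b * (k ^ 4)⁻¹) * k ^ 4 := by group
      _ = b * (c⁻¹ * k ^ 4) := by rw [he]; group
  · rw [show c⁻¹ * k ^ 4 * D.t * (c⁻¹ * k ^ 4)⁻¹ = c⁻¹ * (k ^ 4 * D.t * (k ^ 4)⁻¹) * c by group,
      hk4, mul_assoc, D.vb_comm hv hc, ← mul_assoc, inv_mul_cancel, one_mul]

/-- A 2-subgroup of `C(b)` containing `V` equals `V`. -/
theorem two_subgroup_eq_V {b : G} (hb : b ∈ D.B) {p : ℕ} (hp : p = 3 ∨ p = 5) (hbo : orderOf b = p)
    (S : Subgroup G) (hS : IsPGroup 2 S) (hVS : D.V ≤ S) (hSb : S ≤ centralizer ({b} : Set G)) :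
    S = D.V := by
  haveI : Fact (Nat.Prime 2) := ⟨Nat.prime_two⟩
  obtain ⟨-, hdec⟩ := D.card_cent_inf_of_mem_B hb hp hbo
  have hmem : ∀ x ∈ S, x ∈ centralizer ({D.t} : Set G) → x ∈ D.V := by
    intro x hx hxt
    obtain ⟨v, hv, c, hc, rfl⟩ := hdec x ⟨hSb hx, hxt⟩
    obtain ⟨j, hj⟩ := hS ⟨v * c, hx⟩
    have hcB : c ∈ D.B := zpowers_le.2 hb hc
    have hcS : c ∈ S := by
      have := mul_mem (inv_mem (hVS hv)) hx; rwa [inv_mul_cancel_left] at this
    obtain ⟨l, hl⟩ := hS ⟨c, hcS⟩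
    have hd1 : orderOf c ∣ 2 ^ l := orderOf_dvd_of_pow_eq_one (congrArg Subtype.val hl)
    have hd2 : orderOf c ∣ p := by
      rw [← hbo, ← Nat.card_zpowers b, ← Subgroup.orderOf_mk c hc]; exact orderOf_dvd_natCard _
    have hcop : Nat.Coprime (2 ^ l) p :=
      Nat.Coprime.pow_left _ (by rcases hp with rfl | rfl <;> norm_num)
    rw [orderOf_eq_one_iff.1 (Nat.eq_one_of_dvd_coprimes hcop hd1 hd2), mul_one]
    exact hv
  refine le_antisymm (fun x hx => ?_) hVS
  haveI : Nontrivial S := ⟨⟨D.t, hVS D.ht.htV⟩, 1,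
    fun e => ne_one_of_invol D.ht.ht (congrArg Subtype.val e)⟩
  haveI := hS.center_nontrivial
  obtain ⟨y, hy⟩ := exists_prime_orderOf_dvd_card' (G := center S) 2 (by
    obtain ⟨n, hn⟩ := IsPGroup.iff_card.1 (hS.to_subgroup (center S))
    rw [hn]
    exact dvd_pow_self 2 fun h0 => (Finite.one_lt_card (α := center S)).ne'
      (by rw [hn, h0, pow_zero]))
  have hy1 : (y : S).1 ≠ 1 := fun h => by
    rw [show y = 1 from Subtype.ext (Subtype.ext h), orderOf_one] at hy; omega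
  have hcomm : ∀ s, s ∈ S → Commute s (y : S).1 := fun s hs =>
    congrArg Subtype.val ((mem_center_iff.1 y.2) ⟨s, hs⟩)
  have hyV : (y : S).1 ∈ D.V :=
    hmem _ (y : S).2 (mem_cent.2 (hcomm D.t (hVS D.ht.htV)).symm)
  refine hmem x hx ?_
  rw [← D.v_cent hyV hy1, mem_cent]
  exact hcomm x hx

/-- Every involution of `C(b)` is conjugate there to `t`. -/
theorem invol_conj_t {b : G} (hb : b ∈ D.B) {p : ℕ} (hp : p = 3 ∨ p = 5) (hbo : orderOf b = p)
    {x : G} (hx : orderOf x = 2) (hxb : Commute x b) :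
    ∃ g : G, Commute g b ∧ g * x * g⁻¹ = D.t := by
  haveI : Fact (Nat.Prime 2) := ⟨Nat.prime_two⟩
  set H := centralizer ({b} : Set G)
  have hVH : D.V ≤ H := fun v hv => mem_cent.2 (D.vb_comm hv hb)
  have hV2 : IsPGroup 2 (D.V.subgroupOf H) :=
    IsPGroup.of_card (n := 2) (by rw [Nat.card_congr (subgroupOfEquivOfLe hVH).toEquiv, D.ht.hV]; rfl)
  obtain ⟨S, hS⟩ := hV2.exists_le_sylow
  have hSV : (S : Subgroup H).map H.subtype = D.V := by
    refine D.two_subgroup_eq_V hb hp hbo _ (S.2.map _) (fun v hv => ?_) (map_subtype_le _)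
    exact ⟨⟨v, hVH hv⟩, hS hv, rfl⟩
  have hxH : x ∈ H := mem_cent.2 hxb
  obtain ⟨T, hT⟩ := (IsPGroup.of_card (n := 1) (by rw [Nat.card_zpowers, Subgroup.orderOf_mk, hx, pow_one]) :
    IsPGroup 2 (zpowers (⟨x, hxH⟩ : H))).exists_le_sylow
  obtain ⟨h, hh⟩ := MulAction.exists_smul_eq H T S
  have hmem : (h : G) * x * (h : G)⁻¹ ∈ D.V := by
    have h1 : h * ⟨x, hxH⟩ * h⁻¹ ∈ (h • T : Sylow 2 H) := ⟨⟨x, hxH⟩, hT (mem_zpowers _), rfl⟩
    rw [hh] at h1
    rw [← hSV]
    exact ⟨_, h1, rfl⟩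
  have hne : (h : G) * x * (h : G)⁻¹ ≠ 1 :=
    ne_one_of_invol ((CfsgLib.Invol.orderOf_conj _ x).trans hx)
  have hhb : Commute (h : G) b := mem_cent.1 h.2
  by_cases ht : (h : G) * x * (h : G)⁻¹ = D.t
  · exact ⟨h, hhb, ht⟩
  obtain ⟨g, hgb, hg⟩ := D.exists_mover hb hp hbo hmem hne ht
  refine ⟨g⁻¹ * h, hgb.inv_left.mul_left hhb, ?_⟩
  calc g⁻¹ * (h : G) * x * (g⁻¹ * (h : G))⁻¹ = g⁻¹ * ((h : G) * x * (h : G)⁻¹) * g := by group
    _ = D.t := by rw [← hg]; group

/-- The centralizer of an element of order 3 or 5 of `B`. -/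
theorem card_cent_B {b : G} (hb : b ∈ D.B) {p : ℕ} (hp : p = 3 ∨ p = 5) (hbo : orderOf b = p) :
    Nat.card (centralizer ({b} : Set G)) = 12 * p ∨
      (Nat.card (centralizer ({b} : Set G)) = 60 * p ∧
        ∀ q : ℕ, q = 3 ∨ q = 5 → ∀ u : G, u ^ q = 1 → u ∉ zpowers b → Commute u b →
          Nat.card (centralizer ({b} : Set G) ⊓ centralizer ({u} : Set G) : Subgroup G) ∣ p * q) := by
  classical
  set H := centralizer ({b} : Set G) with hH
  have hbH : b ∈ H := mem_cent.2 (Commute.refl b)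
  set N := (zpowers b).subgroupOf H with hN
  haveI : N.Normal := ⟨fun n hn g => by
    have hn' : (n : G) ∈ zpowers b := hn
    obtain ⟨i, hi⟩ := mem_zpowers_iff.1 hn'
    show (g : G) * n * (g : G)⁻¹ ∈ zpowers b
    rw [← hi, show (g : G) * b ^ i * (g : G)⁻¹ = b ^ i from
      mul_inv_eq_iff_eq_mul.2 (Commute.zpow_right (mem_cent.1 g.2) i)]
    exact mem_zpowers_iff.2 ⟨i, rfl⟩⟩
  let X := H ⧸ N
  let π : H →* X := QuotientGroup.mk' N
  have hVH : D.V ≤ H := fun v hv => mem_cent.2 (D.vb_comm hv hb)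
  let ι : D.V →* X := π.comp (Subgroup.inclusion hVH)
  have hker : ∀ v : D.V, ι v = 1 → v = 1 := fun v hv => by
    have h'' : Subgroup.inclusion hVH v ∈ N := (QuotientGroup.eq_one_iff _).1 hv
    have h' : (v : G) ∈ zpowers b := h''
    exact Subtype.ext (D.eq_one_of_mem_both v.2 (zpowers_le.2 hb h'))
  have hinj : Function.Injective ι := (injective_iff_map_eq_one ι).2 hker
  have hodd : ∀ c ∈ zpowers b, c * c = 1 → c = 1 := by
    intro c hc h2
    by_contra h1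
    have hd : orderOf c ∣ p := by
      rw [← hbo, ← Nat.card_zpowers b, ← Subgroup.orderOf_mk c hc]; exact orderOf_dvd_natCard _
    rw [orderOf_eq_two h1 h2] at hd
    rcases hp with rfl | rfl <;> norm_num at hd
  have hlift : ∀ x : X, orderOf x = 2 → ∃ u : H, π u = x ∧ orderOf (u : G) = 2 := by
    intro x hx
    obtain ⟨u, rfl⟩ := QuotientGroup.mk'_surjective N x
    have h2 : π u * π u = 1 := mul_self_eq_one hx
    have huN' : u * u ∈ N := by
      rw [← map_mul] at h2; exact (QuotientGroup.eq_one_iff _).1 h2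
    have huN : ((u * u : H) : G) ∈ zpowers b := huN'
    have hpo : Odd p := by rcases hp with rfl | rfl <;> decide
    have himg : π (u ^ p) = π u := by
      obtain ⟨k, hk⟩ := hpo
      rw [map_pow, hk, pow_succ, pow_mul, pow_two, h2, one_pow, one_mul]
    refine ⟨u ^ p, himg, orderOf_eq_two (fun h1 => ?_) ?_⟩
    · rw [show u ^ p = 1 from Subtype.ext h1, map_one] at himg
      exact ne_one_of_invol hx himg.symm
    · obtain ⟨i, hi⟩ := mem_zpowers_iff.1 huN
      rw [SubgroupClass.coe_pow, ← (Commute.refl (u : G)).mul_pow, ← Subgroup.coe_mul, ← hi, ← zpow_natCast, ← zpow_mul, mul_comm, zpow_mul, zpow_natCast,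
        show b ^ p = 1 from hbo ▸ pow_orderOf_eq_one b, one_zpow]
  have hF : FourHyp ι.range := by
    refine ⟨?_, ?_, ?_, ?_, ?_⟩
    · rw [← Nat.card_congr (MonoidHom.ofInjective hinj).toEquiv, D.ht.hV]
    · rintro _ ⟨v, rfl⟩
      rw [← map_mul, show v * v = 1 from Subtype.ext (D.v_sq v.2), map_one]
    · rintro _ ⟨v, rfl⟩ hv1
      have hv1' : (v : G) ≠ 1 := fun h => hv1 (by rw [show v = 1 from Subtype.ext h, map_one])
      refine le_antisymm (fun x hx => ?_) ?_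
      · obtain ⟨u, rfl⟩ := QuotientGroup.mk'_surjective N x
        have hcm : π u * ι v = ι v * π u := mem_centralizer_singleton_iff.1 hx
        have hcN : (v : G)⁻¹ * ((u : G) * v * (u : G)⁻¹) ∈ zpowers b := by
          have h1 : π ((⟨v, hVH v.2⟩ : H)⁻¹ * (u * ⟨v, hVH v.2⟩ * u⁻¹)) = 1 := by
            rw [map_mul, map_mul, map_mul, map_inv, map_inv]
            show (ι v)⁻¹ * (π u * ι v * (π u)⁻¹) = 1
            rw [hcm]; group
          have h1' : (⟨v, hVH v.2⟩ : H)⁻¹ * (u * ⟨v, hVH v.2⟩ * u⁻¹) ∈ N :=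
            (QuotientGroup.eq_one_iff _).1 h1
          exact h1'
        set c := (v : G)⁻¹ * ((u : G) * v * (u : G)⁻¹) with hc
        have hvc : Commute (v : G) c := D.vb_comm v.2 (zpowers_le.2 hb hcN)
        have hc2 : c * c = 1 := by
          have h2 : ((v : G) * c) * ((v : G) * c) = 1 := by
            rw [hc, mul_inv_cancel_left, conj_mul, D.v_sq v.2]; simp
          rwa [hvc.symm.mul_mul_mul_comm, D.v_sq v.2, one_mul] at h2
        have huv : (u : G) * v * (u : G)⁻¹ = v := by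
          have := hodd c hcN hc2
          rw [hc, inv_mul_eq_one] at this
          exact this.symm
        have hut : (u : G) ∈ centralizer ({D.t} : Set G) := by
          rw [← D.v_cent v.2 hv1', mem_cent]; exact mul_inv_eq_iff_eq_mul.1 huv
        obtain ⟨w, hw, c', hc', hwc⟩ := (D.card_cent_inf_of_mem_B hb hp hbo).2 _ ⟨u.2, hut⟩
        refine ⟨⟨w, hw⟩, ?_⟩
        show π ⟨w, hVH hw⟩ = π u
        refine QuotientGroup.eq.2 ?_
        show w⁻¹ * (u : G) ∈ zpowers b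
        rw [← hwc, inv_mul_cancel_left]; exact hc'
      · rintro _ ⟨w, rfl⟩
        rw [mem_centralizer_singleton_iff, ← map_mul, ← map_mul]
        exact congrArg ι (Subtype.ext (D.v_comm w.2 v.2))
    · intro x hx
      obtain ⟨u, rfl, hu⟩ := hlift x hx
      obtain ⟨g, hgb, hg⟩ := D.invol_conj_t hb hp hbo hu (mem_cent.1 u.2)
      refine ⟨π ⟨g, mem_cent.2 hgb⟩, ⟨D.t, D.ht.htV⟩, ?_⟩
      rw [← map_inv, ← map_mul, ← map_mul]
      exact congrArg π (Subtype.ext hg.symm)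
    · intro x y hx hy
      obtain ⟨u, rfl, hu⟩ := hlift x hx
      obtain ⟨w, rfl, hw⟩ := hlift y hy
      obtain ⟨g, hgb, hg⟩ := D.invol_conj_t hb hp hbo hu (mem_cent.1 u.2)
      obtain ⟨k, hkb, hk⟩ := D.invol_conj_t hb hp hbo hw (mem_cent.1 w.2)
      refine isConj_iff.2 ⟨π ⟨k⁻¹ * g, mem_cent.2 (hkb.inv_left.mul_left hgb)⟩, ?_⟩
      rw [← map_inv, ← map_mul, ← map_mul]
      refine congrArg π (Subtype.ext ?_)
      show k⁻¹ * g * (u : G) * (k⁻¹ * g)⁻¹ = (w : G)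
      calc k⁻¹ * g * (u : G) * (k⁻¹ * g)⁻¹ = k⁻¹ * (g * u * g⁻¹) * k := by group
        _ = k⁻¹ * (k * w * k⁻¹) * k := by rw [hg, hk]
        _ = w := by group
  have hNc : Nat.card N = p := by
    rw [Nat.card_congr (subgroupOfEquivOfLe (zpowers_le.2 hbH)).toEquiv, Nat.card_zpowers, hbo]
  have hHX : Nat.card H = p * Nat.card X := by rw [← N.card_mul_index, hNc]; rfl
  rcases hF.card_cases with h12 | ⟨h60, hcent⟩
  · left; rw [hHX, h12, mul_comm]
  right
  refine ⟨by rw [hHX, h60, mul_comm], fun q hq u huq hub hcomm => ?_⟩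
  haveI : Fact q.Prime := ⟨by rcases hq with rfl | rfl <;> norm_num⟩
  let ū : H := ⟨u, mem_cent.2 hcomm⟩
  have hne : π ū ≠ 1 := fun h => by
    have h' : ū ∈ N := (QuotientGroup.eq_one_iff _).1 h
    exact hub h'
  have hord : orderOf (π ū) = q := orderOf_eq_prime
    (by rw [← map_pow, show ū ^ q = 1 from Subtype.ext huq, map_one]) hne
  have hC := hcent (π ū) (hord ▸ hq)
  rw [hord] at hC
  have hle : (centralizer ({u} : Set G)).subgroupOf H ≤ (centralizer ({π ū} : Set X)).comap π := by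
    intro g hg
    show π g ∈ centralizer _
    rw [mem_centralizer_singleton_iff, ← map_mul, ← map_mul]
    exact congrArg π (Subtype.ext (mem_cent.1 hg).eq)
  have hcard : Nat.card ((centralizer ({π ū} : Set X)).comap π) = p * q := by
    have h1 := Subgroup.index_comap_of_surjective (centralizer ({π ū} : Set X))
      (f := π) (QuotientGroup.mk'_surjective N)
    have h2 := ((centralizer ({π ū} : Set X)).comap π).card_mul_index
    have h3 := (centralizer ({π ū} : Set X)).card_mul_index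
    rw [h1, hHX, ← h3, hC, ← mul_assoc] at h2
    exact Nat.eq_of_mul_eq_mul_right (Nat.pos_of_ne_zero index_ne_zero_of_finite) h2
  rw [← hcard, ← Nat.card_congr (subgroupOfEquivOfLe
    (inf_le_left : H ⊓ centralizer ({u} : Set G) ≤ H)).toEquiv, inf_subgroupOf_left]
  exact card_dvd_of_le hle

end Data

end CfsgLib.JTwoType
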